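import Cfsg.Agent.H645.FT.Ess
import Cfsg.Agent.H794.SmallFix
import Cfsg.Agent.Lib.InvolutionKernel
import Mathlib.GroupTheory.FixedPointFree
import Mathlib
set_option linter.all false

-- part: H352/FTF1
section
/-!
# S4544, lemma F1 (helper352, plan of helper645)

An involution of a group of automorphisms of order `2 m`, `m` odd, of an abelian `2`-group acting as a transvection.
-/

set_option autoImplicit false
set_option linter.style.haveILetI false
set_option linter.unusedSectionVars false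

namespace Cfsg.Agent.H352.FTF1

open Cfsg Cfsg.FusionSystem Cfsg.Agent.H645.FT

section

variable {E : Type*} [CommGroup E]

/-- `v ↦ v⁻¹ δ v` -/
def dif (δ : MulAut E) : E →* E where
  toFun v := v⁻¹ * δ v
  map_one' := by simp
  map_mul' v w := by
    rw [map_mul, mul_inv]
    exact mul_mul_mul_comm _ _ _ _

theorem dif_apply (δ : MulAut E) (v : E) : dif δ v = v⁻¹ * δ v := rfl

theorem apply_eq (δ : MulAut E) (v : E) : δ v = v * dif δ v := by
  rw [dif_apply, mul_inv_cancel_left]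

theorem dif_comm {δ ε : MulAut E} (h : δ * ε = ε * δ) (v : E) : ε (dif δ v) = dif δ (ε v) := by
  rw [dif_apply, dif_apply, map_mul, map_inv]
  congr 1
  exact (congrArg (fun f : MulAut E => f v) h).symm

variable [Finite E]

theorem fix (h2 : IsPGroup 2 E) {δ : MulAut E} (hδ : ¬ 2 ∣ orderOf δ) {v : E} (h : δ (dif δ v) = dif δ v) :
    δ v = v :=
  Cfsg.Agent.H794.fix_of_fix_div h2 δ ((Nat.Prime.coprime_iff_not_dvd Nat.prime_two).2 hδ).symm v h

theorem eq_one_of (h2 : IsPGroup 2 E) {δ : MulAut E} (hδ : ¬ 2 ∣ orderOf δ) (h : ∀ v, δ (dif δ v) = dif δ v) :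
    δ = 1 :=
  MulEquiv.ext fun v => fix h2 hδ (h v)

/-- an automorphism of odd order with `[E, δ]` of order at most `2` is trivial -/
theorem triv_of_two (h2 : IsPGroup 2 E) {δ : MulAut E} (hδ : ¬ 2 ∣ orderOf δ) {c : E} (hc : c * c = 1)
    (h : ∀ v, dif δ v = 1 ∨ dif δ v = c) : δ = 1 := by
  have hcc : δ c = c := by
    rcases h c with h1 | h1
    · rw [apply_eq, h1, mul_one]
    · have h3 : δ c = 1 := by rw [apply_eq, h1, hc]
      have h4 : c = 1 := by simpa using h3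
      rw [h4, map_one]
  refine eq_one_of h2 hδ fun v => ?_
  rcases h v with h1 | h1
  · rw [h1, map_one]
  · rw [h1, hcc]

/-- `[E, δ]` for a product `δ` of two transvections -/
theorem range_eq (h2 : IsPGroup 2 E) {δ : MulAut E} (hδ : ¬ 2 ∣ orderOf δ) (hδ1 : δ ≠ 1) {d d' : E}
    (hd : d * d = 1) (hd' : d' * d' = 1)
    (h : ∀ v, dif δ v = 1 ∨ dif δ v = d ∨ dif δ v = d' ∨ dif δ v = d * d') :
    Nat.card (dif δ).range = 4 ∧ (∀ x, x ∈ (dif δ).range ↔ x = 1 ∨ x = d ∨ x = d' ∨ x = d * d') ∧ δ d ≠ d := by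
  classical
  have hsub : ((dif δ).range : Set E) ⊆ (({1, d, d', d * d'} : Finset E) : Set E) := by
    rintro _ ⟨v, rfl⟩
    simpa using h v
  have hdd : (d * d') * (d * d') = 1 := by rw [mul_mul_mul_comm, hd, hd', mul_one]
  have hle : Nat.card (dif δ).range ≤ 4 := by
    have h3 := Set.ncard_le_ncard hsub (Finset.finite_toSet _)
    rw [Set.ncard_coe_finset] at h3
    exact h3.trans Finset.card_le_four
  have h4 : Nat.card (dif δ).range = 4 := by
    obtain ⟨k, hk⟩ := IsPGroup.iff_card.1 (h2.to_subgroup (dif δ).range)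
    haveI : Fact (Nat.Prime 2) := ⟨Nat.prime_two⟩
    have hk1 : ¬ k ≤ 1 := by
      intro hk1
      have h5 : Nat.card (dif δ).range ≤ 2 := by
        rw [hk]
        calc 2 ^ k ≤ 2 ^ 1 := Nat.pow_le_pow_right (by norm_num) hk1
          _ = 2 := rfl
      -- all elements are `1` or `c`
      obtain ⟨c, hc, hc'⟩ : ∃ c : E, c * c = 1 ∧ ∀ v, dif δ v = 1 ∨ dif δ v = c := by
        by_cases hall : ∀ v, dif δ v = 1
        · exact ⟨1, one_mul 1, fun v => Or.inl (hall v)⟩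
        · push Not at hall
          obtain ⟨w, hw⟩ := hall
          refine ⟨dif δ w, ?_, fun v => ?_⟩
          · rcases h w with h6 | h6 | h6 | h6
            · exact absurd h6 hw
            · rw [h6, hd]
            · rw [h6, hd']
            · rw [h6, hdd]
          · by_contra hcon
            push Not at hcon
            have h6 : ({1, dif δ w, dif δ v} : Finset E).card = 3 := by
              rw [Finset.card_insert_of_notMem, Finset.card_insert_of_notMem, Finset.card_singleton]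
              · rw [Finset.mem_singleton]
                exact fun h => hcon.2 h.symm
              · rw [Finset.mem_insert, Finset.mem_singleton]
                rintro (h | h)
                · exact hw h.symm
                · exact hcon.1 h.symm
            have h7 : (({1, dif δ w, dif δ v} : Finset E) : Set E) ⊆ ((dif δ).range : Set E) := by
              intro x hx
              simp only [Finset.coe_insert, Finset.coe_singleton, Set.mem_insert_iff, Set.mem_singleton_iff] at hx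
              rcases hx with rfl | rfl | rfl
              · exact one_mem _
              · exact ⟨w, rfl⟩
              · exact ⟨v, rfl⟩
            have h8 := Set.ncard_le_ncard h7 (Set.toFinite _)
            rw [Set.ncard_coe_finset, h6] at h8
            have h9 : Set.ncard ((dif δ).range : Set E) = Nat.card (dif δ).range := rfl
            omega
      exact hδ1 (triv_of_two h2 hδ hc hc')
    have hk2 : k ≤ 2 := by
      by_contra hk3
      have : 2 ^ 3 ≤ 2 ^ k := Nat.pow_le_pow_right (by norm_num) (by omega)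
      omega
    have : k = 2 := by omega
    rw [hk, this]
    norm_num
  have hmem : ∀ x, x ∈ (dif δ).range ↔ x = 1 ∨ x = d ∨ x = d' ∨ x = d * d' := by
    intro x
    have h5 : ((dif δ).range : Set E) = (({1, d, d', d * d'} : Finset E) : Set E) := by
      refine Set.eq_of_subset_of_ncard_le hsub ?_ (Finset.finite_toSet _)
      rw [Set.ncard_coe_finset]
      exact Finset.card_le_four.trans h4.ge
    have h6 : x ∈ ((dif δ).range : Set E) ↔ x ∈ (({1, d, d', d * d'} : Finset E) : Set E) := by rw [h5]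
    simpa using h6
  refine ⟨h4, hmem, fun hdf => hδ1 ?_⟩
  have hdf' : δ d' = d' := by
    have h5 := (hmem (dif δ d')).1 ⟨d', rfl⟩
    rcases h5 with h5 | h5 | h5 | h5
    · rw [apply_eq, h5, mul_one]
    · exact fix h2 hδ (by rw [h5, hdf])
    · have h6 : δ d' = 1 := by rw [apply_eq, h5, hd']
      have h7 : d' = 1 := by simpa using h6
      rw [h7, map_one]
    · have h6 : δ d' = δ d := by rw [apply_eq, h5, hdf, mul_comm d d', ← mul_assoc, hd', one_mul]
      rw [δ.injective h6, hdf]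
  refine eq_one_of h2 hδ fun v => ?_
  rcases h v with h5 | h5 | h5 | h5
  · rw [h5, map_one]
  · rw [h5, hdf]
  · rw [h5, hdf']
  · rw [h5, map_mul, hdf, hdf']

theorem range_same {δ ε : MulAut E} (hc : δ * ε = ε * δ) {d : E} (hd : d * d = 1) (h1 : Nat.card (dif δ).range = 4)
    (h2 : Nat.card (dif ε).range = 4) (hd1 : d ∈ (dif δ).range) (hd2 : d ∈ (dif ε).range) (hne : ε d ≠ d) :
    (dif ε).range = (dif δ).range := by
  classical
  have hd0 : d ≠ 1 := fun h => hne (by rw [h, map_one])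
  have hx1 : dif ε d ∈ (dif δ).range := by
    rw [dif_apply]
    refine mul_mem (inv_mem hd1) ?_
    obtain ⟨w, hw⟩ := hd1
    exact ⟨ε w, by rw [← dif_comm hc, hw]⟩
  have hx0 : dif ε d ≠ 1 := fun h => hne (by rw [apply_eq, h, mul_one])
  have hxd : dif ε d ≠ d := fun h => hd0 (by
    have h3 : ε d = 1 := by rw [apply_eq, h, hd]
    simpa using h3)
  have h3 : ({1, d, dif ε d} : Finset E).card = 3 := by
    rw [Finset.card_insert_of_notMem, Finset.card_insert_of_notMem, Finset.card_singleton]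
    · rw [Finset.mem_singleton]
      exact fun h => hxd h.symm
    · rw [Finset.mem_insert, Finset.mem_singleton]
      rintro (h | h)
      · exact hd0 h.symm
      · exact hx0 h.symm
  have h5 : (({1, d, dif ε d} : Finset E) : Set E) ⊆ (((dif δ).range ⊓ (dif ε).range : Subgroup E) : Set E) := by
    intro x hx
    simp only [Finset.coe_insert, Finset.coe_singleton, Set.mem_insert_iff, Set.mem_singleton_iff] at hx
    rcases hx with rfl | rfl | rfl
    · exact one_mem _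
    · exact ⟨hd1, hd2⟩
    · exact ⟨hx1, ⟨d, rfl⟩⟩
  have h6 := Set.ncard_le_ncard h5 (Set.toFinite _)
  rw [Set.ncard_coe_finset, h3] at h6
  have h7 : 3 ≤ Nat.card ((dif δ).range ⊓ (dif ε).range : Subgroup E) := h6
  have h8 : Nat.card ((dif δ).range ⊓ (dif ε).range : Subgroup E) ∣ 4 := h1 ▸ Subgroup.card_dvd_of_le inf_le_left
  have h9 : Nat.card ((dif δ).range ⊓ (dif ε).range : Subgroup E) = 4 := by
    have h10 := Nat.le_of_dvd (by norm_num) h8
    have h11 : Nat.card ((dif δ).range ⊓ (dif ε).range : Subgroup E) ≠ 3 := by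
      intro h
      rw [h] at h8
      omega
    omega
  have e1 : (dif δ).range ⊓ (dif ε).range = (dif δ).range :=
    Subgroup.eq_of_le_of_card_ge inf_le_left (by rw [h9, h1])
  have e2 : (dif δ).range ⊓ (dif ε).range = (dif ε).range :=
    Subgroup.eq_of_le_of_card_ge inf_le_right (by rw [h9, h2])
  rw [← e1, e2]

theorem main (h2 : IsPGroup 2 E) (O : Subgroup (MulAut E)) {τ : MulAut E} (hτ : τ ∈ O) (hττ : τ * τ = 1)
    (h4 : ¬ 4 ∣ Nat.card O) (Z : Subgroup E) (hZ : Z.index = 2) (hτZ : ∀ v, τ v = v ↔ v ∈ Z)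
    {d : E} (hd : ∀ v, v ∉ Z → τ v = v * d)
    (hfix : ∀ v ∈ Z, ∀ w ∈ Z, v * v = 1 → w * w = 1 → v ≠ 1 → v ≠ d → w ≠ 1 → w ≠ d →
      w = v ∨ w = v * d)
    (hex : ∃ α ∈ O, ¬ 2 ∣ orderOf α ∧ α ≠ 1) :
    ∃ K : Subgroup E, Nat.card K = 4 ∧ d ∈ K ∧ (∀ v ∈ K, v * v = 1) ∧
      ∀ α ∈ O, ¬ 2 ∣ orderOf α → (∀ v, v⁻¹ * α v ∈ K) ∧
        (α ≠ 1 → (∀ v, α v = v → v ∈ Z) ∧ α d ≠ d ∧ ∀ k ∈ K, ∃ v, v⁻¹ * α v = k) := by
  have hττ' : ∀ v, τ (τ v) = v := fun v => congrArg (fun f : MulAut E => f v) hττ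
  obtain ⟨v0, hv0⟩ : ∃ v, v ∉ Z := by
    by_contra hcon
    push Not at hcon
    have : Z = ⊤ := (Subgroup.eq_top_iff' Z).2 hcon
    rw [this, Subgroup.index_top] at hZ
    omega
  have hdτ : d * τ d = 1 := by
    have h3 := hττ' v0
    rw [hd v0 hv0, map_mul, hd v0 hv0, mul_assoc] at h3
    exact mul_eq_left.1 h3
  have hdZ : d ∈ Z := by
    by_contra hcon
    rw [hd d hcon] at hdτ
    have h3 : d ^ 3 = 1 := by rw [← hdτ, pow_succ, pow_two, mul_assoc]
    obtain ⟨k, hk⟩ := h2 d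
    have h5 : orderOf d ∣ 3 := orderOf_dvd_of_pow_eq_one h3
    have h6 : orderOf d ∣ 2 ^ k := orderOf_dvd_of_pow_eq_one hk
    have h7 : Nat.Coprime 3 (2 ^ k) := Nat.Coprime.pow_right k (by norm_num)
    have h8 := Nat.eq_one_of_dvd_coprimes h7 h5 h6
    rw [orderOf_eq_one_iff] at h8
    exact hcon (h8 ▸ one_mem Z)
  have hdd : d * d = 1 := by rwa [(hτZ d).2 hdZ] at hdτ
  have hd1 : d ≠ 1 := fun h => hv0 ((hτZ v0).1 (by rw [hd v0 hv0, h, mul_one]))
  have hτ1 : τ ≠ 1 := fun h => hv0 ((hτZ v0).1 (by rw [h]; rfl))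
  have hτv : ∀ v, τ v = v ∨ τ v = v * d := fun v => by
    by_cases hv : v ∈ Z
    · exact Or.inl ((hτZ v).2 hv)
    · exact Or.inr (hd v hv)
  -- (i)
  have hcomm : ∀ α : MulAut E, ¬ 2 ∣ orderOf α → α * τ = τ * α → α = 1 := by
    intro α hα hc
    have hc' : ∀ v, α (τ v) = τ (α v) := fun v => congrArg (fun f : MulAut E => f v) hc
    have hαZ : ∀ v, α v ∈ Z ↔ v ∈ Z := by
      intro v
      rw [← hτZ, ← hτZ, ← hc']
      exact α.injective.eq_iff
    have hαd : α d = d := by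
      have h3 := hc' v0
      rw [hd v0 hv0, hd (α v0) (fun h => hv0 ((hαZ v0).1 h)), map_mul] at h3
      exact mul_left_cancel h3
    have hinv : ∀ v ∈ Z, v * v = 1 → α v = v := by
      intro v hv hvv
      by_cases hv1 : v = 1
      · rw [hv1, map_one]
      by_cases hvd : v = d
      · rw [hvd, hαd]
      have h3 := hfix v hv (α v) ((hαZ v).2 hv) hvv (by rw [← map_mul, hvv, map_one]) hv1 hvd
        (fun h => hv1 (by simpa using h)) (fun h => hvd (α.injective (h.trans hαd.symm)))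
      rcases h3 with h3 | h3
      · exact h3
      · refine fix h2 hα ?_
        rw [dif_apply, h3, inv_mul_cancel_left, hαd]
    have hZfix : ∀ n : ℕ, ∀ v ∈ Z, v ^ 2 ^ n = 1 → α v = v := by
      intro n
      induction n with
      | zero =>
        intro v _ h
        rw [pow_zero, pow_one] at h
        rw [h, map_one]
      | succ n ih =>
        intro v hv h
        have h3 : α (v * v) = v * v := ih (v * v) (mul_mem hv hv) (by rw [← pow_two, ← pow_mul, ← pow_succ']; exact h)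
        refine fix h2 hα (hinv _ ?_ ?_)
        · rw [dif_apply]
          exact mul_mem (inv_mem hv) ((hαZ v).2 hv)
        · rw [← map_mul, dif_apply, h3, inv_mul_cancel]
    refine eq_one_of h2 hα fun v => ?_
    obtain ⟨n, hn⟩ := h2 (dif α v)
    refine hZfix n _ ?_ hn
    rw [dif_apply, Subgroup.mul_mem_iff_of_index_two hZ, inv_mem_iff, hαZ]
  -- (ii)
  obtain ⟨N, hNn, hNodd, hN2, hNmem⟩ := Cfsg.Agent.Lib.InvolutionKernel.exists_odd_index_two
    (t := (⟨τ, hτ⟩ : O)) (Subtype.ext hττ) (fun h => hτ1 (congrArg Subtype.val h))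
    (fun h => h4 (h.trans (Subgroup.card_subgroup_dvd_card _)))
  have hodd : ∀ α : O, α ∈ N ↔ ¬ 2 ∣ orderOf (α : MulAut E) := by
    intro α
    rw [hNmem, ← Subgroup.orderOf_coe, Nat.odd_iff, Nat.two_dvd_ne_zero]
  let φ : MulAut N := MulAut.conjNormal (H := N) (⟨τ, hτ⟩ : O)
  have hφ : ∀ g : N, (((φ g : N) : O) : MulAut E) = τ * ((g : O) : MulAut E) * τ := by
    intro g
    have h3 : (((φ g : N) : O) : MulAut E) = τ * ((g : O) : MulAut E) * τ⁻¹ := rfl
    rw [h3, eq_comm]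
    congr 1
    exact eq_inv_of_mul_eq_one_left hττ
  have hff : MonoidHom.FixedPointFree φ := by
    intro g hg
    have h3 := hφ g
    rw [hg] at h3
    have h5 := hcomm ((g : O) : MulAut E) ((hodd g).1 g.2) (by
      conv_lhs => rw [h3]
      rw [mul_assoc, hττ, mul_one])
    exact Subtype.ext (Subtype.ext h5)
  have hinvo : Function.Involutive φ := by
    intro g
    apply Subtype.ext
    apply Subtype.ext
    rw [hφ, hφ]
    calc τ * (τ * ((g : O) : MulAut E) * τ) * τ = (τ * τ) * ((g : O) : MulAut E) * (τ * τ) := by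
          simp only [mul_assoc]
      _ = ((g : O) : MulAut E) := by rw [hττ, one_mul, mul_one]
  have hinv : ∀ g : N, φ g = g⁻¹ := fun g => congrFun (hff.coe_eq_inv_of_involutive hinvo) g
  have hNab : ∀ a b : N, a * b = b * a := fun a b => hff.commute_all_of_involutive hinvo a b
  -- (iii)
  have key : ∀ δ : N, δ ≠ 1 → Nat.card (dif ((δ : O) : MulAut E)).range = 4 ∧
      d ∈ (dif ((δ : O) : MulAut E)).range ∧ (∀ x ∈ (dif ((δ : O) : MulAut E)).range, x * x = 1) ∧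
      ((δ : O) : MulAut E) d ≠ d := by
    intro δ hδ
    obtain ⟨g, hg⟩ := hff.commutatorMap_surjective δ
    have h3 : (((δ : O) : MulAut E)) * (τ * ((g : O) : MulAut E) * τ) = ((g : O) : MulAut E) := by
      have h5 : δ * φ g = g := by rw [← hg]; exact div_mul_cancel g (φ g)
      have h6 := congrArg (fun x : N => ((x : O) : MulAut E)) h5
      simp only [Subgroup.coe_mul] at h6
      rwa [hφ] at h6
    have h6 : ∀ v, ((δ : O) : MulAut E) v =
        ((g : O) : MulAut E) (τ (((g : O) : MulAut E)⁻¹ (τ v))) := by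
      intro v
      have h7 := congrArg (fun f : MulAut E => f (τ (((g : O) : MulAut E)⁻¹ (τ v)))) h3
      simp only [MulAut.mul_apply] at h7
      rw [← h7, hττ', MulAut.apply_inv_self, hττ']
    have h7 : ∀ w, ((g : O) : MulAut E) (τ (((g : O) : MulAut E)⁻¹ w)) = w ∨
        ((g : O) : MulAut E) (τ (((g : O) : MulAut E)⁻¹ w)) = w * ((g : O) : MulAut E) d := by
      intro w
      rcases hτv (((g : O) : MulAut E)⁻¹ w) with h8 | h8
      · left
        rw [h8, MulAut.apply_inv_self]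
      · right
        rw [h8, map_mul, MulAut.apply_inv_self]
    have h8 : ∀ v, dif ((δ : O) : MulAut E) v = 1 ∨ dif ((δ : O) : MulAut E) v = d ∨
        dif ((δ : O) : MulAut E) v = ((g : O) : MulAut E) d ∨
        dif ((δ : O) : MulAut E) v = d * ((g : O) : MulAut E) d := by
      intro v
      rw [dif_apply, h6]
      rcases hτv v with h9 | h9
      · rw [h9]
        rcases h7 v with h10 | h10
        · left; rw [h10, inv_mul_cancel]
        · right; right; left; rw [h10, inv_mul_cancel_left]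
      · rw [h9]
        rcases h7 (v * d) with h10 | h10
        · right; left; rw [h10, inv_mul_cancel_left]
        · right; right; right; rw [h10, mul_assoc, inv_mul_cancel_left]
    have hgd : ((g : O) : MulAut E) d * ((g : O) : MulAut E) d = 1 := by rw [← map_mul, hdd, map_one]
    obtain ⟨k1, k2, k3⟩ := range_eq h2 ((hodd δ).1 δ.2)
      (fun h => hδ (Subtype.ext (Subtype.ext h))) hdd hgd h8
    refine ⟨k1, (k2 d).2 (Or.inr (Or.inl rfl)), fun x hx => ?_, k3⟩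
    rcases (k2 x).1 hx with rfl | rfl | rfl | rfl
    · exact one_mul 1
    · exact hdd
    · exact hgd
    · rw [mul_mul_mul_comm, hdd, hgd, mul_one]
  -- the result
  obtain ⟨α0, hα0, hα0o, hα01⟩ := hex
  let δ0 : N := ⟨⟨α0, hα0⟩, (hodd ⟨α0, hα0⟩).2 hα0o⟩
  have hδ0 : δ0 ≠ 1 := fun h => hα01 (congrArg (fun x : N => ((x : O) : MulAut E)) h)
  obtain ⟨k1, k2, k3, k4⟩ := key δ0 hδ0
  refine ⟨(dif ((δ0 : O) : MulAut E)).range, k1, k2, k3, fun α hα hαo => ?_⟩
  let δ : N := ⟨⟨α, hα⟩, (hodd ⟨α, hα⟩).2 hαo⟩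
  by_cases hα1 : α = 1
  · subst hα1
    refine ⟨fun v => ?_, fun h => absurd rfl h⟩
    rw [MulAut.one_apply, inv_mul_cancel]
    exact one_mem _
  have hδ : δ ≠ 1 := fun h => hα1 (congrArg (fun x : N => ((x : O) : MulAut E)) h)
  obtain ⟨l1, l2, l3, l4⟩ := key δ hδ
  have hcm : ((δ0 : O) : MulAut E) * ((δ : O) : MulAut E) = ((δ : O) : MulAut E) * ((δ0 : O) : MulAut E) :=
    congrArg (fun x : N => ((x : O) : MulAut E)) (hNab δ0 δ)
  have hr := range_same hcm hdd k1 l1 k2 l2 l4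
  rw [← hr]
  refine ⟨fun v => ⟨v, rfl⟩, fun _ => ⟨fun v hv => ?_, l4, fun k hk => hk⟩⟩
  by_contra hvZ
  -- `α` fixes `τ v`
  have h3 := hφ δ⁻¹
  rw [hinv, inv_inv] at h3
  have h5 : α * τ = τ * α⁻¹ := by
    have h6 : α = τ * α⁻¹ * τ := h3
    calc α * τ = τ * α⁻¹ * τ * τ := by rw [← h6]
      _ = τ * α⁻¹ := by rw [mul_assoc, hττ, mul_one]
  have h6 : α⁻¹ v = v := by
    conv_lhs => rw [← hv]
    exact MulAut.inv_apply_self _ α v
  have h7 : α (τ v) = τ v := by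
    have h8 := congrArg (fun f : MulAut E => f v) h5
    simp only [MulAut.mul_apply] at h8
    rw [h8, h6]
  rw [hd v hvZ, map_mul, hv] at h7
  exact l4 (mul_left_cancel h7)

end

theorem exists_klein {E : Type*} [Group E] [Finite E] (h2 : IsPGroup 2 E) (hab : ∀ a b : E, a * b = b * a)
    (O : Subgroup (MulAut E)) {τ : MulAut E} (hτ : τ ∈ O) (hττ : τ * τ = 1)
    (h4 : ¬ 4 ∣ Nat.card O) (Z : Subgroup E) (hZ : Z.index = 2) (hτZ : ∀ v, τ v = v ↔ v ∈ Z)
    {d : E} (hd : ∀ v, v ∉ Z → τ v = v * d)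
    (hfix : ∀ v ∈ Z, ∀ w ∈ Z, v * v = 1 → w * w = 1 → v ≠ 1 → v ≠ d → w ≠ 1 → w ≠ d →
      w = v ∨ w = v * d)
    (hex : ∃ α ∈ O, ¬ 2 ∣ orderOf α ∧ α ≠ 1) :
    ∃ K : Subgroup E, Nat.card K = 4 ∧ d ∈ K ∧ (∀ v ∈ K, v * v = 1) ∧
      ∀ α ∈ O, ¬ 2 ∣ orderOf α → (∀ v, v⁻¹ * α v ∈ K) ∧
        (α ≠ 1 → (∀ v, α v = v → v ∈ Z) ∧ α d ≠ d ∧ ∀ k ∈ K, ∃ v, v⁻¹ * α v = k) :=
  @main E { (inferInstance : Group E) with mul_comm := hab } _ h2 O τ hτ hττ h4 Z hZ hτZ d hd hfix hex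

end Cfsg.Agent.H352.FTF1
end

-- part: H645/FT/Klein
section
/-!
# The four-group of an essential subgroup
-/

set_option autoImplicit false

namespace Cfsg.Agent.H645.FT

open Cfsg Cfsg.FusionSystem Cfsg.Agent.H802 Cfsg.Agent.H617.FusInv Cfsg.Agent.H617.FusTwo
open Cfsg.Agent.H617.FusFour Cfsg.Agent.H617.FusMain
open Cfsg.Agent.H745.MetaTwo (sq_of_cyclic)

variable {Ω : Type*} [Group Ω] {S A : Subgroup Ω} {x e y : Ω}

/-- `E` is fully normalized and centric and has a nontrivial automorphism of odd order. -/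
def Ess (F : FusionSystem S) (E : Subgroup Ω) : Prop :=
  F.IsFullyNormalized E ∧ F.IsCentric E ∧ ∃ α ∈ F.autGroup E, ¬ 2 ∣ orderOf α ∧ α ≠ 1

/-- There is no quaternion configuration in the system. -/
def NQF (x : Ω) (F : FusionSystem S) : Prop :=
  ∀ E : Subgroup Ω, E ≤ S → ∀ α ∈ F.autGroup E, ¬ 2 ∣ orderOf α → NQ x α

/-- The four-group `K` of the subgroup `E`. -/
structure Kl (F : FusionSystem S) (d : Ω) (E K : Subgroup Ω) : Prop where
  le : K ≤ E
  card : Nat.card K = 4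
  dK : d ∈ K
  sq : ∀ v ∈ K, v * v = 1
  mem : ∀ α ∈ F.autGroup E, ¬ 2 ∣ orderOf α → ∀ v : E, (v : Ω)⁻¹ * (α v : E) ∈ K
  fix : ∀ α ∈ F.autGroup E, ¬ 2 ∣ orderOf α → α ≠ 1 → ∀ v : E, α v = v → (v : Ω) ∈ Z S
  d_ne : ∀ α ∈ F.autGroup E, ¬ 2 ∣ orderOf α → α ≠ 1 → ∀ v : E, (v : Ω) = d → α v ≠ v
  surj : ∀ α ∈ F.autGroup E, ¬ 2 ∣ orderOf α → α ≠ 1 → ∀ k ∈ K, ∃ v : E,
    (v : Ω)⁻¹ * (α v : E) = k
  out : ∃ k ∈ K, k ∉ Z S

theorem two_not_dvd {n : ℕ} (h : ¬ 2 ∣ n) : Odd n :=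
  Nat.not_even_iff_odd.1 (fun h3 => h h3.two_dvd)

namespace Grp

theorem ess_inf' (h : Grp S A x e y) [Finite S] {F : FusionSystem S} (hNQ : NQF x F)
    {E : Subgroup Ω} (hE : Ess F E) :
    (∃ u ∈ E, u ∉ A) ∧ ∀ v ∈ E, v ∈ A → v ∈ Z S := by
  obtain ⟨hn, hc, α, hα, hodd, hα1⟩ := hE
  exact h.ess_inf hn.1 (Z_le_of_isCentric hc) (hc.2 E (isConj_refl F hn.1)) hodd hα1
    (hNQ E hn.1 α hα hodd)

/-- Elements of `E` outside `A` differ by central elements. -/
theorem inv_mul_mem_Z (h : Grp S A x e y) {E : Subgroup Ω} (hE : E ≤ S)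
    (hZ : ∀ v ∈ E, v ∈ A → v ∈ Z S) {u v : Ω} (hu : u ∈ E) (hv : v ∈ E) (huA : u ∉ A)
    (hvA : v ∉ A) : u⁻¹ * v ∈ Z S :=
  hZ _ (E.mul_mem (E.inv_mem hu) hv) (inv_mul_mem_of_relIndex_two h.idx (hE hu) (hE hv) huA hvA)

/-- Conjugation by an element of `A`. -/
theorem conj_out (h : Grp S A x e y) {a u : Ω} (ha : a ∈ A) (hu : u ∈ S) (huA : u ∉ A) :
    a * u * a⁻¹ = u * cm y a := by
  have h1 : u⁻¹ ∈ S := S.inv_mem hu
  have h2 : u⁻¹ ∉ A := fun h3 => huA (by simpa using A.inv_mem h3)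
  have h3 := h.conj_eq h1 h2 ha
  unfold cm
  rw [← h3]
  group

/-- The involution of `⟨x⟩`. -/
theorem exists_omega (h : Grp S A x e y) [Finite S] :
    ∃ w ∈ Subgroup.zpowers x, w ≠ 1 ∧ w * w = 1 := by
  have hfinA := h.finA
  have hA : IsPGroup 2 A := h.pgrp.to_le h.le
  have hxx : x * x ∈ A := A.mul_mem h.xA h.xA
  obtain ⟨k, hk⟩ := IsPGroup.iff_orderOf.1 hA ⟨x * x, hxx⟩
  rw [Subgroup.orderOf_mk] at hk
  have hk0 : k ≠ 0 := by
    rintro rfl
    rw [pow_zero, orderOf_eq_one_iff] at hk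
    exact h.x4 hk
  refine ⟨(x * x) ^ 2 ^ (k - 1), Subgroup.pow_mem _ (Subgroup.mul_mem _
    (Subgroup.mem_zpowers x) (Subgroup.mem_zpowers x)) _, ?_, ?_⟩
  · intro h1
    have h5 := orderOf_dvd_of_pow_eq_one h1
    rw [hk] at h5
    have h6 := (Nat.pow_dvd_pow_iff_le_right (by norm_num : 1 < 2)).1 h5
    omega
  · rw [← pow_add, ← two_mul, ← pow_succ', Nat.sub_add_cancel (Nat.one_le_iff_ne_zero.2 hk0),
      ← hk, pow_orderOf_eq_one]

/-- The involutions of `A`. -/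
theorem invol_cases (h : Grp S A x e y) [Finite S] {d v w : Ω} (hd : d ∈ A) (hdd : d * d = 1)
    (hd1 : d ≠ 1) (hv : v ∈ A) (hw : w ∈ A) (hvv : v * v = 1) (hww : w * w = 1) (hv1 : v ≠ 1)
    (hvd : v ≠ d) (hw1 : w ≠ 1) (hwd : w ≠ d) : w = v ∨ w = v * d := by
  obtain ⟨o, ho, ho1, hoo⟩ := h.exists_omega
  have heA := h.Z_le_A h.eZ
  have hoA : o ∈ A := (Subgroup.zpowers_le.2 h.xA) ho
  have hfinA := h.finA
  have key : ∀ v ∈ A, v * v = 1 → v = 1 ∨ v = o ∨ v = e ∨ v = o * e := by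
    intro v hv hvv
    obtain ⟨i, hi⟩ := h.gen v hv
    have h1 := sq_one_cases (Q := A) (a := ⟨x, h.xA⟩) (e := ⟨e, heA⟩) (w := ⟨o, hoA⟩)
      (v := ⟨v, hv⟩) (Subtype.ext (h.comm x h.xA e heA)) (Subtype.ext h.ee) ?_ ?_ (Subtype.ext hoo)
      inferInstance (i := i) ?_ (Subtype.ext hvv)
    · rcases h1 with h2 | h2 | h2 | h2
      · exact Or.inl (congrArg Subtype.val h2)
      · exact Or.inr (Or.inl (congrArg Subtype.val h2))
      · exact Or.inr (Or.inr (Or.inl (congrArg Subtype.val h2)))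
      · exact Or.inr (Or.inr (Or.inr (congrArg Subtype.val h2)))
    · obtain ⟨k, hk⟩ := Subgroup.mem_zpowers_iff.1 ho
      exact Subgroup.mem_zpowers_iff.2 ⟨k, Subtype.ext (by simpa using hk)⟩
    · intro h2
      exact ho1 (congrArg Subtype.val h2)
    · rcases hi with hi | hi
      · exact Or.inl (Subtype.ext (by simpa using hi))
      · exact Or.inr (Subtype.ext (by simpa using hi))
  exact klein_cases hoo h.ee (h.comm o hoA e heA) (key d hd hdd) (key v hv hvv) (key w hw hww)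
    hd1 hv1 hvd hw1 hwd

/-- `E` is abelian. -/
theorem ess_comm (h : Grp S A x e y) {E : Subgroup Ω} (hE : E ≤ S)
    (hZ : ∀ v ∈ E, v ∈ A → v ∈ Z S) {v w : Ω} (hv : v ∈ E) (hw : w ∈ E) : v * w = w * v := by
  by_cases hvA : v ∈ A
  · exact ((mem_Z.1 (hZ v hv hvA)).2 w (hE hw)).symm
  by_cases hwA : w ∈ A
  · exact (mem_Z.1 (hZ w hw hwA)).2 v (hE hv)
  have h1 := h.inv_mul_mem_Z hE hZ hv hw hvA hwA
  have h2 := (mem_Z.1 h1).2 v (hE hv)
  calc v * w = v * (v * (v⁻¹ * w)) := by group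
    _ = v * (v⁻¹ * w * v) := by rw [h2]
    _ = w * v := by group

/-- Conjugation by `a ∈ A` on `E`. -/
theorem conj_cases (h : Grp S A x e y) {E : Subgroup Ω} (hE : E ≤ S) {a v : Ω} (ha : a ∈ A)
    (hv : v ∈ E) : (v ∈ A → a * v * a⁻¹ = v) ∧ (v ∉ A → a * v * a⁻¹ = v * cm y a) := by
  refine ⟨fun hvA => ?_, fun hvA => h.conj_out ha (hE hv) hvA⟩
  rw [h.comm a ha v hvA]
  group

theorem mem_normalizer_of_cm (h : Grp S A x e y) {E : Subgroup Ω} (hE : E ≤ S) {a : Ω}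
    (ha : a ∈ A) (hc : cm y a ∈ E) :
    a ∈ Subgroup.normalizer (E : Set Ω) := by
  have key : ∀ a ∈ A, cm y a ∈ E → ∀ v ∈ E, a * v * a⁻¹ ∈ E := by
    intro a ha hc v hv
    by_cases hvA : v ∈ A
    · rw [(h.conj_cases hE ha hv).1 hvA]; exact hv
    · rw [(h.conj_cases hE ha hv).2 hvA]; exact E.mul_mem hv hc
  rw [Subgroup.mem_normalizer_iff]
  intro v
  refine ⟨key a ha hc v, fun hv => ?_⟩
  have h1 : cm y a⁻¹ ∈ E := by
    have h2 : cm y a * cm y a⁻¹ = 1 := by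
      rw [← h.cm_mul ha (A.inv_mem ha), mul_inv_cancel]
      simp [cm]
    rw [← inv_eq_of_mul_eq_one_right h2]
    exact E.inv_mem hc
  have h3 := key a⁻¹ (A.inv_mem ha) h1 _ hv
  have h4 : a⁻¹ * (a * v * a⁻¹) * a⁻¹⁻¹ = v := by group
  rwa [h4] at h3

theorem exists_kl (h : Grp S A x e y) [Finite S] {F : FusionSystem S} (hF : F.IsSaturated 2)
    (hNQ : NQF x F) {d : Ω} (hdE : d ∈ Cfsg.Agent.H617.FusFour.E S) (hd1 : d ≠ 1)
    (hdd : d * d = 1) (hdZ : d ∈ Z S)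
    (hdu : ∀ s ∈ Cfsg.Agent.H617.FusFour.E S, s ∈ Z S → s = 1 ∨ s = d)
    {E : Subgroup Ω} (hE : Ess F E) : ∃ K, Kl F d E K := by
  have hp : Fact (Nat.Prime 2) := ⟨Nat.prime_two⟩
  obtain ⟨⟨u, huE, huA⟩, hEZ⟩ := h.ess_inf' hNQ hE
  obtain ⟨hn, hc, α, hα, hodd, hα1⟩ := hE
  have hES := hn.1
  have hZE : Z S ≤ E := Z_le_of_isCentric hc
  have hfinE : Finite E := finite_of_le hES
  have h2 := h.pgrp_of_le hES
  have hab : ∀ a b : E, a * b = b * a := fun a b =>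
    Subtype.ext (h.ess_comm hES hEZ a.2 b.2)
  have hAZ : ∀ v : E, (v : Ω) ∈ A ↔ v ∈ (Z S).subgroupOf E := fun v =>
    ⟨fun h1 => hEZ v v.2 h1, fun h1 => h.Z_le_A h1⟩
  -- the index of the centre
  have hidx : ((Z S).subgroupOf E).index = 2 := by
    rw [Subgroup.index_eq_two_iff]
    refine ⟨⟨u, huE⟩, fun b => ?_⟩
    rw [← hAZ, ← hAZ]
    have h1 := h.mul_mem_iff (hES b.2) (hES huE)
    change Xor ((b : Ω) * u ∈ A) _
    rw [h1]
    by_cases hb : (b : Ω) ∈ A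
    · exact Or.inr ⟨hb, fun h3 => huA (h3.1 hb)⟩
    · exact Or.inl ⟨⟨fun h3 => absurd h3 hb, fun h3 => absurd h3 huA⟩, hb⟩
  -- the automorphism `τ`
  obtain ⟨a, ha, hda⟩ := h.exists_cm hdE
  have han : a ∈ Subgroup.normalizer (E : Set Ω) :=
    h.mem_normalizer_of_cm hES ha (hda ▸ hZE hdZ)
  obtain ⟨τ, hτ, hτi, hτs⟩ := exists_conjAut_mem (F := F) hES (h.le ha) han
  have hτA : ∀ v : E, (v : Ω) ∈ A → τ v = v := fun v hv =>
    Subtype.ext ((hτs v).trans ((h.conj_cases hES ha v.2).1 hv))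
  have hτn : ∀ v : E, (v : Ω) ∉ A → τ v = v * ⟨d, hZE hdZ⟩ := fun v hv =>
    Subtype.ext ((hτs v).trans (((h.conj_cases hES ha v.2).2 hv).trans (by rw [← hda]; rfl)))
  have hdA : d ∈ A := h.Z_le_A hdZ
  have hττ : τ * τ = 1 := by
    refine MulEquiv.ext fun v => ?_
    rw [MulAut.mul_apply, MulAut.one_apply]
    by_cases hv : (v : Ω) ∈ A
    · rw [hτA v hv, hτA v hv]
    · rw [hτn v hv, map_mul, hτn v hv, hτA ⟨d, hZE hdZ⟩ hdA, mul_assoc]
      rw [show (⟨d, hZE hdZ⟩ : E) * ⟨d, hZE hdZ⟩ = 1 from Subtype.ext hdd, mul_one]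
  -- `Aut_S(E)` has order at most two
  have hind : ∀ β ∈ autInducedBy S E, β = 1 ∨ β = τ := by
    intro β hβ
    obtain ⟨g, hg, hgβ⟩ := (mem_autInducedBy_iff S E β).1 hβ
    obtain ⟨b, hb, hbβ⟩ : ∃ b ∈ A, ∀ v : E, ((β v : E) : Ω) = b * v * b⁻¹ := by
      by_cases hgA : g ∈ A
      · exact ⟨g, hgA, hgβ⟩
      · refine ⟨u⁻¹ * g, inv_mul_mem_of_relIndex_two h.idx (hES huE) hg huA hgA, fun v => ?_⟩
        have h4 := h.ess_comm hES hEZ huE (β v).2
        calc ((β v : E) : Ω) = u⁻¹ * (u * (β v : E)) := by group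
          _ = u⁻¹ * (β v : E) * u := by rw [h4]; group
          _ = u⁻¹ * (g * v * g⁻¹) * u := by rw [hgβ]
          _ = _ := by group
    have hcb : cm y b = 1 ∨ cm y b = d := by
      refine hdu _ (h.cm_mem hb) (hEZ _ ?_ (h.cm_mem_A hb))
      have h3 := hbβ ⟨u, huE⟩
      rw [(h.conj_cases hES hb huE).2 huA] at h3
      have h4 : cm y b = u⁻¹ * ((β ⟨u, huE⟩ : E) : Ω) := by rw [h3]; group
      rw [h4]
      exact E.mul_mem (E.inv_mem huE) (β ⟨u, huE⟩).2
    rcases hcb with h3 | h3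
    · left
      refine MulEquiv.ext fun v => Subtype.ext ?_
      rw [hbβ, MulAut.one_apply]
      by_cases hv : (v : Ω) ∈ A
      · exact (h.conj_cases hES hb v.2).1 hv
      · rw [(h.conj_cases hES hb v.2).2 hv, h3, mul_one]
    · right
      refine MulEquiv.ext fun v => Subtype.ext ?_
      rw [hbβ]
      by_cases hv : (v : Ω) ∈ A
      · rw [(h.conj_cases hES hb v.2).1 hv, hτA v hv]
      · rw [(h.conj_cases hES hb v.2).2 hv, h3, hτn v hv]; rfl
  have h4 : ¬ 4 ∣ Nat.card (F.autGroup E) := by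
    intro h4
    have hfa := isFullyAutomized_of_isFullyNormalized h.pgrp hF hn
    have hcard := (isFullyAutomized_iff_card h.pgrp hES).1 hfa
    have hle : Nat.card (autInducedBy S E) ∣ 2 := by
      have h5 : autInducedBy S E ≤ Subgroup.zpowers τ := by
        intro β hβ
        rcases hind β hβ with rfl | rfl
        · exact Subgroup.one_mem _
        · exact Subgroup.mem_zpowers _
      have h6 := Subgroup.card_dvd_of_le h5
      rw [Nat.card_zpowers] at h6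
      exact h6.trans (orderOf_dvd_of_pow_eq_one (by rw [pow_two, hττ]))
    have h5 : 2 ≤ (Nat.card (F.autGroup E)).factorization 2 := by
      rw [← Nat.Prime.pow_dvd_iff_le_factorization Nat.prime_two Nat.card_pos.ne']
      exact h4
    have h6 : 4 ∣ Nat.card (autInducedBy S E) := by
      rw [hcard]
      exact pow_dvd_pow 2 h5
    have h7 := Nat.le_of_dvd (by norm_num) (h6.trans hle)
    omega
  have hτZ : ∀ v, τ v = v ↔ v ∈ (Z S).subgroupOf E := by
    intro v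
    rw [← hAZ]
    constructor
    · intro h3
      by_contra hv
      rw [hτn v hv] at h3
      exact hd1 (congrArg Subtype.val (mul_eq_left.1 h3))
    · exact hτA v
  obtain ⟨K, hK4, hdK, hsq, hK⟩ := Cfsg.Agent.H352.FTF1.exists_klein h2 hab (F.autGroup E) hτ hττ h4
    ((Z S).subgroupOf E) hidx hτZ (d := ⟨d, hZE hdZ⟩) (fun v hv => hτn v (by rwa [hAZ]))
    (by
      intro v hv w hw hvv hww hv1 hvd hw1 hwd
      have h5 := h.invol_cases hdA hdd hd1 (h.Z_le_A hv) (h.Z_le_A hw)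
        (congrArg Subtype.val hvv) (congrArg Subtype.val hww) (fun h6 => hv1 (Subtype.ext h6))
        (fun h6 => hvd (Subtype.ext h6)) (fun h6 => hw1 (Subtype.ext h6))
        (fun h6 => hwd (Subtype.ext h6))
      rcases h5 with h6 | h6
      · exact Or.inl (Subtype.ext h6)
      · exact Or.inr (Subtype.ext h6))
    ⟨α, hα, hodd, hα1⟩
  refine ⟨K.map E.subtype, ⟨?_, ?_, ?_, ?_, ?_, ?_, ?_, ?_, ?_⟩⟩
  · rintro _ ⟨v, -, rfl⟩
    exact v.2
  · rw [← hK4]
    exact Nat.card_congr (K.equivMapOfInjective _ E.subtype_injective).symm.toEquiv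
  · exact ⟨⟨d, hZE hdZ⟩, hdK, rfl⟩
  · rintro _ ⟨v, hv, rfl⟩
    exact congrArg Subtype.val (hsq v hv)
  · intro β hβ hβo v
    exact ⟨v⁻¹ * β v, (hK β hβ hβo).1 v, rfl⟩
  · intro β hβ hβo hβ1 v hv
    exact ((hK β hβ hβo).2 hβ1).1 v hv
  · intro β hβ hβo hβ1 v hv
    have h5 : v = ⟨d, hZE hdZ⟩ := Subtype.ext hv
    rw [h5]
    exact ((hK β hβ hβo).2 hβ1).2.1
  · rintro β hβ hβo hβ1 _ ⟨k, hk, rfl⟩
    obtain ⟨v, hv⟩ := ((hK β hβ hβo).2 hβ1).2.2 k hk
    exact ⟨v, congrArg Subtype.val hv⟩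
  · by_contra hcon
    push Not at hcon
    have hKZ : ∀ k ∈ K, (k : Ω) ∈ Z S := fun k hk => hcon k ⟨k, hk, rfl⟩
    obtain ⟨hmem, hrest⟩ := hK α hα hodd
    obtain ⟨hfix, -, -⟩ := hrest hα1
    obtain ⟨-, -, hsurj⟩ := hrest hα1
    let g : K → K := fun k => ⟨(k : E)⁻¹ * α k, hmem k⟩
    have hginj : Function.Injective g := by
      intro k k' hkk
      have h5 : (k : E)⁻¹ * α k = (k' : E)⁻¹ * α k' := congrArg Subtype.val hkk
      have h6 : α ((k : E) * (k' : E)⁻¹) = (k : E) * (k' : E)⁻¹ := by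
        rw [map_mul, map_inv]
        have h7 : α (k : E) = (k : E) * ((k' : E)⁻¹ * α k') := by rw [← h5]; group
        rw [h7, mul_assoc, mul_assoc, mul_inv_cancel, mul_one]
      obtain ⟨v, hv⟩ := hsurj _ (K.mul_mem k.2 (K.inv_mem k'.2))
      have h7 : α v = v := fix_of_div h2 hodd (by rw [hv, h6])
      rw [h7, inv_mul_cancel] at hv
      exact Subtype.ext (mul_inv_eq_one.1 hv.symm)
    have hgsurj : Function.Surjective g := Finite.injective_iff_surjective.1 hginj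
    obtain ⟨k, hk⟩ := hgsurj ⟨(⟨u, huE⟩ : E)⁻¹ * α ⟨u, huE⟩, hmem _⟩
    have h5 : (k : E)⁻¹ * α k = (⟨u, huE⟩ : E)⁻¹ * α ⟨u, huE⟩ := congrArg Subtype.val hk
    have h6 : α ((k : E) * (⟨u, huE⟩ : E)⁻¹) = (k : E) * (⟨u, huE⟩ : E)⁻¹ := by
      rw [map_mul, map_inv]
      have h7 : α (k : E) = (k : E) * ((⟨u, huE⟩ : E)⁻¹ * α ⟨u, huE⟩) := by rw [← h5]; group
      rw [h7, mul_assoc, mul_assoc, mul_inv_cancel, mul_one]
    have h7 : ((k : E) * (⟨u, huE⟩ : E)⁻¹ : E) ∈ (Z S).subgroupOf E := hfix _ h6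
    apply huA
    have h8 := (Z S).mul_mem ((Z S).inv_mem h7) (hKZ k k.2)
    have h9 : (((k : E) * (⟨u, huE⟩ : E)⁻¹ : E) : Ω)⁻¹ * (k : E) = u := by
      change ((k : E) * u⁻¹ : Ω)⁻¹ * (k : E) = u
      group
    have h10 : u ∈ Z S := by
      rw [← h9]
      exact h8
    exact h.Z_le_A h10

end Grp

end Cfsg.Agent.H645.FT
end

-- part: H645/FT/Typ
section
/-!
# The two cosets of `[S, S] Z(S)` outside `A`

`NS S = [S, S] Z(S)`, of index two in `A`.

* `Grp.inv_mul_mem_E`: the involutions of the four-groups in the same coset are congruent modulo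
  `[S, S]`.
-/

set_option autoImplicit false

namespace Cfsg.Agent.H645.FT

open Cfsg Cfsg.FusionSystem Cfsg.Agent.H802 Cfsg.Agent.H617.FusInv Cfsg.Agent.H617.FusTwo
open Cfsg.Agent.H617.FusFour Cfsg.Agent.H617.FusMain
open Cfsg.Agent.H745.MetaTwo (sq_of_cyclic)

variable {Ω : Type*} [Group Ω] {S A : Subgroup Ω} {x e y : Ω}

/-- `[S, S] Z(S)`. -/
def NS (S : Subgroup Ω) : Subgroup Ω where
  carrier := {v | ∃ s ∈ Cfsg.Agent.H617.FusFour.E S, ∃ z ∈ Z S, v = s * z}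
  one_mem' := ⟨1, Subgroup.one_mem _, 1, Subgroup.one_mem _, (mul_one 1).symm⟩
  mul_mem' := by
    rintro _ _ ⟨s, hs, z, hz, rfl⟩ ⟨s', hs', z', hz', rfl⟩
    refine ⟨s * s', Subgroup.mul_mem _ hs hs', z * z', Subgroup.mul_mem _ hz hz', ?_⟩
    have h1 := (mem_Z.1 hz).2 s' (E_le hs')
    calc s * z * (s' * z') = s * (z * s') * z' := by group
      _ = s * (s' * z) * z' := by rw [h1]
      _ = _ := by group
  inv_mem' := by
    rintro _ ⟨s, hs, z, hz, rfl⟩
    refine ⟨s⁻¹, Subgroup.inv_mem _ hs, z⁻¹, Subgroup.inv_mem _ hz, ?_⟩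
    have h1 := (mem_Z.1 (Subgroup.inv_mem _ hz)).2 s⁻¹ (Subgroup.inv_mem _ (E_le hs))
    rw [mul_inv_rev, h1]

theorem mem_NS {v : Ω} : v ∈ NS S ↔
    ∃ s ∈ Cfsg.Agent.H617.FusFour.E S, ∃ z ∈ Z S, v = s * z := Iff.rfl

theorem E_le_NS : Cfsg.Agent.H617.FusFour.E S ≤ NS S := fun s hs =>
  ⟨s, hs, 1, Subgroup.one_mem _, (mul_one s).symm⟩

theorem Z_le_NS : Z S ≤ NS S := fun z hz => ⟨1, Subgroup.one_mem _, z, hz, (one_mul z).symm⟩

theorem NS_le : NS S ≤ S := by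
  rintro _ ⟨s, hs, z, hz, rfl⟩
  exact S.mul_mem (E_le hs) (Z_le hz)

theorem inv_mul_conj_mem_E {g v : Ω} (hg : g ∈ S) (hv : v ∈ S) :
    v⁻¹ * (g * v * g⁻¹) ∈ Cfsg.Agent.H617.FusFour.E S := by
  have h1 := comm_mem (S.inv_mem hv) hg
  have h2 : v⁻¹ * g * v⁻¹⁻¹ * g⁻¹ = v⁻¹ * (g * v * g⁻¹) := by group
  rwa [h2] at h1

namespace Grp

theorem NS_le_A (h : Grp S A x e y) : NS S ≤ A := by
  rintro _ ⟨s, hs, z, hz, rfl⟩
  exact A.mul_mem (h.E_le_A hs) (h.Z_le_A hz)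

theorem cm_inv (h : Grp S A x e y) {a : Ω} (ha : a ∈ A) : cm y a⁻¹ = (cm y a)⁻¹ := by
  rw [eq_inv_iff_mul_eq_one, ← h.cm_mul (A.inv_mem ha) ha, inv_mul_cancel]
  simp [cm]

/-- `cm y s = s⁻²` for `s ∈ [S, S]`. -/
theorem cm_E (h : Grp S A x e y) {s : Ω} (hs : s ∈ Cfsg.Agent.H617.FusFour.E S) :
    cm y s = s⁻¹ * s⁻¹ := by
  unfold cm
  rw [h.conj_E h.yS h.yA hs]

theorem mem_NS_of_cm (h : Grp S A x e y) {a s : Ω} (ha : a ∈ A)
    (hs : s ∈ Cfsg.Agent.H617.FusFour.E S) (hc : cm y a = s * s) : a ∈ NS S := by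
  have hsA := h.E_le_A hs
  have h1 : cm y (a * s) = 1 := by
    rw [h.cm_mul ha hsA, h.cm_E hs, hc]
    group
  rw [h.cm_eq_one_iff (A.mul_mem ha hsA)] at h1
  refine ⟨s⁻¹, Subgroup.inv_mem _ hs, a * s, h1, ?_⟩
  rw [h.comm a ha s hsA]
  group

theorem x_mul_x_mem (h : Grp S A x e y) : x * x ∈ NS S := by
  refine h.mem_NS_of_cm (A.mul_mem h.xA h.xA) (h.cm_mem h.xA) ?_
  rw [h.cm_mul h.xA h.xA]

theorem x_notMem (h : Grp S A x e y) [Finite S] : x ∉ NS S := by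
  rintro ⟨s, hs, z, hz, hx⟩
  have hsA := h.E_le_A hs
  have hzA := h.Z_le_A hz
  have h1 : cm y x = s⁻¹ * s⁻¹ := by
    rw [hx, h.cm_mul hsA hzA, (h.cm_eq_one_iff hzA).2 hz, mul_one, h.cm_E hs]
  have hs' := hs
  rw [h.E_eq] at hs'
  obtain ⟨k, hk⟩ := Subgroup.mem_zpowers_iff.1 hs'
  have h2 : cm y x ^ (1 + 2 * k) = 1 := by
    rw [zpow_add, zpow_one, two_mul, zpow_add, hk, h1]
    group
  have h3 : (orderOf (cm y x) : ℤ) ∣ 1 + 2 * k := orderOf_dvd_iff_zpow_eq_one.2 h2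
  have hfinA := h.finA
  obtain ⟨j, hj⟩ := IsPGroup.iff_orderOf.1 (h.pgrp.to_le h.le : IsPGroup 2 A)
    ⟨cm y x, h.cm_mem_A h.xA⟩
  rw [Subgroup.orderOf_mk] at hj
  rw [hj] at h3
  have hj0 : j ≠ 0 := by
    rintro rfl
    rw [pow_zero, orderOf_eq_one_iff] at hj
    exact h.cm_ne hj
  have h4 : (2 : ℤ) ∣ ((2 ^ j : ℕ) : ℤ) := by
    push_cast
    exact dvd_pow_self 2 hj0
  have h5 := h4.trans h3
  omega

/-- The two cosets of `NS S` in `A`. -/
theorem mem_NS_or (h : Grp S A x e y) {a : Ω} (ha : a ∈ A) : a ∈ NS S ∨ x⁻¹ * a ∈ NS S := by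
  have heN : e ∈ NS S := Z_le_NS h.eZ
  have hev : ∀ k : ℕ, x ^ (2 * k) ∈ NS S := by
    intro k
    rw [pow_mul, pow_two]
    exact (NS S).pow_mem h.x_mul_x_mem k
  obtain ⟨i, hi⟩ := h.gen a ha
  rcases Nat.even_or_odd' i with ⟨k, rfl | rfl⟩
  · left
    rcases hi with rfl | rfl
    · exact hev k
    · exact (NS S).mul_mem (hev k) heN
  · right
    rcases hi with rfl | rfl
    · rw [pow_succ', inv_mul_cancel_left]
      exact hev k
    · rw [pow_succ', mul_assoc, inv_mul_cancel_left]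
      exact (NS S).mul_mem (hev k) heN

theorem mul_mem_NS (h : Grp S A x e y) {a b : Ω} (ha : a ∈ A) (hb : b ∈ A) (haN : a ∉ NS S)
    (hbN : b ∉ NS S) : a⁻¹ * b ∈ NS S := by
  have h1 := (h.mem_NS_or ha).resolve_left haN
  have h2 := (h.mem_NS_or hb).resolve_left hbN
  have h3 := (NS S).mul_mem ((NS S).inv_mem h1) h2
  have h4 : (x⁻¹ * a)⁻¹ * (x⁻¹ * b) = a⁻¹ * b := by group
  rwa [h4] at h3

/-- For elements outside `NS S` the commutator generates `[S, S]`. -/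
theorem zpowers_cm (h : Grp S A x e y) [Finite S] {a : Ω} (ha : a ∈ A) (haN : a ∉ NS S) :
    orderOf (cm y a) = Nat.card (Cfsg.Agent.H617.FusFour.E S) := by
  rw [h.E_eq, Nat.card_zpowers]
  obtain ⟨i, hi⟩ := h.exists_cm_pow ha
  have hfinA := h.finA
  obtain ⟨j, hj⟩ := IsPGroup.iff_orderOf.1 (h.pgrp.to_le h.le : IsPGroup 2 A)
    ⟨cm y x, h.cm_mem_A h.xA⟩
  rw [Subgroup.orderOf_mk] at hj
  have hodd : ¬ 2 ∣ i := by
    rintro ⟨k, rfl⟩
    apply haN
    refine h.mem_NS_of_cm (s := cm y x ^ k) ha (Subgroup.pow_mem _ (h.cm_mem h.xA) k) ?_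
    rw [hi, two_mul, pow_add]
  rw [hi, Nat.Coprime.orderOf_pow]
  rw [hj]
  exact Nat.Coprime.pow_left j ((Nat.Prime.coprime_iff_not_dvd Nat.prime_two).2 hodd)

end Grp

theorem Kl.eq_one_or {F : FusionSystem S} {d : Ω} {E K : Subgroup Ω} (hK : Kl F d E K)
    (hd1 : d ≠ 1) (hdd : d * d = 1) (hdZ : d ∈ Z S) {v : Ω} (hv : v ∈ K) (hvZ : v ∈ Z S) :
    v = 1 ∨ v = d := by
  classical
  by_contra hcon
  push Not at hcon
  obtain ⟨hv1, hvd⟩ := hcon
  obtain ⟨k, hk, hkZ⟩ := hK.out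
  have hkd : k * d ∉ Z S := by
    intro h1
    apply hkZ
    have h2 := (Z S).mul_mem h1 hdZ
    rwa [mul_assoc, hdd, mul_one] at h2
  have h1Z := (Z S).one_mem
  have hcard : ({1, d, v, k, k * d} : Finset Ω).card = 5 := by
    rw [Finset.card_insert_of_notMem, Finset.card_insert_of_notMem,
      Finset.card_insert_of_notMem, Finset.card_insert_of_notMem, Finset.card_singleton]
    · simp only [Finset.mem_singleton]
      intro h1
      exact hd1 (mul_eq_left.1 h1.symm)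
    · simp only [Finset.mem_insert, Finset.mem_singleton, not_or]
      exact ⟨fun h1 => hkZ (h1 ▸ hvZ), fun h1 => hkd (h1 ▸ hvZ)⟩
    · simp only [Finset.mem_insert, Finset.mem_singleton, not_or]
      exact ⟨fun h1 => hvd h1.symm, fun h1 => hkZ (h1 ▸ hdZ), fun h1 => hkd (h1 ▸ hdZ)⟩
    · simp only [Finset.mem_insert, Finset.mem_singleton, not_or]
      exact ⟨fun h1 => hd1 h1.symm, fun h1 => hv1 h1.symm, fun h1 => hkZ (h1 ▸ h1Z),
        fun h1 => hkd (h1 ▸ h1Z)⟩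
  have hfin : Finite K := Nat.finite_of_card_ne_zero (by rw [hK.card]; norm_num)
  have hsub : ((({1, d, v, k, k * d} : Finset Ω) : Finset Ω) : Set Ω) ⊆ (K : Set Ω) := by
    intro w hw
    simp only [Finset.coe_insert, Finset.coe_singleton, Set.mem_insert_iff,
      Set.mem_singleton_iff] at hw
    rcases hw with rfl | rfl | rfl | rfl | rfl
    · exact K.one_mem
    · exact hK.dK
    · exact hv
    · exact hk
    · exact K.mul_mem hk hK.dK
  have h5 := Set.ncard_le_ncard hsub (Set.toFinite _)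
  rw [Set.ncard_coe_finset, hcard] at h5
  have h6 : (K : Set Ω).ncard = 4 := hK.card
  omega

namespace Grp

/-- The involutions of the four-groups in the same coset are congruent modulo `[S, S]`. -/
theorem inv_mul_mem_E (h : Grp S A x e y) [Finite S] {F : FusionSystem S}
    (hNQ : NQF x F) {d : Ω} (hdE : d ∈ Cfsg.Agent.H617.FusFour.E S) (hd1 : d ≠ 1)
    (hdd : d * d = 1) (hdZ : d ∈ Z S)
    {E E' K K' : Subgroup Ω} (hE : Ess F E) (hE' : Ess F E') (hK : Kl F d E K)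
    (hK' : Kl F d E' K') {k k' : Ω} (hk : k ∈ K) (hk' : k' ∈ K') (hkZ : k ∉ Z S)
    (hkZ' : k' ∉ Z S) (hN : k⁻¹ * k' ∈ NS S) :
    k⁻¹ * k' ∈ Cfsg.Agent.H617.FusFour.E S := by
  obtain ⟨-, hEZ⟩ := h.ess_inf' hNQ hE
  obtain ⟨-, hEZ'⟩ := h.ess_inf' hNQ hE'
  have hES := hE.1.1
  have hES' := hE'.1.1
  have hZE : Z S ≤ E := Z_le_of_isCentric hE.2.1
  have hZE' : Z S ≤ E' := Z_le_of_isCentric hE'.2.1
  have hkE := hK.le hk
  have hkE' := hK'.le hk'
  have hkA : k ∉ A := fun h1 => hkZ (hEZ k hkE h1)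
  have hkA' : k' ∉ A := fun h1 => hkZ' (hEZ' k' hkE' h1)
  obtain ⟨s, hs, z, hz, hsz⟩ := hN
  obtain ⟨a, ha, hsa⟩ := h.exists_cm hs
  have hk'eq : k' = k * s * z := by
    calc k' = k * (k⁻¹ * k') := by group
      _ = k * s * z := by rw [hsz]; group
  have hconjk : a * k * a⁻¹ = k * s := by rw [h.conj_out ha (hES hkE) hkA, ← hsa]
  have hksE' : k * s ∈ E' := by
    have h1 : k * s = k' * z⁻¹ := by rw [hk'eq]; group
    rw [h1]
    exact E'.mul_mem hkE' (E'.inv_mem (hZE' hz))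
  -- conjugation by `a`
  have hφ : conjHom E a ∈ F.Hom E := F.conj_mem hES (h.le ha)
  have hφa : ∀ v : E, conjHom E a v = a * v * a⁻¹ := fun v => rfl
  have hrange : (conjHom E a).range = E' := by
    apply le_antisymm
    · rintro _ ⟨v, rfl⟩
      rw [hφa]
      by_cases hvA : (v : Ω) ∈ A
      · rw [(h.conj_cases hES ha v.2).1 hvA]
        exact hZE' (hEZ v v.2 hvA)
      · have h1 := h.inv_mul_mem_Z hES hEZ hkE v.2 hkA hvA
        have h2 : a * (v : Ω) * a⁻¹ = (a * k * a⁻¹) * (a * (k⁻¹ * v) * a⁻¹) := by group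
        have h3 : a * (k⁻¹ * (v : Ω)) * a⁻¹ = k⁻¹ * v := by
          rw [(mem_Z.1 h1).2 a (h.le ha)]; group
        rw [h2, hconjk, h3]
        exact E'.mul_mem hksE' (hZE' h1)
    · intro v hv
      by_cases hvA : v ∈ A
      · have h1 := hEZ' v hv hvA
        refine ⟨⟨v, hZE h1⟩, ?_⟩
        rw [hφa]
        exact (h.conj_cases hES ha (hZE h1)).1 hvA
      · have h1 := h.inv_mul_mem_Z hES' hEZ' hkE' hv hkA' hvA
        have hζ : z * (k'⁻¹ * v) ∈ Z S := (Z S).mul_mem hz h1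
        refine ⟨⟨k * (z * (k'⁻¹ * v)), E.mul_mem hkE (hZE hζ)⟩, ?_⟩
        rw [hφa]
        change a * (k * (z * (k'⁻¹ * v))) * a⁻¹ = v
        have h3 : a * (z * (k'⁻¹ * v)) * a⁻¹ = z * (k'⁻¹ * v) := by
          rw [(mem_Z.1 hζ).2 a (h.le ha)]; group
        calc a * (k * (z * (k'⁻¹ * v))) * a⁻¹ = (a * k * a⁻¹) * (a * (z * (k'⁻¹ * v)) * a⁻¹) := by
              group
          _ = k * s * (z * (k'⁻¹ * v)) := by rw [hconjk, h3]
          _ = k' * (k'⁻¹ * v) := by rw [← mul_assoc (k * s), ← hk'eq]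
          _ = v := by group
  -- transport of an automorphism
  obtain ⟨α, hα, hodd, hα1⟩ := hE.2.2
  have hα' := congr_mem_autGroup hφ hrange hα
  set ι := isoOf (conjHom E a) (F.injective_of_mem hφ) hrange with hι
  have hodd' : ¬ 2 ∣ orderOf (MulAut.congr ι α) := by
    rwa [MulEquiv.orderOf_eq]
  obtain ⟨v, hv⟩ := hK.surj α hα hodd hα1 k hk
  have h1 := hK'.mem _ hα' hodd' (ι v)
  have h2 : (MulAut.congr ι α) (ι v) = ι (α v) := by
    change ι (α (ι.symm (ι v))) = _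
    rw [MulEquiv.symm_apply_apply]
  rw [h2] at h1
  have h3 : ((ι v : E') : Ω)⁻¹ * (ι (α v) : E') = k * s := by
    have h4 : ((ι v : E') : Ω) = a * v * a⁻¹ := rfl
    have h5 : ((ι (α v) : E') : Ω) = a * (α v : E) * a⁻¹ := rfl
    rw [h4, h5, ← hconjk, ← hv]
    group
  rw [h3] at h1
  have h4 : z ∈ K' := by
    have h5 := K'.mul_mem (K'.inv_mem h1) hk'
    have h6 : (k * s)⁻¹ * k' = z := by rw [hk'eq]; group
    rwa [h6] at h5
  rw [hsz]
  rcases hK'.eq_one_or hd1 hdd hdZ h4 hz with h5 | h5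
  · rw [h5, mul_one]; exact hs
  · rw [h5]; exact Subgroup.mul_mem _ hs hdE

end Grp

end Cfsg.Agent.H645.FT
end

-- part: H934/FTC1
section
/-!
# Odd automorphisms fixing an element can be moved to centric subgroups

Lemma C1 of the plan for the blocks with a defect group having a cyclic subgroup of index at most four.
-/

set_option autoImplicit false

namespace Cfsg.Agent.H934.FTC1

open Cfsg Cfsg.FusionSystem Cfsg.Agent.H645.FT Cfsg.Agent.H802

variable {Ω : Type*} [Group Ω] {S : Subgroup Ω}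

theorem isConjElt_hom {F : FusionSystem S} {u : Ω} {P : Subgroup Ω} {t : P}
    (h : F.IsConjElt u t) {φ : P →* Ω} (hφ : φ ∈ F.Hom P) : F.IsConjElt u (φ t) := by
  obtain ⟨ψ, hψ, he⟩ := h
  have hmaps : ∀ x : Subgroup.zpowers u, ψ x ∈ P := by
    rintro ⟨x, n, rfl⟩
    have h1 : (⟨u ^ n, n, rfl⟩ : Subgroup.zpowers u) = ⟨u, Subgroup.mem_zpowers u⟩ ^ n :=
      Subtype.ext (by simp)
    have h2 : ψ (⟨u ^ n, n, rfl⟩ : Subgroup.zpowers u) = (t : Ω) ^ n := by
      rw [h1, map_zpow, he]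
    exact h2 ▸ P.zpow_mem t.2 n
  refine ⟨_, F.comp_mem hψ hφ hmaps, ?_⟩
  show φ ⟨ψ ⟨u, _⟩, _⟩ = φ t
  congr 1
  exact Subtype.ext he

/-- The extension on the subgroup generated by `Q` and `C_S(Q)`. -/
theorem exists_extend_aux [Finite S] {F : FusionSystem S} {Q : Subgroup Ω}
    (hQS : Q ≤ S) (hnc : ¬ centralizerIn S Q ≤ Q) {α : MulAut Q}
    (hα : α ∈ F.autGroup Q) {N : Subgroup Ω} (hQN : Q ≤ N) (hCN : centralizerIn S Q ≤ N)
    {ψ : N →* Ω} (hψ : ψ ∈ F.Hom N)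
    (hψQ : ∀ (x : Ω) (hx : x ∈ Q), ψ ⟨x, hQN hx⟩ = (α ⟨x, hx⟩ : Q)) :
    ∃ (R : Subgroup Ω) (hQR : Q ≤ R), R ≤ S ∧ Nat.card Q < Nat.card R ∧ ∃ β ∈ F.autGroup R,
      ∀ x : Q, β (Subgroup.inclusion hQR x) = Subgroup.inclusion hQR (α x) := by
  have hfinQ : Finite Q := finite_of_le hQS
  have hα' := (mem_autGroup_iff F hQS α).1 hα
  have hr : (Q.subtype.comp α.toMonoidHom).range = Q :=
    range_eq_of_mapsTo hα' (fun x => (α x).2)
  have hRN : Q ⊔ centralizerIn S Q ≤ N := sup_le hQN hCN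
  have hRS : Q ⊔ centralizerIn S Q ≤ S := sup_le hQS inf_le_left
  have hQR : Q ≤ Q ⊔ centralizerIn S Q := le_sup_left
  have hCR : centralizerIn S Q ≤ Q ⊔ centralizerIn S Q := le_sup_right
  have hfinR : Finite (Q ⊔ centralizerIn S Q : Subgroup Ω) := finite_of_le hRS
  have hcard : Nat.card Q < Nat.card (Q ⊔ centralizerIn S Q : Subgroup Ω) := by
    have hlt : Q < Q ⊔ centralizerIn S Q :=
      lt_of_le_of_ne hQR fun heq => hnc (by
        intro x hx
        have := hCR hx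
        rwa [← heq] at this)
    by_contra hle
    exact hlt.ne (Subgroup.eq_of_le_of_card_ge hQR (not_lt.1 hle))
  have hmaps : Q ⊔ centralizerIn S Q ≤ ((Q ⊔ centralizerIn S Q).comap ψ).map N.subtype := by
    refine sup_le ?_ ?_
    · intro x hx
      refine ⟨⟨x, hQN hx⟩, ?_, rfl⟩
      have h1 : ψ ⟨x, hQN hx⟩ ∈ Q ⊔ centralizerIn S Q := by
        rw [hψQ x hx]
        exact hQR (α ⟨x, hx⟩).2
      exact h1
    · intro x hx
      refine ⟨⟨x, hCN hx⟩, ?_, rfl⟩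
      have h1 : ψ ⟨x, hCN hx⟩ ∈ centralizerIn S Q :=
        apply_mem_centralizerIn hψ hQN hr (fun x hx => hψQ x hx) ⟨x, hCN hx⟩ hx.2
      exact hCR h1
  have hres := restrict_mem hψ hRN
  have hmaps' : ∀ x : (Q ⊔ centralizerIn S Q : Subgroup Ω),
      (ψ.comp (Subgroup.inclusion hRN)) x ∈ Q ⊔ centralizerIn S Q := by
    rintro ⟨x, hx⟩
    obtain ⟨y, hy, hyx⟩ := hmaps hx
    have : y = ⟨x, hRN hx⟩ := Subtype.ext hyx
    rw [this] at hy
    exact hy
  obtain ⟨β, hβ, hβe⟩ := exists_aut hres (range_eq_of_mapsTo hres hmaps')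
  refine ⟨_, hQR, hRS, hcard, β, hβ, fun x => ?_⟩
  apply Subtype.ext
  rw [hβe]
  exact hψQ x x.2

/-- If a receptive subgroup is not centric, every automorphism in the system extends to an
automorphism of a larger subgroup. -/
theorem exists_extend [Finite S] {F : FusionSystem S} {Q : Subgroup Ω}
    (hQ : F.IsReceptive Q) (hnc : ¬ centralizerIn S Q ≤ Q) {α : MulAut Q}
    (hα : α ∈ F.autGroup Q) :
    ∃ (R : Subgroup Ω) (hQR : Q ≤ R), R ≤ S ∧ Nat.card Q < Nat.card R ∧ ∃ β ∈ F.autGroup R,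
      ∀ x : Q, β (Subgroup.inclusion hQR x) = Subgroup.inclusion hQR (α x) := by
  have hQS := hQ.1
  have hfinQ : Finite Q := finite_of_le hQS
  have hα' := (mem_autGroup_iff F hQS α).1 hα
  have hr : (Q.subtype.comp α.toMonoidHom).range = Q :=
    range_eq_of_mapsTo hα' (fun x => (α x).2)
  obtain ⟨ψ, hψ, hψe⟩ := hQ.2 Q _ hα' hr
  exact exists_extend_aux hQS hnc hα (le_extender hQS (hom_apply_mem hα'))
    (centralizerIn_le_extender S Q _) hψ (fun x hx => hψe x hx _)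

theorem exists_centric [Finite S] (hS : IsPGroup 2 S)
    {F : FusionSystem S} (hF : F.IsSaturated 2) {u : Ω} {E : Subgroup Ω} (hE : E ≤ S)
    {t : E} (hut : F.IsConjElt u t) {α : MulAut E} (hα : α ∈ F.autGroup E)
    (hodd : ¬ 2 ∣ orderOf α) (hfix : α t = t) (hα1 : α ≠ 1) :
    ∃ (E' : Subgroup Ω) (t' : E') (α' : MulAut E'), F.IsFullyNormalized E' ∧ F.IsCentric E' ∧
      F.IsConjElt u t' ∧ α' ∈ F.autGroup E' ∧ ¬ 2 ∣ orderOf α' ∧ α' t' = t' ∧ α' ≠ 1 := by
  have : Fact (Nat.Prime 2) := ⟨Nat.prime_two⟩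
  have main : ∀ n : ℕ, ∀ E : Subgroup Ω, Nat.card S - Nat.card E = n → E ≤ S → ∀ (t : E),
      F.IsConjElt u t → ∀ α ∈ F.autGroup E, ¬ 2 ∣ orderOf α → α t = t → α ≠ 1 →
      ∃ (E' : Subgroup Ω) (t' : E') (α' : MulAut E'), F.IsFullyNormalized E' ∧ F.IsCentric E' ∧
        F.IsConjElt u t' ∧ α' ∈ F.autGroup E' ∧ ¬ 2 ∣ orderOf α' ∧ α' t' = t' ∧ α' ≠ 1 := by
    intro n
    induction n using Nat.strong_induction_on with
    | _ n ih =>
      intro E hn hE t hut α hα hodd hfix hα1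
      obtain ⟨Q, ⟨φ, hφ, hφQ⟩, hQn⟩ := exists_isFullyNormalized hS hF hE
      have hcardEQ : Nat.card E = Nat.card Q := isConj_card_eq ⟨φ, hφ, hφQ⟩
      set e := isoOf φ (F.injective_of_mem hφ) hφQ with he
      set α₁ := MulAut.congr e α with hα₁
      have h1 : α₁ ∈ F.autGroup Q := congr_mem_autGroup hφ hφQ hα
      have h2 : orderOf α₁ = orderOf α := (MulAut.congr e).orderOf_eq α
      have h3 : α₁ (e t) = e t := by
        show e (α (e.symm (e t))) = e t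
        rw [e.symm_apply_apply, hfix]
      have h4 : α₁ ≠ 1 := by
        intro h
        apply hα1
        apply (MulAut.congr e).injective
        rw [map_one]
        exact h
      have h5 : F.IsConjElt u (e t : Q) := isConjElt_hom hut hφ
      rw [← h2] at hodd
      by_cases hc : centralizerIn S Q ≤ Q
      · exact ⟨Q, e t, α₁, hQn, isCentric_of_isFullyCentralized
          (isFullyCentralized_of_isFullyNormalized hS hF hQn) hc, h5, h1, hodd, h3, h4⟩
      · obtain ⟨R, hQR, hRS, hcard, β, hβ, hβe⟩ :=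
          exists_extend (isReceptive_of_isFullyNormalized hS hF hQn) hc h1
        have hfinR : Finite R := finite_of_le hRS
        have hfinA : Finite (MulAut R) := inferInstance
        have hRcard : Nat.card R ≤ Nat.card S := Subgroup.card_le_of_le hRS
        obtain ⟨k, m, hm, hkm⟩ := Nat.exists_eq_two_pow_mul_odd (orderOf_pos β).ne'
        have hpow : ∀ (j : ℕ) (x : Q), (β ^ j) (Subgroup.inclusion hQR x) =
            Subgroup.inclusion hQR ((α₁ ^ j) x) := by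
          intro j
          induction j with
          | zero => intro x; rfl
          | succ j ihj =>
            intro x
            rw [pow_succ, pow_succ, MulAut.mul_apply, MulAut.mul_apply, hβe, ihj]
        have hord : orderOf (β ^ 2 ^ k) = m := by
          rw [orderOf_pow_of_dvd (by positivity) (by rw [hkm]; exact Dvd.intro m rfl), hkm]
          exact Nat.mul_div_cancel_left m (by positivity)
        refine ih (Nat.card S - Nat.card R) (by omega) R rfl hRS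
          (Subgroup.inclusion hQR (e t)) h5 (β ^ 2 ^ k) (Subgroup.pow_mem _ hβ _) ?_ ?_ ?_
        · rw [hord]
          exact fun h => (Nat.not_even_iff_odd.2 hm) (even_iff_two_dvd.2 h)
        · have hfixpow : ∀ j : ℕ, (α₁ ^ j) (e t) = e t := by
            intro j
            induction j with
            | zero => rfl
            | succ j ihj => rw [pow_succ, MulAut.mul_apply, h3, ihj]
          rw [hpow, hfixpow]
        · intro hone
          have h6 : α₁ ^ 2 ^ k = 1 := by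
            apply MulEquiv.ext
            intro x
            have h7 := hpow (2 ^ k) x
            rw [hone] at h7
            exact (Subgroup.inclusion_injective hQR h7).symm
          have h8 : orderOf α₁ ∣ 2 ^ k := orderOf_dvd_of_pow_eq_one h6
          obtain ⟨j, -, hj⟩ := (Nat.dvd_prime_pow Nat.prime_two).1 h8
          rcases Nat.eq_zero_or_pos j with hj0 | hj0
          · rw [hj0, pow_zero, orderOf_eq_one_iff] at hj
            exact h4 hj
          · exact hodd (hj ▸ dvd_pow_self 2 hj0.ne')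
  exact main _ E rfl hE t hut α hα hodd hfix hα1

end Cfsg.Agent.H934.FTC1
end

-- part: H934/FTD1
section
/-!
# Invariant sets: it is enough to test automorphisms of odd order

Lemma D1 of the plan for the blocks with a defect group having a cyclic subgroup of index at most four.
-/

set_option autoImplicit false

namespace Cfsg.Agent.H934.FTD1

open Cfsg Cfsg.FusionSystem Cfsg.Agent.H645.FT Cfsg.Agent.H802 Cfsg.Agent.H617.FusInv

/-- A subgroup containing a Sylow 2-subgroup and all elements of odd order is everything. -/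
theorem eq_top_of_sylow_two {A : Type*} [Group A] [Finite A] (H : Subgroup A) (R : Sylow 2 A)
    (hR : (R : Subgroup A) ≤ H) (hodd : ∀ a : A, ¬ 2 ∣ orderOf a → a ∈ H) : H = ⊤ := by
  rw [← Subgroup.index_eq_one]
  by_contra hne
  obtain ⟨r, hr, hrd⟩ := Nat.exists_prime_and_dvd hne
  have : Fact r.Prime := ⟨hr⟩
  have : Fact (Nat.Prime 2) := ⟨Nat.prime_two⟩
  by_cases h2 : r = 2
  · subst h2
    exact R.not_dvd_index (dvd_trans hrd (Subgroup.index_dvd_of_le hR))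
  · obtain ⟨P⟩ : Nonempty (Sylow r A) := inferInstance
    have hP : (P : Subgroup A) ≤ H := by
      intro a ha
      refine hodd a fun h => ?_
      obtain ⟨k, hk⟩ := P.isPGroup' ⟨a, ha⟩
      have hk' : a ^ r ^ k = 1 := by
        have := congrArg Subtype.val hk
        simpa using this
      have h3 : 2 ∣ r ^ k := dvd_trans h (orderOf_dvd_of_pow_eq_one hk')
      have h4 : 2 ∣ r := Nat.prime_two.dvd_of_dvd_pow h3
      exact h2 ((Nat.prime_dvd_prime_iff_eq Nat.prime_two hr).1 h4).symm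
    exact P.not_dvd_index (dvd_trans hrd (Subgroup.index_dvd_of_le hP))

theorem mem_iff {Ω : Type*} [Group Ω] {S : Subgroup Ω} [Finite S] (hS : IsPGroup 2 S)
    {F : FusionSystem S} (hF : F.IsSaturated 2) (X : Set Ω)
    (hX : ∀ s ∈ S, ∀ x ∈ S, x ∈ X → s * x * s⁻¹ ∈ X)
    (h : ∀ E : Subgroup Ω, F.IsFullyNormalized E → F.IsCentric E → ∀ α ∈ F.autGroup E,
      ¬ 2 ∣ orderOf α → ∀ x : E, (x : Ω) ∈ X → ((α x : E) : Ω) ∈ X)
    {x y : Ω} (hxy : F.IsConjElt x y) : x ∈ X ↔ y ∈ X := by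
  have : Fact (Nat.Prime 2) := ⟨Nat.prime_two⟩
  refine mem_iff_of_isConjElt hS hF X (fun Q hQ hQc α hα => ?_) hxy
  have hfinQ : Finite Q := finite_of_le hQ.1
  have hfinA : Finite (MulAut Q) := inferInstance
  let H : Subgroup (F.autGroup Q) :=
    { carrier := {β | ∀ x : Q, (x : Ω) ∈ X ↔ (((β : MulAut Q) x : Q) : Ω) ∈ X}
      mul_mem' := by
        intro a b ha hb x
        exact (hb x).trans (ha _)
      one_mem' := fun x => Iff.rfl
      inv_mem' := by
        intro a ha x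
        have h1 := ha (((a⁻¹ : F.autGroup Q) : MulAut Q) x)
        have h2 : (a : MulAut Q) (((a⁻¹ : F.autGroup Q) : MulAut Q) x) = x := by
          rw [Subgroup.coe_inv]
          exact MulEquiv.apply_symm_apply (a : MulAut Q) x
        rw [h2] at h1
        exact h1.symm }
  obtain ⟨-, R, hR⟩ := isFullyAutomized_of_isFullyNormalized hS hF hQ
  have hRH : (R : Subgroup (F.autGroup Q)) ≤ H := by
    rw [hR]
    intro β hβ x
    obtain ⟨g, hg, hgβ⟩ := (mem_autInducedBy_iff S Q _).1 (Subgroup.mem_subgroupOf.1 hβ)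
    refine mem_iff_of_maps (fun x hx => ?_) x
    rw [hgβ]
    exact hX g hg x (hQ.1 x.2) hx
  have htop : H = ⊤ := by
    refine eq_top_of_sylow_two H R hRH fun β hβ => ?_
    intro x
    refine mem_iff_of_maps (fun x hx => ?_) x
    exact h Q hQ hQc β β.2 (by rwa [Subgroup.orderOf_coe]) x hx
  have hmem : (⟨α, hα⟩ : F.autGroup Q) ∈ H := by
    rw [htop]
    exact Subgroup.mem_top _
  exact hmem

end Cfsg.Agent.H934.FTD1
end

-- part: H645/FT/Delta
section
/-!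
# A subgroup containing the focal subgroup

`FD S A y F d Δ`: what is used about the fusion system `F` in the block theoretic part; `Δ`
contains the focal subgroup and meets `Z(S)` in `⟨d⟩`.
-/

set_option autoImplicit false

namespace Cfsg.Agent.H645.FT

open Cfsg Cfsg.FusionSystem Cfsg.Agent.H802 Cfsg.Agent.H617.FusInv Cfsg.Agent.H617.FusTwo
open Cfsg.Agent.H617.FusFour Cfsg.Agent.H617.FusMain

variable {Ω : Type*} [Group Ω] {S A : Subgroup Ω} {x e y : Ω}

/-- The facts on the fusion system. -/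
structure FD (S A : Subgroup Ω) (y : Ω) (F : FusionSystem S) (d : Ω) (Δ : Subgroup S) :
    Prop where
  dE : d ∈ Cfsg.Agent.H617.FusFour.E S
  d1 : d ≠ 1
  dd : d * d = 1
  dZ : d ∈ Z S
  comm : ∀ a b : S, a * b * a⁻¹ * b⁻¹ ∈ Δ
  dΔ : ∀ v : S, (v : Ω) = d → v ∈ Δ
  cen : ∀ z : S, (z : Ω) ∈ Z S → z ∈ Δ → z = 1 ∨ (z : Ω) = d
  foc : ∀ u v : S, F.IsConjElt (u : Ω) (v : Ω) → u⁻¹ * v ∈ Δ
  cls : ∀ w ∈ A, w ∉ Z S → ∀ v, F.IsConjElt w v → v = w ∨ v = y * w * y⁻¹
  nild : NilAt F d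
  nilw : ∀ w ∈ A, w ∉ Z S → NilAt F w
  alt : (∃ u ∈ S, u ≠ 1 ∧ NilAt F u ∧ ∀ v, F.IsConjElt u v → Nat.card (C S v) = 2 * Nat.card (Z S)) ∨
    (∃ u ∈ A, u ∉ Z S ∧ orderOf u = 2 * Nat.card (Cfsg.Agent.H617.FusFour.E S) ∧
      4 ≤ Nat.card (Cfsg.Agent.H617.FusFour.E S) ∧ ∃ s ∈ S, s * u * s⁻¹ = u⁻¹)

/-- The involutions outside `Z(S)` of the four-groups. -/
def KI (F : FusionSystem S) (d v : Ω) : Prop :=
  ∃ E K : Subgroup Ω, Ess F E ∧ Kl F d E K ∧ v ∈ K ∧ v ∉ Z S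

theorem isConjElt_mem {F : FusionSystem S} {u v : Ω} (h : F.IsConjElt u v) : u ∈ S ∧ v ∈ S := by
  obtain ⟨φ, hφ, rfl⟩ := h
  exact ⟨(F.le_of_mem hφ).1 (Subgroup.mem_zpowers u), (F.le_of_mem hφ).2 _⟩

theorem eq_one_of_isConjElt {F : FusionSystem S} {u : Ω} (h : F.IsConjElt u 1) : u = 1 := by
  obtain ⟨φ, hφ, h1⟩ := h
  have h2 := F.injective_of_mem hφ (h1.trans (map_one φ).symm)
  exact congrArg Subtype.val h2

theorem isConjElt_self {F : FusionSystem S} {u : Ω} (hu : u ∈ S) : F.IsConjElt u u := by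
  refine ⟨(Subgroup.zpowers u).subtype, subtype_mem F (Subgroup.zpowers_le.2 hu), rfl⟩

namespace Grp

theorem ki_notMem (h : Grp S A x e y) [Finite S] {F : FusionSystem S} (hNQ : NQF x F) {d v : Ω}
    (hv : KI F d v) : v ∉ A := by
  obtain ⟨E, K, hE, hK, hvK, hvZ⟩ := hv
  exact fun h1 => hvZ ((h.ess_inf' hNQ hE).2 v (hK.le hvK) h1)

theorem ki_mem {F : FusionSystem S} {d v : Ω} (hv : KI F d v) : v ∈ S := by
  obtain ⟨E, K, hE, hK, hvK, hvZ⟩ := hv
  exact hE.1.1 (hK.le hvK)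

theorem ki_sq {F : FusionSystem S} {d v : Ω} (hv : KI F d v) : v * v = 1 := by
  obtain ⟨E, K, hE, hK, hvK, hvZ⟩ := hv
  exact hK.sq v hvK

theorem ki_congr (h : Grp S A x e y) [Finite S] {F : FusionSystem S}
    (hNQ : NQF x F) {d : Ω} (hdE : d ∈ Cfsg.Agent.H617.FusFour.E S) (hd1 : d ≠ 1)
    (hdd : d * d = 1) (hdZ : d ∈ Z S) {k k' : Ω} (hk : KI F d k) (hk' : KI F d k')
    (hN : k⁻¹ * k' ∈ NS S) : k⁻¹ * k' ∈ Cfsg.Agent.H617.FusFour.E S := by
  obtain ⟨E, K, hE, hK, hkK, hkZ⟩ := hk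
  obtain ⟨E', K', hE', hK', hkK', hkZ'⟩ := hk'
  exact h.inv_mul_mem_E hNQ hdE hd1 hdd hdZ hE hE' hK hK' hkK hkK' hkZ hkZ' hN

/-- Three elements outside `A`: two of them are congruent modulo `NS S`. -/
theorem congr_of_three (h : Grp S A x e y) {u v w : Ω} (hu : u ∈ S) (hv : v ∈ S) (hw : w ∈ S)
    (huA : u ∉ A) (hvA : v ∉ A) (hwA : w ∉ A) (huv : u⁻¹ * v ∉ NS S) :
    u⁻¹ * w ∈ NS S ∨ v⁻¹ * w ∈ NS S := by
  by_cases h1 : u⁻¹ * w ∈ NS S
  · exact Or.inl h1
  right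
  have h2 := h.mul_mem_NS (inv_mul_mem_of_relIndex_two h.idx hu hv huA hvA)
    (inv_mul_mem_of_relIndex_two h.idx hu hw huA hwA) huv h1
  have h3 : (u⁻¹ * v)⁻¹ * (u⁻¹ * w) = v⁻¹ * w := by group
  rwa [h3] at h2

/-- Generators of the subgroup. -/
theorem exists_gens (h : Grp S A x e y) [Finite S] {F : FusionSystem S}
    (hNQ : NQF x F) {d : Ω} (hdE : d ∈ Cfsg.Agent.H617.FusFour.E S) (hd1 : d ≠ 1)
    (hdd : d * d = 1) (hdZ : d ∈ Z S) :
    ∃ i j : Ω, (i = 1 ∨ KI F d i) ∧ (j = 1 ∨ KI F d j) ∧ (KI F d i → KI F d j → i⁻¹ * j ∉ NS S) ∧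
      ∀ k, KI F d k → i⁻¹ * k ∈ Cfsg.Agent.H617.FusFour.E S ∨
        j⁻¹ * k ∈ Cfsg.Agent.H617.FusFour.E S := by
  have h1no : ¬ KI F d 1 := fun h1 => h.ki_notMem hNQ h1 A.one_mem
  by_cases h1 : ∃ i, KI F d i
  · obtain ⟨i, hi⟩ := h1
    by_cases h2 : ∃ j, KI F d j ∧ i⁻¹ * j ∉ NS S
    · obtain ⟨j, hj, hij⟩ := h2
      refine ⟨i, j, Or.inr hi, Or.inr hj, fun _ _ => hij, fun k hk => ?_⟩
      rcases h.congr_of_three (ki_mem hi) (ki_mem hj) (ki_mem hk) (h.ki_notMem hNQ hi)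
        (h.ki_notMem hNQ hj) (h.ki_notMem hNQ hk) hij with h3 | h3
      · exact Or.inl (h.ki_congr hNQ hdE hd1 hdd hdZ hi hk h3)
      · exact Or.inr (h.ki_congr hNQ hdE hd1 hdd hdZ hj hk h3)
    · push Not at h2
      refine ⟨i, 1, Or.inr hi, Or.inl rfl, fun _ h3 => absurd h3 h1no, fun k hk => Or.inl ?_⟩
      exact h.ki_congr hNQ hdE hd1 hdd hdZ hi hk (h2 k hk)
  · push Not at h1
    exact ⟨1, 1, Or.inl rfl, Or.inl rfl, fun h3 => absurd h3 h1no, fun k hk => absurd hk (h1 k)⟩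

theorem mem_commutator_iff {v : S} : v ∈ commutator S ↔ (v : Ω) ∈ Cfsg.Agent.H617.FusFour.E S := by
  have h1 : (commutator S).map S.subtype = ⁅S, S⁆ := Subgroup.map_subtype_commutator S
  constructor
  · intro hv
    change (v : Ω) ∈ ⁅S, S⁆
    rw [← h1]
    exact ⟨v, hv, rfl⟩
  · intro hv
    have hv' : (v : Ω) ∈ ⁅S, S⁆ := hv
    rw [← h1] at hv'
    obtain ⟨w, hw, hwv⟩ := hv'
    have h2 : w = v := Subtype.ext hwv
    rwa [← h2]

theorem of_eq_iff {a b : S} : Abelianization.of a = Abelianization.of b ↔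
    (a : Ω)⁻¹ * b ∈ Cfsg.Agent.H617.FusFour.E S := by
  have h1 : (Abelianization.of a = Abelianization.of b) ↔ a⁻¹ * b ∈ commutator S := QuotientGroup.eq
  rw [h1, mem_commutator_iff]
  rfl

theorem zpow_cases {V : Type*} [Group V] {v : V} (h : v * v = 1) (m : ℤ) : v ^ m = 1 ∨ v ^ m = v := by
  rcases Int.even_or_odd' m with ⟨k, rfl | rfl⟩
  · left
    rw [zpow_mul, zpow_two, h, one_zpow]
  · right
    rw [zpow_add, zpow_mul, zpow_two, h, one_zpow, one_mul, zpow_one]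

/-- The class of a noncentral element of `A`. -/
theorem isConjElt_A (h : Grp S A x e y) [Finite S] {F : FusionSystem S} (hF : F.IsSaturated 2)
    (hNQ : NQF x F) {w v : Ω} (hw : w ∈ A) (hwZ : w ∉ Z S) (hwv : F.IsConjElt w v) :
    v = w ∨ v = y * w * y⁻¹ := by
  have hyw := h.conj_mem h.yS hw
  have hyZ : y * w * y⁻¹ ∉ Z S := by
    intro h1
    apply hwZ
    have h2 := (mem_Z.1 h1).2 y h.yS
    have h3 : w = y * w * y⁻¹ := by
      calc w = y⁻¹ * (y * w * y⁻¹ * y) := by group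
        _ = y⁻¹ * (y * (y * w * y⁻¹)) := by rw [h2]
        _ = y * w * y⁻¹ := by group
    rwa [← h3] at h1
  have hyy : y * y ∈ A := by rw [h.mul_mem_iff h.yS h.yS]
  have h1 := Cfsg.Agent.H934.FTD1.mem_iff h.pgrp hF {v | v = w ∨ v = y * w * y⁻¹} ?_ ?_ hwv
  · exact h1.1 (Or.inl rfl)
  · rintro s hs t - ht
    have htA : t ∈ A := by
      rcases ht with rfl | rfl
      · exact hw
      · exact hyw
    by_cases hsA : s ∈ A
    · have h2 : s * t * s⁻¹ = t := by rw [h.comm s hsA t htA]; group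
      change s * t * s⁻¹ = w ∨ s * t * s⁻¹ = y * w * y⁻¹
      rw [h2]
      exact ht
    · change s * t * s⁻¹ = w ∨ s * t * s⁻¹ = y * w * y⁻¹
      rw [h.conj_eq hs hsA htA]
      rcases ht with rfl | rfl
      · exact Or.inr rfl
      · left
        have h3 := h.comm _ hyy w hw
        calc y * (y * w * y⁻¹) * y⁻¹ = (y * y * w) * (y * y)⁻¹ := by group
          _ = w * (y * y) * (y * y)⁻¹ := by rw [h3]
          _ = w := by group
  · intro E hn hc α hα hodd t ht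
    by_cases hα1 : α = 1
    · rw [hα1]; exact ht
    exfalso
    have hE : Ess F E := ⟨hn, hc, α, hα, hodd, hα1⟩
    obtain ⟨-, hEZ⟩ := h.ess_inf' hNQ hE
    rcases ht with h2 | h2
    · exact hwZ (by rw [← h2]; exact hEZ t t.2 (by rw [h2]; exact hw))
    · exact hyZ (by rw [← h2]; exact hEZ t t.2 (by rw [h2]; exact hyw))

theorem conj_notMem_Z (h : Grp S A x e y) {w : Ω} (hwZ : w ∉ Z S) : y * w * y⁻¹ ∉ Z S := by
  intro h1
  apply hwZ
  have h2 := (mem_Z.1 h1).2 y h.yS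
  have h3 : w = y * w * y⁻¹ := by
    calc w = y⁻¹ * (y * w * y⁻¹ * y) := by group
      _ = y⁻¹ * (y * (y * w * y⁻¹)) := by rw [h2]
      _ = y * w * y⁻¹ := by group
  rwa [← h3] at h1

theorem nilAt_A (h : Grp S A x e y) [Finite S] {F : FusionSystem S} (hF : F.IsSaturated 2)
    (hNQ : NQF x F) {w : Ω} (hw : w ∈ A) (hwZ : w ∉ Z S) : NilAt F w := by
  intro E hE t ht α hα hodd hfix
  by_contra hα1
  obtain ⟨E', t', α', hn', hc', ht', hα', hodd', hfix', hα1'⟩ :=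
    Cfsg.Agent.H934.FTC1.exists_centric h.pgrp hF hE ht hα hodd hfix hα1
  have hE' : Ess F E' := ⟨hn', hc', α', hα', hodd', hα1'⟩
  obtain ⟨-, hEZ⟩ := h.ess_inf' hNQ hE'
  rcases h.isConjElt_A hF hNQ hw hwZ ht' with h2 | h2
  · exact hwZ (by rw [← h2]; exact hEZ t' t'.2 (by rw [h2]; exact hw))
  · exact h.conj_notMem_Z hwZ (by rw [← h2]; exact hEZ t' t'.2 (by rw [h2]; exact h.conj_mem h.yS hw))

/-- A coset of `NS S` meeting no essential subgroup. -/
theorem alt_of_type (h : Grp S A x e y) [Finite S] {F : FusionSystem S} (hF : F.IsSaturated 2)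
    {u : Ω} (hu : u ∈ S) (huA : u ∉ A)
    (hno : ∀ E, Ess F E → ∀ v ∈ E, u⁻¹ * v ∉ NS S) :
    u ≠ 1 ∧ NilAt F u ∧ ∀ v, F.IsConjElt u v → Nat.card (C S v) = 2 * Nat.card (Z S) := by
  have hcls : ∀ v, F.IsConjElt u v → u⁻¹ * v ∈ NS S := by
    intro v hv
    have h1 := Cfsg.Agent.H934.FTD1.mem_iff h.pgrp hF {v | u⁻¹ * v ∈ NS S} ?_ ?_ hv
    · refine h1.1 ?_
      change u⁻¹ * u ∈ NS S
      rw [inv_mul_cancel]
      exact (NS S).one_mem
    · intro s hs t htS ht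
      change u⁻¹ * (s * t * s⁻¹) ∈ NS S
      have h2 : u⁻¹ * (s * t * s⁻¹) = (u⁻¹ * t) * (t⁻¹ * (s * t * s⁻¹)) := by group
      rw [h2]
      exact (NS S).mul_mem ht (E_le_NS (inv_mul_conj_mem_E hs htS))
    · intro E hn hc α hα hodd t ht
      by_cases hα1 : α = 1
      · rw [hα1]; exact ht
      · exact absurd ht (hno E ⟨hn, hc, α, hα, hodd, hα1⟩ t t.2)
  refine ⟨fun h1 => huA (h1 ▸ A.one_mem), ?_, ?_⟩
  · intro E hE t ht α hα hodd hfix
    by_contra hα1
    obtain ⟨E', t', α', hn', hc', ht', hα', hodd', hfix', hα1'⟩ :=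
      Cfsg.Agent.H934.FTC1.exists_centric h.pgrp hF hE ht hα hodd hfix hα1
    exact hno E' ⟨hn', hc', α', hα', hodd', hα1'⟩ t' t'.2 (hcls _ ht')
  · intro v hv
    have hvS := (isConjElt_mem hv).2
    have hvA : v ∉ A := by
      intro h1
      apply huA
      have h2 := h.NS_le_A (hcls v hv)
      rw [h.mul_mem_iff (S.inv_mem hu) hvS] at h2
      have h3 := A.inv_mem (h2.2 h1)
      rwa [inv_inv] at h3
    have h2 := card_C_out h.le h.idx h.comm h.ne hvS hvA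
    rw [card_eq_mul_relIndex (Z_le_C hvS), h2, mul_comm]

end Grp

end Cfsg.Agent.H645.FT
end

-- part: H645/FT/DeltaB
section
/-!
# Existence of the subgroup `Δ`
-/

set_option autoImplicit false

namespace Cfsg.Agent.H645.FT

open Cfsg Cfsg.FusionSystem Cfsg.Agent.H802 Cfsg.Agent.H617.FusInv Cfsg.Agent.H617.FusTwo
open Cfsg.Agent.H617.FusFour Cfsg.Agent.H617.FusMain

variable {Ω : Type*} [Group Ω] {S A : Subgroup Ω} {x e y : Ω}

namespace Grp

/-- The alternatives for the bound on the characters of height zero. -/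
theorem exists_alt (h : Grp S A x e y) [Finite S] {F : FusionSystem S} (hF : F.IsSaturated 2)
    (hNQ : NQF x F) {d : Ω} (hdE : d ∈ Cfsg.Agent.H617.FusFour.E S) (hd1 : d ≠ 1)
    (hdd : d * d = 1) (hdZ : d ∈ Z S)
    (hdu : ∀ s ∈ Cfsg.Agent.H617.FusFour.E S, s ∈ Z S → s = 1 ∨ s = d) :
    (∃ u ∈ S, u ≠ 1 ∧ NilAt F u ∧ ∀ v, F.IsConjElt u v → Nat.card (C S v) = 2 * Nat.card (Z S)) ∨
    (∃ u ∈ A, u ∉ Z S ∧ orderOf u = 2 * Nat.card (Cfsg.Agent.H617.FusFour.E S) ∧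
      4 ≤ Nat.card (Cfsg.Agent.H617.FusFour.E S) ∧ ∃ s ∈ S, s * u * s⁻¹ = u⁻¹) := by
  by_cases hall : ∀ u ∈ S, u ∉ A → ∃ E, Ess F E ∧ ∃ v ∈ E, u⁻¹ * v ∈ NS S
  swap
  · push Not at hall
    obtain ⟨u, hu, huA, hno⟩ := hall
    exact Or.inl ⟨u, hu, h.alt_of_type hF hu huA hno⟩
  -- an involution in each coset
  have key : ∀ u ∈ S, u ∉ A → ∃ k, KI F d k ∧ u⁻¹ * k ∈ NS S := by
    intro u hu huA
    obtain ⟨E, hE, v, hv, huv⟩ := hall u hu huA
    obtain ⟨K, hK⟩ := h.exists_kl hF hNQ hdE hd1 hdd hdZ hdu hE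
    obtain ⟨k, hk, hkZ⟩ := hK.out
    have hki : KI F d k := ⟨E, K, hE, hK, hk, hkZ⟩
    have hkA := h.ki_notMem hNQ hki
    have hvA : v ∉ A := by
      intro h1
      apply huA
      have h2 := h.NS_le_A huv
      rw [h.mul_mem_iff (S.inv_mem hu) (hE.1.1 hv)] at h2
      have h3 := A.inv_mem (h2.2 h1)
      rwa [inv_inv] at h3
    have h1 := h.inv_mul_mem_Z hE.1.1 (h.ess_inf' hNQ hE).2 hv (hK.le hk) hvA hkA
    refine ⟨k, hki, ?_⟩
    have h2 := (NS S).mul_mem huv (Z_le_NS h1)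
    have h3 : u⁻¹ * v * (v⁻¹ * k) = u⁻¹ * k := by group
    rwa [h3] at h2
  obtain ⟨k, hk, hyk⟩ := key y h.yS h.yA
  have hyxA : y * x ∉ A := by
    rw [h.mul_mem_iff h.yS (h.le h.xA)]
    exact fun h1 => h.yA (h1.2 h.xA)
  obtain ⟨k', hk', hyk'⟩ := key (y * x) (S.mul_mem h.yS (h.le h.xA)) hyxA
  have hkS := ki_mem hk
  have hkS' := ki_mem hk'
  have hkA := h.ki_notMem hNQ hk
  have hkA' := h.ki_notMem hNQ hk'
  have hkk := ki_sq hk
  have hkk' := ki_sq hk'
  have hki : k⁻¹ = k := inv_eq_of_mul_eq_one_left hkk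
  have hki' : k'⁻¹ = k' := inv_eq_of_mul_eq_one_left hkk'
  -- `u = k k'`
  have huA : k * k' ∈ A := by
    have h1 := inv_mul_mem_of_relIndex_two h.idx hkS hkS' hkA hkA'
    rwa [hki] at h1
  have huN : k * k' ∉ NS S := by
    intro h1
    apply h.x_notMem
    have h2 : x = (y⁻¹ * k) * (k⁻¹ * k') * ((y * x)⁻¹ * k')⁻¹ := by group
    rw [h2, hki]
    exact (NS S).mul_mem ((NS S).mul_mem hyk h1) ((NS S).inv_mem hyk')
  have huZ : k * k' ∉ Z S := fun h1 => huN (Z_le_NS h1)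
  have huu : k * (k * k') * k⁻¹ = (k * k')⁻¹ := by
    rw [mul_inv_rev, hki, hki', ← mul_assoc, hkk, one_mul]
  have hcm : cm y (k * k') = (k * k')⁻¹ * (k * k')⁻¹ := by
    unfold cm
    rw [← h.conj_eq hkS hkA huA, huu]
  have hord := h.zpowers_cm huA huN
  have hord2 : orderOf ((k * k') * (k * k')) = Nat.card (Cfsg.Agent.H617.FusFour.E S) := by
    rw [← hord, hcm, ← mul_inv_rev, orderOf_inv]
  by_cases h4 : 4 ≤ Nat.card (Cfsg.Agent.H617.FusFour.E S)
  · refine Or.inr ⟨k * k', huA, huZ, ?_, h4, k, hkS, huu⟩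
    have hfinA := h.finA
    obtain ⟨m, hm⟩ := IsPGroup.iff_orderOf.1 (h.pgrp.to_le h.le : IsPGroup 2 A) ⟨k * k', huA⟩
    rw [Subgroup.orderOf_mk] at hm
    have hm0 : m ≠ 0 := by
      rintro rfl
      rw [pow_zero, orderOf_eq_one_iff] at hm
      rw [hm, mul_one, orderOf_one] at hord2
      omega
    obtain ⟨m, rfl⟩ := Nat.exists_eq_succ_of_ne_zero hm0
    rw [← pow_two, orderOf_pow' _ (by norm_num), hm, pow_succ, Nat.gcd_mul_left_left,
      Nat.mul_div_cancel _ (by norm_num)] at hord2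
    rw [hm, pow_succ, hord2, mul_comm]
  · left
    have hE1 : Nat.card (Cfsg.Agent.H617.FusFour.E S) ≠ 1 := by
      rw [h.E_eq, Nat.card_zpowers]
      intro h1
      exact h.cm_ne (orderOf_eq_one_iff.1 h1)
    have hE3 : Nat.card (Cfsg.Agent.H617.FusFour.E S) ≠ 3 := by
      have hfinA := h.finA
      obtain ⟨m, hm⟩ := IsPGroup.iff_orderOf.1 (h.pgrp.to_le h.le : IsPGroup 2 A)
        ⟨cm y x, h.cm_mem_A h.xA⟩
      rw [Subgroup.orderOf_mk] at hm
      rw [h.E_eq, Nat.card_zpowers, hm]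
      intro h1
      rcases Nat.eq_zero_or_pos m with rfl | hm0
      · norm_num at h1
      · have h2 : 2 ∣ 2 ^ m := dvd_pow_self 2 hm0.ne'
        omega
    have hfinE : Finite (Cfsg.Agent.H617.FusFour.E S) := finite_of_le E_le
    have hE0 : 0 < Nat.card (Cfsg.Agent.H617.FusFour.E S) := Nat.card_pos
    have hE2 : Nat.card (Cfsg.Agent.H617.FusFour.E S) = 2 := by omega
    refine ⟨k * k', h.le huA, fun h1 => huZ (by rw [h1]; exact (Z S).one_mem),
      h.nilAt_A hF hNQ huA huZ, fun v hv => ?_⟩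
    have hvA : v ∈ A ∧ v ∉ Z S := by
      rcases h.isConjElt_A hF hNQ huA huZ hv with rfl | rfl
      · exact ⟨huA, huZ⟩
      · exact ⟨h.conj_mem h.yS huA, h.conj_notMem_Z huZ⟩
    rw [card_C_in h.le h.idx h.comm hvA.1 hvA.2, h.card_A, hE2, mul_comm]

theorem exists_fd (h : Grp S A x e y) [Finite S] {F : FusionSystem S} (hF : F.IsSaturated 2)
    (hNQ : NQF x F) : ∃ d Δ, FD S A y F d Δ := by
  obtain ⟨d, hdE, hd1, hdd, hdZ, hdu⟩ := h.exists_d
  obtain ⟨i, j, hi, hj, hij, hk⟩ := h.exists_gens hNQ hdE hd1 hdd hdZ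
  have hiS : i ∈ S := by
    rcases hi with rfl | hi
    · exact S.one_mem
    · exact ki_mem hi
  have hjS : j ∈ S := by
    rcases hj with rfl | hj
    · exact S.one_mem
    · exact ki_mem hj
  have hii : i * i = 1 := by
    rcases hi with rfl | hi
    · exact mul_one 1
    · exact ki_sq hi
  have hjj : j * j = 1 := by
    rcases hj with rfl | hj
    · exact mul_one 1
    · exact ki_sq hj
  set q : S →* Abelianization S := Abelianization.of with hq
  set Δ : Subgroup S := (Subgroup.closure {q ⟨i, hiS⟩, q ⟨j, hjS⟩}).comap q with hΔ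
  have hker : ∀ v : S, (v : Ω) ∈ Cfsg.Agent.H617.FusFour.E S → q v = 1 := by
    intro v hv
    rw [← map_one q]
    exact of_eq_iff.2 (by
      have h1 := Subgroup.inv_mem _ hv
      simpa using h1)
  have hEΔ : ∀ v : S, (v : Ω) ∈ Cfsg.Agent.H617.FusFour.E S → v ∈ Δ := by
    intro v hv
    rw [hΔ, Subgroup.mem_comap, hker v hv]
    exact Subgroup.one_mem _
  have hcomm : ∀ a b : S, a * b * a⁻¹ * b⁻¹ ∈ Δ := fun a b =>
    hEΔ _ (comm_mem a.2 b.2)
  -- the four-groups are contained in `Δ`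
  have hKΔ : ∀ E K, Ess F E → Kl F d E K → ∀ v : S, (v : Ω) ∈ K → v ∈ Δ := by
    intro E K hE hK v hv
    by_cases hvZ : (v : Ω) ∈ Z S
    · apply hEΔ
      rcases hK.eq_one_or hd1 hdd hdZ hv hvZ with h1 | h1
      · rw [h1]; exact Subgroup.one_mem _
      · rw [h1]; exact hdE
    · rcases hk v ⟨E, K, hE, hK, hv, hvZ⟩ with h1 | h1
      · have h2 : q ⟨i, hiS⟩ = q v := of_eq_iff.2 h1
        rw [hΔ, Subgroup.mem_comap, ← h2]
        exact Subgroup.subset_closure (by simp)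
      · have h2 : q ⟨j, hjS⟩ = q v := of_eq_iff.2 h1
        rw [hΔ, Subgroup.mem_comap, ← h2]
        exact Subgroup.subset_closure (by simp)
  have hcen : ∀ z : S, (z : Ω) ∈ Z S → z ∈ Δ → z = 1 ∨ (z : Ω) = d := by
    intro z hz hzΔ
    rw [hΔ, Subgroup.mem_comap, Subgroup.mem_closure_pair] at hzΔ
    obtain ⟨m, n, hmn⟩ := hzΔ
    have hfin : ∀ w : S, q w = q z → (w : Ω) ∈ NS S := by
      intro w hw
      have h1 := of_eq_iff.1 hw
      have h2 := (NS S).mul_mem (Z_le_NS hz) ((NS S).inv_mem (E_le_NS h1))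
      have h3 : (z : Ω) * ((w : Ω)⁻¹ * z)⁻¹ = w := by group
      rwa [h3] at h2
    have hdone : q z = 1 → z = 1 ∨ (z : Ω) = d := by
      intro h1
      have h2 : q 1 = q z := by rw [map_one, h1]
      have h3 := of_eq_iff.1 h2
      simp only [OneMemClass.coe_one, inv_one, one_mul] at h3
      rcases hdu z h3 hz with h4 | h4
      · exact Or.inl (Subtype.ext h4)
      · exact Or.inr h4
    have hqi : q ⟨i, hiS⟩ * q ⟨i, hiS⟩ = 1 := by
      rw [← map_mul, ← map_one q]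
      exact congrArg q (Subtype.ext hii)
    have hqj : q ⟨j, hjS⟩ * q ⟨j, hjS⟩ = 1 := by
      rw [← map_mul, ← map_one q]
      exact congrArg q (Subtype.ext hjj)
    have hI : q ⟨i, hiS⟩ = q z → z = 1 ∨ (z : Ω) = d := by
      intro h1
      rcases hi with rfl | hi
      · exact hdone (by rw [← h1]; exact map_one q)
      · exact absurd (h.NS_le_A (hfin _ h1)) (h.ki_notMem hNQ hi)
    have hJ : q ⟨j, hjS⟩ = q z → z = 1 ∨ (z : Ω) = d := by
      intro h1
      rcases hj with rfl | hj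
      · exact hdone (by rw [← h1]; exact map_one q)
      · exact absurd (h.NS_le_A (hfin _ h1)) (h.ki_notMem hNQ hj)
    rcases zpow_cases hqi m with h1 | h1 <;> rcases zpow_cases hqj n with h2 | h2 <;>
      rw [h1, h2] at hmn
    · exact hdone (by rw [← hmn, mul_one])
    · rw [one_mul] at hmn
      exact hJ hmn
    · rw [mul_one] at hmn
      exact hI hmn
    · rcases hi with rfl | hi
      · exact hJ (by rw [← hmn]; rw [show q ⟨1, hiS⟩ = 1 from map_one q, one_mul])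
      · rcases hj with rfl | hj
        · exact hI (by rw [← hmn]; rw [show q ⟨1, hjS⟩ = 1 from map_one q, mul_one])
        · exfalso
          apply hij hi hj
          have h3 := hfin (⟨i, hiS⟩ * ⟨j, hjS⟩) (by rw [map_mul, hmn])
          have h4 : i⁻¹ = i := inv_eq_of_mul_eq_one_left hii
          rw [h4]
          exact h3
  have hdΔ : ∀ v : S, (v : Ω) = d → v ∈ Δ := fun v hv => hEΔ v (hv ▸ hdE)
  have hfoc : ∀ u v : S, F.IsConjElt (u : Ω) (v : Ω) → u⁻¹ * v ∈ Δ := by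
    intro u v huv
    have h1 := Cfsg.Agent.H934.FTD1.mem_iff h.pgrp hF
      {w : Ω | ∃ hw : w ∈ S, u⁻¹ * ⟨w, hw⟩ ∈ Δ} ?_ ?_ huv
    · have h2 : ∃ hw : (u : Ω) ∈ S, u⁻¹ * ⟨(u : Ω), hw⟩ ∈ Δ := ⟨u.2, by
        rw [show (⟨(u : Ω), u.2⟩ : S) = u from rfl, inv_mul_cancel]
        exact Δ.one_mem⟩
      obtain ⟨h3, h4⟩ := h1.1 h2
      exact h4
    · rintro s hs t htS ⟨htS2, ht⟩
      refine ⟨S.mul_mem (S.mul_mem hs htS) (S.inv_mem hs), ?_⟩
      have h2 : u⁻¹ * (⟨s * t * s⁻¹, S.mul_mem (S.mul_mem hs htS) (S.inv_mem hs)⟩ : S) =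
          (u⁻¹ * ⟨t, htS⟩) * ((⟨t, htS⟩ : S)⁻¹ * (⟨s, hs⟩ * ⟨t, htS⟩ * ⟨s, hs⟩⁻¹)) := by
        apply Subtype.ext
        change (u : Ω)⁻¹ * (s * t * s⁻¹) = ((u : Ω)⁻¹ * t) * (t⁻¹ * (s * t * s⁻¹))
        group
      rw [h2]
      exact Δ.mul_mem ht (hEΔ _ (inv_mul_conj_mem_E hs htS))
    · rintro E hn hc α hα hodd t ⟨htS, ht⟩
      by_cases hα1 : α = 1
      · rw [hα1]; exact ⟨htS, ht⟩
      have hE : Ess F E := ⟨hn, hc, α, hα, hodd, hα1⟩
      obtain ⟨K, hK⟩ := h.exists_kl hF hNQ hdE hd1 hdd hdZ hdu hE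
      have hαS : ((α t : E) : Ω) ∈ S := hn.1 (α t).2
      refine ⟨hαS, ?_⟩
      have h2 : u⁻¹ * (⟨((α t : E) : Ω), hαS⟩ : S) =
          (u⁻¹ * ⟨(t : Ω), htS⟩) * ((⟨(t : Ω), htS⟩ : S)⁻¹ * ⟨((α t : E) : Ω), hαS⟩) := by group
      rw [h2]
      exact Δ.mul_mem ht (hKΔ E K hE hK _ (hK.mem α hα hodd t))
  refine ⟨d, Δ, hdE, hd1, hdd, hdZ, hcomm, hdΔ, hcen, hfoc, fun w hw hwZ v hv =>
    h.isConjElt_A hF hNQ hw hwZ hv, ?_, fun w hw hwZ => h.nilAt_A hF hNQ hw hwZ,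
    h.exists_alt hF hNQ hdE hd1 hdd hdZ hdu⟩
  -- `NilAt F d`
  intro E hE t ht α hα hodd hfix
  by_contra hα1
  obtain ⟨E', t', α', hn', hc', ht', hα', hodd', hfix', hα1'⟩ :=
    Cfsg.Agent.H934.FTC1.exists_centric h.pgrp hF hE ht hα hodd hfix hα1
  have hE' : Ess F E' := ⟨hn', hc', α', hα', hodd', hα1'⟩
  obtain ⟨K, hK⟩ := h.exists_kl hF hNQ hdE hd1 hdd hdZ hdu hE'
  have htZ : (t' : Ω) ∈ Z S := hK.fix α' hα' hodd' hα1' t' hfix'
  have h1 := hfoc ⟨d, E_le hdE⟩ ⟨t', hE'.1.1 t'.2⟩ ht'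
  have h2 : (⟨(t' : Ω), hE'.1.1 t'.2⟩ : S) ∈ Δ := by
    have h3 := Δ.mul_mem (hdΔ ⟨d, E_le hdE⟩ rfl) h1
    rwa [mul_inv_cancel_left] at h3
  rcases hcen _ htZ h2 with h3 | h3
  · have h4 : (t' : Ω) = 1 := congrArg Subtype.val h3
    rw [h4] at ht'
    exact hd1 (eq_one_of_isConjElt ht')
  · exact hK.d_ne α' hα' hodd' hα1' t' h3 hfix'

end Grp

end Cfsg.Agent.H645.FT
end
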