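import Mathlib
import Cfsg.Agent.H802.FusEss
import Cfsg.Agent.H617.FusMain
import Cfsg.Agent.H794.SmallFix
import Cfsg.Agent.H745.MetaTwo
set_option linter.all false

-- part: H645/FT/Defs
section
/-!
# Odd automorphisms in a fusion system on a `2`-group: definitions

`NilAt F u`: no automorphism of odd order in the system fixes a conjugate of `u`;
`Odd2 F E`: `E` is fully normalized and centric and has a nontrivial automorphism of odd order.
-/

set_option autoImplicit false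

namespace Cfsg.Agent.H645.FT

open Cfsg Cfsg.FusionSystem

variable {Ω : Type*} [Group Ω] {S : Subgroup Ω}

/-- No automorphism of odd order in the system fixes a conjugate of `u`. -/
def NilAt (F : FusionSystem S) (u : Ω) : Prop :=
  ∀ E : Subgroup Ω, E ≤ S → ∀ t : E, F.IsConjElt u t → ∀ α ∈ F.autGroup E,
    ¬ 2 ∣ orderOf α → α t = t → α = 1

end Cfsg.Agent.H645.FT
end

-- part: H645/FT/Odd
section
/-!
# Automorphisms of odd order of small abelian `2`-groups

`H = ⟨a⟩ × ⟨e⟩` (or a quotient of it), `e² = 1`, invariant under the odd order automorphism `α` of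
the `2`-group `Q`.

* `fix_of_gen`: if `a² ≠ 1` then `α` fixes `H`;
* `fix_of_gen'`: `α` fixes `H` if it fixes an involution of `H`.
-/

set_option autoImplicit false

namespace Cfsg.Agent.H645.FT

open Cfsg.Agent.H745.MetaTwo (fix_of_cyclic sq_of_cyclic)

variable {Q : Type*} [Group Q]

theorem coprime_of_odd {Q : Type*} [Group Q] {α : MulAut Q} (h : ¬ 2 ∣ orderOf α) :
    (orderOf α).Coprime 2 :=
  ((Nat.Prime.coprime_iff_not_dvd Nat.prime_two).2 h).symm

/-- If `α` fixes `v⁻¹ α v` then it fixes `v`. -/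
theorem fix_of_div (h2 : IsPGroup 2 Q) {α : MulAut Q} (hα : ¬ 2 ∣ orderOf α) {v : Q}
    (h : α (v⁻¹ * α v) = v⁻¹ * α v) : α v = v :=
  Cfsg.Agent.H794.fix_of_fix_div h2 α (coprime_of_odd hα) v h

/-- If `α v = v * t` and `α t = t` then `α v = v`. -/
theorem fix_of_mul (h2 : IsPGroup 2 Q) {α : MulAut Q} (hα : ¬ 2 ∣ orderOf α) {v t : Q}
    (h : α v = v * t) (ht : α t = t) : α v = v :=
  fix_of_div h2 hα (by rw [h, inv_mul_cancel_left, ht])

/-- The elements of square one of `⟨a, e⟩`. -/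
theorem sq_one_cases {a e w v : Q} (hae : a * e = e * a) (hee : e * e = 1)
    (hw : w ∈ Subgroup.zpowers a) (hw1 : w ≠ 1) (hww : w * w = 1) (hfin : Finite Q)
    {i : ℕ} (hv : v = a ^ i ∨ v = a ^ i * e) (hvv : v * v = 1) :
    v = 1 ∨ v = w ∨ v = e ∨ v = w * e := by
  have hai : a ^ i ∈ Subgroup.zpowers a := Subgroup.npow_mem_zpowers a i
  have key : a ^ i * a ^ i = 1 → a ^ i = 1 ∨ a ^ i = w := fun h =>
    sq_of_cyclic (Subgroup.zpowers a) hai hw h hww hw1
  rcases hv with rfl | rfl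
  · rcases key hvv with h | h
    · exact Or.inl h
    · exact Or.inr (Or.inl h)
  · have hc : e * a ^ i = a ^ i * e := ((Commute.pow_left (show Commute a e from hae) i).eq).symm
    have h1 : a ^ i * a ^ i = 1 := by
      calc a ^ i * a ^ i = a ^ i * a ^ i * (e * e) := by rw [hee, mul_one]
        _ = a ^ i * (a ^ i * e) * e := by group
        _ = a ^ i * (e * a ^ i) * e := by rw [hc]
        _ = a ^ i * e * (a ^ i * e) := by group
        _ = 1 := hvv
    rcases key h1 with h | h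
    · exact Or.inr (Or.inr (Or.inl (by rw [h, one_mul])))
    · exact Or.inr (Or.inr (Or.inr (by rw [h])))

/-- An odd order automorphism of `⟨a⟩ × ⟨e⟩`, `a² ≠ 1`. -/
theorem fix_of_gen [Finite Q] (h2 : IsPGroup 2 Q) {α : MulAut Q} (hα : ¬ 2 ∣ orderOf α)
    (H : Subgroup Q) (hH : ∀ v ∈ H, α v ∈ H) {a e : Q} (ha : a ∈ H) (he : e ∈ H)
    (hae : a * e = e * a) (hee : e * e = 1) (hgen : ∀ v ∈ H, ∃ i : ℕ, v = a ^ i ∨ v = a ^ i * e)
    (h4 : a * a ≠ 1) : ∀ v ∈ H, α v = v := by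
  have hpow : ∀ i : ℕ, (a * a) ^ i = a ^ i * a ^ i := fun i => (Commute.refl a).mul_pow i
  -- `α` fixes `a * a`
  have haa : α (a * a) = a * a := by
    refine fix_of_cyclic h2 (Subgroup.zpowers (a * a)) α ?_ hα (pow_orderOf_eq_one α) _
      (Subgroup.mem_zpowers _)
    have h1 : α (a * a) ∈ Subgroup.zpowers (a * a) := by
      obtain ⟨i, hi | hi⟩ := hgen _ (hH a ha)
      · rw [map_mul, hi, ← hpow]
        exact Subgroup.npow_mem_zpowers _ _
      · have hc : e * a ^ i = a ^ i * e :=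
          ((Commute.pow_left (show Commute a e from hae) i).eq).symm
        have h3 : a ^ i * e * (a ^ i * e) = (a * a) ^ i := by
          rw [hpow]
          calc a ^ i * e * (a ^ i * e) = a ^ i * (e * a ^ i) * e := by group
            _ = a ^ i * (a ^ i * e) * e := by rw [hc]
            _ = a ^ i * a ^ i * (e * e) := by group
            _ = _ := by rw [hee, mul_one]
        rw [map_mul, hi, h3]
        exact Subgroup.npow_mem_zpowers _ _
    intro x hx
    obtain ⟨k, rfl⟩ := Subgroup.mem_zpowers_iff.1 hx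
    rw [map_zpow]
    exact Subgroup.zpow_mem _ h1 k
  -- the involution
  obtain ⟨w, hw, hw1, hww⟩ : ∃ w ∈ Subgroup.zpowers (a * a), w ≠ 1 ∧ w * w = 1 := by
    obtain ⟨k, hk⟩ := IsPGroup.iff_orderOf.1 h2 (a * a)
    have hk0 : k ≠ 0 := by
      rintro rfl
      rw [pow_zero, orderOf_eq_one_iff] at hk
      exact h4 hk
    refine ⟨(a * a) ^ 2 ^ (k - 1), Subgroup.npow_mem_zpowers _ _, ?_, ?_⟩
    · intro h
      have h5 := orderOf_dvd_of_pow_eq_one h
      rw [hk] at h5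
      have h6 := (Nat.pow_dvd_pow_iff_le_right (by norm_num : 1 < 2)).1 h5
      omega
    · rw [← pow_add, ← two_mul, ← pow_succ', Nat.sub_add_cancel (Nat.one_le_iff_ne_zero.2 hk0),
        ← hk, pow_orderOf_eq_one]
  have hwa : w ∈ Subgroup.zpowers a :=
    (Subgroup.zpowers_le.2 (Subgroup.mul_mem _ (Subgroup.mem_zpowers a) (Subgroup.mem_zpowers a))) hw
  have hwfix : α w = w := by
    obtain ⟨k, rfl⟩ := Subgroup.mem_zpowers_iff.1 hw
    rw [map_zpow, haa]
  have cases' : ∀ v ∈ H, v * v = 1 → v = 1 ∨ v = w ∨ v = e ∨ v = w * e := by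
    intro v hv hvv
    obtain ⟨i, hi⟩ := hgen v hv
    exact sq_one_cases hae hee hwa hw1 hww inferInstance hi hvv
  have hwe : w * e = e * w := by
    obtain ⟨k, rfl⟩ := Subgroup.mem_zpowers_iff.1 hwa
    exact (Commute.zpow_left (show Commute a e from hae) k).eq
  -- `α` fixes `e`
  have hefix : α e = e := by
    have h1 : α e * α e = 1 := by rw [← map_mul, hee, map_one]
    rcases cases' _ (hH e he) h1 with h | h | h | h
    · have : e = 1 := by
        apply α.injective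
        rw [h, map_one]
      rw [this, map_one]
    · have : e = w := by
        apply α.injective
        rw [h, hwfix]
      rw [h, this]
    · exact h
    · exact fix_of_mul h2 hα (h.trans hwe) hwfix
  have hfix4 : ∀ v, (v = 1 ∨ v = w ∨ v = e ∨ v = w * e) → α v = v := by
    rintro v (rfl | rfl | rfl | rfl)
    · exact map_one _
    · exact hwfix
    · exact hefix
    · rw [map_mul, hwfix, hefix]
  -- `α` fixes `a`
  have hafix : α a = a := by
    refine fix_of_div h2 hα (hfix4 _ (cases' _ (H.mul_mem (H.inv_mem ha) (hH a ha)) ?_))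
    have hcomm : a * α a = α a * a := by
      obtain ⟨i, hi | hi⟩ := hgen _ (hH a ha)
      · rw [hi, ← pow_succ, ← pow_succ']
      · rw [hi, ← mul_assoc, ← pow_succ', mul_assoc, ← hae, ← mul_assoc, ← pow_succ]
    have h3 : α a * α a = a * a := by rw [← map_mul, haa]
    calc a⁻¹ * α a * (a⁻¹ * α a) = a⁻¹ * (α a * a⁻¹) * α a := by group
      _ = a⁻¹ * (a⁻¹ * α a) * α a := by
          congr 2
          calc α a * a⁻¹ = a⁻¹ * (a * α a) * a⁻¹ := by group
            _ = a⁻¹ * (α a * a) * a⁻¹ := by rw [hcomm]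
            _ = a⁻¹ * α a := by group
      _ = a⁻¹ * a⁻¹ * (α a * α a) := by group
      _ = 1 := by rw [h3]; group
  intro v hv
  obtain ⟨i, hi | hi⟩ := hgen v hv
  · rw [hi, map_pow, hafix]
  · rw [hi, map_mul, map_pow, hafix, hefix]

/-- The elements of a group `{1, a, e, a e}`. -/
theorem klein_cases {a e : Q} (haa : a * a = 1) (hee : e * e = 1) (hae : a * e = e * a)
    {d v w : Q} (hd : d = 1 ∨ d = a ∨ d = e ∨ d = a * e) (hv : v = 1 ∨ v = a ∨ v = e ∨ v = a * e)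
    (hw : w = 1 ∨ w = a ∨ w = e ∨ w = a * e) (hd1 : d ≠ 1) (hv1 : v ≠ 1) (hvd : v ≠ d)
    (hw1 : w ≠ 1) (hwd : w ≠ d) : w = v ∨ w = v * d := by
  have e1 : a * (a * e) = e := by rw [← mul_assoc, haa, one_mul]
  have e2 : e * (a * e) = a := by rw [hae, ← mul_assoc, hee, one_mul]
  have e3 : a * e * a = e := by rw [mul_assoc, ← hae, e1]
  have e4 : a * e * e = a := by rw [mul_assoc, hee, mul_one]
  have e5 : e * a = a * e := hae.symm
  rcases hd with rfl | rfl | rfl | rfl <;> rcases hv with rfl | rfl | rfl | rfl <;>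
    rcases hw with rfl | rfl | rfl | rfl <;>
    first
      | exact absurd rfl hd1
      | exact absurd rfl hv1
      | exact absurd rfl hw1
      | exact absurd rfl hvd
      | exact absurd rfl hwd
      | exact Or.inl rfl
      | exact Or.inr e1.symm
      | exact Or.inr e2.symm
      | exact Or.inr e3.symm
      | exact Or.inr e4.symm
      | exact Or.inr e5.symm
      | exact Or.inr rfl

/-- An odd order automorphism of `⟨a⟩ × ⟨e⟩` fixing an involution. -/
theorem fix_of_gen' [Finite Q] (h2 : IsPGroup 2 Q) {α : MulAut Q} (hα : ¬ 2 ∣ orderOf α)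
    (H : Subgroup Q) (hH : ∀ v ∈ H, α v ∈ H) {a e : Q} (ha : a ∈ H) (he : e ∈ H)
    (hae : a * e = e * a) (hee : e * e = 1) (hgen : ∀ v ∈ H, ∃ i : ℕ, v = a ^ i ∨ v = a ^ i * e)
    {d : Q} (hd : d ∈ H) (hd1 : d ≠ 1) (hfix : α d = d) : ∀ v ∈ H, α v = v := by
  by_cases h4 : a * a = 1
  · have key : ∀ v ∈ H, v = 1 ∨ v = a ∨ v = e ∨ v = a * e := by
      intro v hv
      obtain ⟨i, hi⟩ := hgen v hv
      have hai : a ^ i = 1 ∨ a ^ i = a := by
        rcases Nat.even_or_odd' i with ⟨k, rfl | rfl⟩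
        · left; rw [pow_mul, pow_two, h4, one_pow]
        · right; rw [pow_add, pow_mul, pow_two, h4, one_pow, one_mul, pow_one]
      rcases hi with rfl | rfl
      · rcases hai with h | h
        · exact Or.inl h
        · exact Or.inr (Or.inl h)
      · rcases hai with h | h
        · exact Or.inr (Or.inr (Or.inl (by rw [h, one_mul])))
        · exact Or.inr (Or.inr (Or.inr (by rw [h])))
    intro v hv
    by_cases hv1 : v = 1
    · rw [hv1, map_one]
    by_cases hvd : v = d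
    · rw [hvd, hfix]
    have h1 : α v ≠ 1 := fun h => hv1 (α.injective (h.trans (map_one α).symm))
    have h3 : α v ≠ d := fun h => hvd (α.injective (h.trans hfix.symm))
    rcases klein_cases h4 hee hae (key d hd) (key v hv) (key _ (hH v hv)) hd1 hv1 hvd h1 h3 with
      h | h
    · exact h
    · exact fix_of_mul h2 hα h hfix
  · exact fix_of_gen h2 hα H hH ha he hae hee hgen h4

end Cfsg.Agent.H645.FT
end

-- part: H645/FT/Grp
section
/-!
# Nonabelian `2`-groups with an abelian subgroup `A = ⟨x⟩ × ⟨e⟩` of index two, `e` central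

`Grp S A x e y`: the configuration (`y` an element outside `A`, `x² ≠ 1`);
`cm y a = y a y⁻¹ a⁻¹`.
-/

set_option autoImplicit false

namespace Cfsg.Agent.H645.FT

open Cfsg Cfsg.FusionSystem Cfsg.Agent.H802 Cfsg.Agent.H617.FusInv Cfsg.Agent.H617.FusTwo
open Cfsg.Agent.H617.FusFour Cfsg.Agent.H617.FusMain
open Cfsg.Agent.H745.MetaTwo (sq_of_cyclic)

variable {Ω : Type*} [Group Ω]

/-- The configuration. -/
structure Grp (S A : Subgroup Ω) (x e y : Ω) : Prop where
  pgrp : IsPGroup 2 S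
  le : A ≤ S
  idx : A.relIndex S = 2
  comm : ∀ a ∈ A, ∀ b ∈ A, a * b = b * a
  xA : x ∈ A
  eZ : e ∈ Z S
  ee : e * e = 1
  gen : ∀ a ∈ A, ∃ i : ℕ, a = x ^ i ∨ a = x ^ i * e
  x4 : x * x ≠ 1
  yS : y ∈ S
  yA : y ∉ A
  nc : y * x ≠ x * y

variable {S A : Subgroup Ω} {x e y : Ω}

namespace Grp

theorem ne (h : Grp S A x e y) : Z S ≠ S := by
  intro h1
  have h2 : x ∈ Z S := by rw [h1]; exact h.le h.xA
  exact h.nc ((mem_Z.1 h2).2 y h.yS)

theorem Z_le_A (h : Grp S A x e y) : Z S ≤ A := Cfsg.Agent.H617.FusFour.Z_le_A h.le h.idx h.comm h.ne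

theorem mem_Z_of_comm (h : Grp S A x e y) {a u : Ω} (ha : a ∈ A) (hu : u ∈ S) (huA : u ∉ A)
    (hc : u * a = a * u) : a ∈ Z S := mem_Z_of_comm_out h.le h.idx h.comm ha hu huA hc

theorem conj_mem (h : Grp S A x e y) {t a : Ω} (ht : t ∈ S) (ha : a ∈ A) : t * a * t⁻¹ ∈ A :=
  (Subgroup.mem_normalizer_iff.1 (le_normalizer_of_relIndex_two h.le h.idx ht) a).1 ha

theorem mul_mem_iff (h : Grp S A x e y) {a b : Ω} (ha : a ∈ S) (hb : b ∈ S) :
    a * b ∈ A ↔ (a ∈ A ↔ b ∈ A) := mul_mem_iff_of_relIndex_two h.idx ha hb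

/-- All elements outside `A` act on `A` in the same way. -/
theorem conj_eq (h : Grp S A x e y) {u a : Ω} (hu : u ∈ S) (huA : u ∉ A) (ha : a ∈ A) :
    u * a * u⁻¹ = y * a * y⁻¹ := by
  have h1 : y⁻¹ * u ∈ A := inv_mul_mem_of_relIndex_two h.idx h.yS hu h.yA huA
  have h2 := h.comm _ h1 a ha
  calc u * a * u⁻¹ = y * ((y⁻¹ * u) * a) * u⁻¹ := by group
    _ = y * (a * (y⁻¹ * u)) * u⁻¹ := by rw [h2]
    _ = y * a * y⁻¹ := by group

theorem mul_conj_mem_Z (h : Grp S A x e y) {a : Ω} (ha : a ∈ A) : y * a * y⁻¹ * a ∈ Z S := by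
  have h1 := h.conj_mem h.yS ha
  refine h.mem_Z_of_comm (A.mul_mem h1 ha) h.yS h.yA ?_
  have h3 : y * y ∈ A := by rw [h.mul_mem_iff h.yS h.yS]
  have h4 := h.comm _ h3 a ha
  calc y * (y * a * y⁻¹ * a) = (y * y * a) * (y⁻¹ * a * y⁻¹) * y := by group
    _ = (a * (y * y)) * (y⁻¹ * a * y⁻¹) * y := by rw [h4]
    _ = a * (y * a * y⁻¹) * y := by group
    _ = (y * a * y⁻¹) * a * y := by rw [h.comm a ha _ h1]

end Grp

/-- The commutator with `y`. -/
def cm (y a : Ω) : Ω := y * a * y⁻¹ * a⁻¹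

namespace Grp

theorem cm_mem (h : Grp S A x e y) {a : Ω} (ha : a ∈ A) : cm y a ∈ E S :=
  comm_mem h.yS (h.le ha)

theorem cm_mem_A (h : Grp S A x e y) {a : Ω} (ha : a ∈ A) : cm y a ∈ A :=
  A.mul_mem (h.conj_mem h.yS ha) (A.inv_mem ha)

theorem cm_mul (h : Grp S A x e y) {a b : Ω} (ha : a ∈ A) (hb : b ∈ A) :
    cm y (a * b) = cm y a * cm y b := by
  have h3 := h.comm _ (A.inv_mem ha) _ (h.conj_mem h.yS hb)
  have h4 := h.comm _ (A.inv_mem ha) _ (A.inv_mem hb)
  unfold cm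
  calc y * (a * b) * y⁻¹ * (a * b)⁻¹ = y * a * y⁻¹ * (y * b * y⁻¹) * (b⁻¹ * a⁻¹) := by group
    _ = y * a * y⁻¹ * (y * b * y⁻¹) * (a⁻¹ * b⁻¹) := by rw [h4]
    _ = y * a * y⁻¹ * ((y * b * y⁻¹) * a⁻¹) * b⁻¹ := by group
    _ = y * a * y⁻¹ * (a⁻¹ * (y * b * y⁻¹)) * b⁻¹ := by rw [h3]
    _ = _ := by group

theorem cm_eq_one_iff (h : Grp S A x e y) {a : Ω} (ha : a ∈ A) : cm y a = 1 ↔ a ∈ Z S := by
  constructor
  · intro h1
    refine h.mem_Z_of_comm ha h.yS h.yA ?_
    unfold cm at h1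
    rw [mul_inv_eq_one] at h1
    calc y * a = y * a * y⁻¹ * y := by group
      _ = a * y := by rw [h1]
  · intro h1
    unfold cm
    rw [(mem_Z.1 h1).2 y h.yS]
    group

theorem cm_pow (h : Grp S A x e y) {a : Ω} (ha : a ∈ A) (i : ℕ) : cm y (a ^ i) = cm y a ^ i := by
  induction i with
  | zero => simp [cm]
  | succ n ih => rw [pow_succ, h.cm_mul (A.pow_mem ha n) ha, ih, pow_succ]

/-- The commutators are the powers of `cm y x`. -/
theorem exists_cm_pow (h : Grp S A x e y) {a : Ω} (ha : a ∈ A) : ∃ i : ℕ, cm y a = cm y x ^ i := by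
  obtain ⟨i, rfl | rfl⟩ := h.gen a ha
  · exact ⟨i, h.cm_pow h.xA i⟩
  · refine ⟨i, ?_⟩
    rw [h.cm_mul (A.pow_mem h.xA i) (h.Z_le_A h.eZ), h.cm_pow h.xA i,
      (h.cm_eq_one_iff (h.Z_le_A h.eZ)).2 h.eZ, mul_one]

/-- `[S, S]` consists of the commutators with `y`. -/
theorem exists_cm (h : Grp S A x e y) {s : Ω} (hs : s ∈ E S) : ∃ a ∈ A, s = cm y a :=
  exists_comm_out h.le h.idx h.comm h.yS h.yA hs

theorem E_eq (h : Grp S A x e y) : E S = Subgroup.zpowers (cm y x) := by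
  apply le_antisymm
  · intro s hs
    obtain ⟨a, ha, rfl⟩ := h.exists_cm hs
    obtain ⟨i, hi⟩ := h.exists_cm_pow ha
    rw [hi]
    exact Subgroup.npow_mem_zpowers _ _
  · rw [Subgroup.zpowers_le]
    exact h.cm_mem h.xA

theorem E_le_A (h : Grp S A x e y) : E S ≤ A := E_le_of_relIndex_two h.idx

theorem conj_E (h : Grp S A x e y) {u s : Ω} (hu : u ∈ S) (huA : u ∉ A) (hs : s ∈ E S) :
    u * s * u⁻¹ = s⁻¹ := conj_E_out h.le h.idx h.comm hu huA hs

theorem cm_ne (h : Grp S A x e y) : cm y x ≠ 1 := by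
  intro h1
  exact h.nc ((mem_Z.1 ((h.cm_eq_one_iff h.xA).1 h1)).2 y h.yS)

/-- `[S, S]` meets `Z(S)` in the elements of square one. -/
theorem mem_Z_iff_sq (h : Grp S A x e y) {s : Ω} (hs : s ∈ E S) : s ∈ Z S ↔ s * s = 1 := by
  have h1 := h.conj_E h.yS h.yA hs
  constructor
  · intro h2
    have h3 := (mem_Z.1 h2).2 y h.yS
    rw [h3, mul_inv_cancel_right] at h1
    rw [mul_eq_one_iff_eq_inv]
    exact h1
  · intro h2
    have h3 : s⁻¹ = s := inv_eq_of_mul_eq_one_left h2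
    rw [h3] at h1
    refine h.mem_Z_of_comm (h.E_le_A hs) h.yS h.yA ?_
    calc y * s = y * s * y⁻¹ * y := by group
      _ = s * y := by rw [h1]

/-- The involution of `[S, S]`. -/
theorem exists_d (h : Grp S A x e y) [Finite S] : ∃ d ∈ E S, d ≠ 1 ∧ d * d = 1 ∧ d ∈ Z S ∧
    ∀ s ∈ E S, s ∈ Z S → s = 1 ∨ s = d := by
  have hfin : Finite A := Finite.of_injective _ (Subgroup.inclusion_injective h.le)
  have hA : IsPGroup 2 A := h.pgrp.to_le h.le
  obtain ⟨k, hk⟩ := IsPGroup.iff_orderOf.1 hA ⟨cm y x, h.cm_mem_A h.xA⟩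
  rw [Subgroup.orderOf_mk] at hk
  have hk0 : k ≠ 0 := by
    rintro rfl
    rw [pow_zero, orderOf_eq_one_iff] at hk
    exact h.cm_ne hk
  have hd1 : cm y x ^ 2 ^ (k - 1) ≠ 1 := by
    intro h1
    have h5 := orderOf_dvd_of_pow_eq_one h1
    rw [hk] at h5
    have h6 := (Nat.pow_dvd_pow_iff_le_right (by norm_num : 1 < 2)).1 h5
    omega
  have hdd : cm y x ^ 2 ^ (k - 1) * cm y x ^ 2 ^ (k - 1) = 1 := by
    rw [← pow_add, ← two_mul, ← pow_succ', Nat.sub_add_cancel (Nat.one_le_iff_ne_zero.2 hk0),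
      ← hk, pow_orderOf_eq_one]
  have hdE : cm y x ^ 2 ^ (k - 1) ∈ E S := by
    rw [h.E_eq]
    exact Subgroup.npow_mem_zpowers _ _
  refine ⟨_, hdE, hd1, hdd, (h.mem_Z_iff_sq hdE).2 hdd, fun s hs hsZ => ?_⟩
  have hss := (h.mem_Z_iff_sq hs).1 hsZ
  rw [h.E_eq] at hs hdE
  have hfin2 : Finite (Subgroup.zpowers (cm y x)) := by
    rw [← h.E_eq]
    exact finite_of_le E_le
  exact sq_of_cyclic (Subgroup.zpowers (cm y x)) hs hdE hss hdd hd1

theorem card_A (h : Grp S A x e y) [Finite S] :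
    Nat.card A = Nat.card (Z S) * Nat.card (E S) := by
  rw [card_eq_mul_relIndex h.Z_le_A, relIndex_Z_A_le h.le h.idx h.comm h.yS h.yA h.ne]

theorem card_S (h : Grp S A x e y) [Finite S] : Nat.card S = 2 * Nat.card A := by
  rw [card_eq_mul_relIndex h.le, h.idx, mul_comm]

/-- A square root of `1` in `⟨x⟩` is central. -/
theorem sq_one_mem_Z (h : Grp S A x e y) [Finite S] {w : Ω} (hw : w ∈ Subgroup.zpowers x)
    (hww : w * w = 1) : w ∈ Z S := by
  have hfinA : Finite A := Finite.of_injective _ (Subgroup.inclusion_injective h.le)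
  have hA : IsPGroup 2 A := h.pgrp.to_le h.le
  have hxx : x * x ∈ A := A.mul_mem h.xA h.xA
  have hfin : Finite (Subgroup.zpowers x) := Finite.of_injective _
    (Subgroup.inclusion_injective (Subgroup.zpowers_le.2 h.xA))
  by_cases hw1 : w = 1
  · rw [hw1]; exact (Z S).one_mem
  -- `w ∈ ⟨x x⟩`
  have hw2 : w ∈ Subgroup.zpowers (x * x) := by
    obtain ⟨k, hk⟩ := IsPGroup.iff_orderOf.1 hA ⟨x * x, hxx⟩
    rw [Subgroup.orderOf_mk] at hk
    have hk0 : k ≠ 0 := by
      rintro rfl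
      rw [pow_zero, orderOf_eq_one_iff] at hk
      exact h.x4 hk
    have hd1 : (x * x) ^ 2 ^ (k - 1) ≠ 1 := by
      intro h1
      have h5 := orderOf_dvd_of_pow_eq_one h1
      rw [hk] at h5
      have h6 := (Nat.pow_dvd_pow_iff_le_right (by norm_num : 1 < 2)).1 h5
      omega
    have hdd : (x * x) ^ 2 ^ (k - 1) * (x * x) ^ 2 ^ (k - 1) = 1 := by
      rw [← pow_add, ← two_mul, ← pow_succ', Nat.sub_add_cancel (Nat.one_le_iff_ne_zero.2 hk0),
        ← hk, pow_orderOf_eq_one]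
    have hmem : (x * x) ^ 2 ^ (k - 1) ∈ Subgroup.zpowers x :=
      Subgroup.pow_mem _ (Subgroup.mul_mem _ (Subgroup.mem_zpowers x) (Subgroup.mem_zpowers x)) _
    rcases sq_of_cyclic (Subgroup.zpowers x) hw hmem hww hdd hd1 with h1 | h1
    · exact absurd h1 hw1
    · rw [h1]
      exact Subgroup.npow_mem_zpowers _ _
  -- conjugation by `y` preserves `⟨x x⟩`
  have h3 : y * w * y⁻¹ ∈ Subgroup.zpowers (x * x) := by
    have h4 : y * (x * x) * y⁻¹ ∈ Subgroup.zpowers (x * x) := by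
      have h5 : y * (x * x) * y⁻¹ = (y * x * y⁻¹) * (y * x * y⁻¹) := by group
      have hpow : ∀ i : ℕ, (x * x) ^ i = x ^ i * x ^ i := fun i => (Commute.refl x).mul_pow i
      obtain ⟨i, hi | hi⟩ := h.gen _ (h.conj_mem h.yS h.xA)
      · rw [h5, hi, ← hpow]
        exact Subgroup.npow_mem_zpowers _ _
      · have h6 : e * x ^ i = x ^ i * e :=
          ((mem_Z.1 h.eZ).2 _ (S.pow_mem (h.le h.xA) i)).symm
        rw [h5, hi, show x ^ i * e * (x ^ i * e) = x ^ i * (e * x ^ i) * e by group, h6,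
          show x ^ i * (x ^ i * e) * e = x ^ i * x ^ i * (e * e) by group, h.ee, mul_one, ← hpow]
        exact Subgroup.npow_mem_zpowers _ _
    obtain ⟨k, rfl⟩ := Subgroup.mem_zpowers_iff.1 hw2
    rw [show y * (x * x) ^ k * y⁻¹ = (y * (x * x) * y⁻¹) ^ k by rw [conj_zpow]]
    exact Subgroup.zpow_mem _ h4 k
  have h4 : y * w * y⁻¹ * (y * w * y⁻¹) = 1 := by
    calc y * w * y⁻¹ * (y * w * y⁻¹) = y * (w * w) * y⁻¹ := by group
      _ = 1 := by rw [hww]; group
  have h5 : y * w * y⁻¹ = 1 ∨ y * w * y⁻¹ = w :=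
    sq_of_cyclic (Subgroup.zpowers x)
      (Subgroup.zpowers_le.2 (Subgroup.mul_mem _ (Subgroup.mem_zpowers x)
        (Subgroup.mem_zpowers x)) h3) hw h4 hww hw1
  rcases h5 with h6 | h6
  · exact absurd (conj_eq_one_iff.1 h6) hw1
  · have hwA : w ∈ A := (Subgroup.zpowers_le.2 h.xA) hw
    refine h.mem_Z_of_comm hwA h.yS h.yA ?_
    calc y * w = y * w * y⁻¹ * y := by group
      _ = w * y := by rw [h6]

end Grp

end Cfsg.Agent.H645.FT
end

-- part: H645/FT/Ess
section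
/-!
# Centric subgroups with automorphisms of odd order

`Grp.ess_inf`: if `Z(S) ≤ E ≤ S`, `C_S(E) ≤ E` and `E` has a nontrivial automorphism of odd order
(without quaternion configuration) then `E ∩ A = Z(S)` and `E` is not contained in `A`.
-/

set_option autoImplicit false

namespace Cfsg.Agent.H645.FT

open Cfsg Cfsg.FusionSystem Cfsg.Agent.H802 Cfsg.Agent.H617.FusInv Cfsg.Agent.H617.FusTwo
open Cfsg.Agent.H617.FusFour Cfsg.Agent.H617.FusMain
open Cfsg.Agent.H745.MetaTwo (sq_of_cyclic)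

variable {Ω : Type*} [Group Ω] {S A : Subgroup Ω} {x e y : Ω}

/-- There is no quaternion configuration for `α`. -/
def NQ (x : Ω) {E : Subgroup Ω} (α : MulAut E) : Prop :=
  ∀ q : E, (q : Ω) ∈ Subgroup.zpowers x → q * q ≠ 1 → q * q * (q * q) = 1 →
    α q * α q = q * q → q * α q ≠ α q * q * (q * q)

namespace Grp

theorem finA (h : Grp S A x e y) [Finite S] : Finite A :=
  Finite.of_injective _ (Subgroup.inclusion_injective h.le)

/-- Generators of `E ∩ A` for `e ∈ E`. -/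
theorem exists_gen_inf (h : Grp S A x e y) [Finite S] {E : Subgroup Ω} (heE : e ∈ E) :
    ∃ a ∈ Subgroup.zpowers x, a ∈ E ∧ ∀ v ∈ A, v ∈ E → ∃ i : ℕ, v = a ^ i ∨ v = a ^ i * e := by
  have hfin := h.finA
  have hfin2 : Finite (Subgroup.zpowers x) := Finite.of_injective _
    (Subgroup.inclusion_injective (Subgroup.zpowers_le.2 h.xA))
  have hcyc : IsCyclic ↥(Subgroup.zpowers x ⊓ E) :=
    isCyclic_of_injective (Subgroup.inclusion (inf_le_left : Subgroup.zpowers x ⊓ E ≤ _))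
      (Subgroup.inclusion_injective _)
  have hfin3 : Finite ↥(Subgroup.zpowers x ⊓ E) :=
    Finite.of_injective _ (Subgroup.inclusion_injective
      (inf_le_left : Subgroup.zpowers x ⊓ E ≤ Subgroup.zpowers x))
  obtain ⟨g, hg⟩ := hcyc.exists_generator
  have hpow : ∀ w ∈ Subgroup.zpowers x, w ∈ E → ∃ i : ℕ, w = (g : Ω) ^ i := by
    intro w hw hwE
    have h1 := hg ⟨w, hw, hwE⟩
    rw [← mem_powers_iff_mem_zpowers] at h1
    obtain ⟨i, hi⟩ := h1
    refine ⟨i, ?_⟩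
    have h2 := congrArg (Subtype.val) hi
    simpa using h2.symm
  refine ⟨g, g.2.1, g.2.2, fun v hv hvE => ?_⟩
  obtain ⟨j, rfl | rfl⟩ := h.gen v hv
  · obtain ⟨i, hi⟩ := hpow _ (Subgroup.npow_mem_zpowers x j) hvE
    exact ⟨i, Or.inl hi⟩
  · have h1 : x ^ j ∈ E := by
      have h2 := E.mul_mem hvE (E.inv_mem heE)
      rwa [mul_inv_cancel_right] at h2
    obtain ⟨i, hi⟩ := hpow _ (Subgroup.npow_mem_zpowers x j) h1
    exact ⟨i, Or.inr (by rw [← hi])⟩

theorem pgrp_of_le (h : Grp S A x e y) {E : Subgroup Ω} (hE : E ≤ S) : IsPGroup 2 E :=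
  h.pgrp.to_le hE

/-- An odd automorphism preserving `E ∩ A > Z(S)` is trivial. -/
theorem eq_one_of_inf (h : Grp S A x e y) [Finite S] {E : Subgroup Ω} (hE : E ≤ S)
    (hZ : Z S ≤ E) {α : MulAut E} (hodd : ¬ 2 ∣ orderOf α)
    (hinv : ∀ v : E, (v : Ω) ∈ A → ((α v : E) : Ω) ∈ A) {v : E} (hvA : (v : Ω) ∈ A)
    (hvZ : (v : Ω) ∉ Z S) : α = 1 := by
  have hfinE : Finite E := finite_of_le hE
  have h2 := h.pgrp_of_le hE
  obtain ⟨a, hax, haE, hgen⟩ := h.exists_gen_inf (hZ h.eZ)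
  have haA : a ∈ A := (Subgroup.zpowers_le.2 h.xA) hax
  have heE := hZ h.eZ
  have heA := h.Z_le_A h.eZ
  -- `α` fixes `E ∩ A`
  have hfix : ∀ w ∈ A.subgroupOf E, α w = w := by
    refine fix_of_gen h2 hodd (A.subgroupOf E) (fun w hw => hinv w hw) (a := ⟨a, haE⟩)
      (e := ⟨e, heE⟩) haA heA ?_ ?_ ?_ ?_
    · exact Subtype.ext (h.comm a haA e heA)
    · exact Subtype.ext h.ee
    · intro w hw
      obtain ⟨i, hi | hi⟩ := hgen w hw w.2
      · exact ⟨i, Or.inl (Subtype.ext (by simpa using hi))⟩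
      · exact ⟨i, Or.inr (Subtype.ext (by simpa using hi))⟩
    · intro haa
      have haa' : a * a = 1 := congrArg Subtype.val haa
      have haZ := h.sq_one_mem_Z hax haa'
      apply hvZ
      obtain ⟨i, hi | hi⟩ := hgen v hvA v.2
      · rw [hi]; exact (Z S).pow_mem haZ i
      · rw [hi]; exact (Z S).mul_mem ((Z S).pow_mem haZ i) h.eZ
  -- it acts trivially on the cosets
  have hnot : ∀ w : E, (w : Ω) ∉ A → ((α w : E) : Ω) ∉ A := by
    intro w hw hw'
    apply hw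
    have h3 : (⟨α w, trivial⟩ : {u : E // True}).1 = α w := rfl
    have h4 := hfix (α w) hw'
    have h5 : α w = w := α.injective h4
    rw [h5] at hw'
    exact hw'
  refine MulEquiv.ext fun w => ?_
  change α w = w
  by_cases hw : (w : Ω) ∈ A
  · exact hfix w hw
  · refine fix_of_div h2 hodd (hfix _ ?_)
    change ((w : Ω)⁻¹ * (α w : E)) ∈ A
    exact inv_mul_mem_of_relIndex_two h.idx (hE w.2) (hE (α w).2) hw (hnot w hw)

theorem ess_inf (h : Grp S A x e y) [Finite S] {E : Subgroup Ω} (hE : E ≤ S)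
    (hZ : Z S ≤ E) (hC : centralizerIn S E ≤ E) {α : MulAut E} (hodd : ¬ 2 ∣ orderOf α)
    (hα1 : α ≠ 1) (hNQ : NQ x α) :
    (∃ u ∈ E, u ∉ A) ∧ ∀ v ∈ E, v ∈ A → v ∈ Z S := by
  have hfinE : Finite E := finite_of_le hE
  have h2 := h.pgrp_of_le hE
  have hex : ∃ u ∈ E, u ∉ A := by
    by_contra hcon
    push Not at hcon
    have hxE : x ∈ E := hC ⟨h.le h.xA, Subgroup.mem_centralizer_iff.2 fun w hw =>
      h.comm w (hcon w hw) x h.xA⟩
    refine hα1 (h.eq_one_of_inf hE hZ hodd (fun v _ => hcon _ (α v).2) (v := ⟨x, hxE⟩) h.xA ?_)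
    intro hx
    exact h.nc ((mem_Z.1 hx).2 y h.yS)
  refine ⟨hex, ?_⟩
  obtain ⟨u, huE, huA⟩ := hex
  by_contra hcon
  push Not at hcon
  obtain ⟨v, hvE, hvA, hvZ⟩ := hcon
  -- the centre of `E`
  have hcen : ∀ t : E, (∀ w : E, w * t = t * w) ↔ (t : Ω) ∈ Z S := by
    intro t
    constructor
    · intro ht
      have htA : (t : Ω) ∈ A := by
        by_contra htA
        exact hvZ (h.mem_Z_of_comm hvA (hE t.2) htA
          (congrArg Subtype.val (ht ⟨v, hvE⟩)).symm)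
      exact h.mem_Z_of_comm htA (hE huE) huA (congrArg Subtype.val (ht ⟨u, huE⟩))
    · intro ht w
      exact Subtype.ext ((mem_Z.1 ht).2 w (hE w.2))
  have hcenα : ∀ t : E, ((α t : E) : Ω) ∈ Z S ↔ (t : Ω) ∈ Z S := by
    intro t
    rw [← hcen, ← hcen]
    constructor
    · intro ht w
      apply α.injective
      rw [map_mul, map_mul, ht]
    · intro ht w
      obtain ⟨w', rfl⟩ := α.surjective w
      rw [← map_mul, ← map_mul, ht]
  -- `E ∩ A` is not invariant
  by_cases hinv : ∀ v : E, (v : Ω) ∈ A → ((α v : E) : Ω) ∈ A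
  · exact hα1 (h.eq_one_of_inf hE hZ hodd hinv (v := ⟨v, hvE⟩) hvA hvZ)
  push Not at hinv
  obtain ⟨w, hwA, hw'⟩ := hinv
  -- elements of `A` outside `Z(S)` leave `A`
  have hout : ∀ p : E, (p : Ω) ∈ A → (p : Ω) ∉ Z S → ((α p : E) : Ω) ∉ A := by
    intro p hpA hpZ hp'
    apply hpZ
    rw [← hcenα]
    refine h.mem_Z_of_comm hp' (hE (α w).2) hw' ?_
    have h3 : w * p = p * w := Subtype.ext (h.comm w hwA p hpA)
    have h4 : α w * α p = α p * α w := by rw [← map_mul, h3, map_mul]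
    exact congrArg Subtype.val h4
  have hquot : ∀ p q : E, (p : Ω) ∈ A → (p : Ω) ∉ Z S → (q : Ω) ∈ A → (q : Ω) ∉ Z S →
      ((p * q : E) : Ω) ∈ Z S := by
    intro p q hpA hpZ hqA hqZ
    by_contra hcon
    refine hout (p * q) (A.mul_mem hpA hqA) hcon ?_
    rw [map_mul]
    exact (h.mul_mem_iff (hE (α p).2) (hE (α q).2)).2
      ⟨fun h5 => absurd h5 (hout p hpA hpZ), fun h5 => absurd h5 (hout q hqA hqZ)⟩
  -- the generator `q`
  obtain ⟨a, hax, haE, hgen⟩ := h.exists_gen_inf (hZ h.eZ)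
  have haA : a ∈ A := (Subgroup.zpowers_le.2 h.xA) hax
  have haZ : a ∉ Z S := by
    intro haZ
    apply hvZ
    obtain ⟨i, hi | hi⟩ := hgen v hvA hvE
    · rw [hi]; exact (Z S).pow_mem haZ i
    · rw [hi]; exact (Z S).mul_mem ((Z S).pow_mem haZ i) h.eZ
  set q : E := ⟨a, haE⟩ with hq
  set r : E := α q with hr
  set s : E := α r with hs
  have hrA : (r : Ω) ∉ A := hout q haA haZ
  have hqq : ((q * q : E) : Ω) ∈ Z S := hquot q q haA haZ haA haZ
  have hrZ : (r : Ω) ∉ Z S := fun h3 => hrA (h.Z_le_A h3)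
  -- `s ∉ A`
  have hsA : (s : Ω) ∉ A := by
    intro hsA
    -- `α² ` maps `q Z` to `q Z`
    have hstab : ∀ n : ℕ, (((α ^ (2 * n)) q : E) : Ω) ∈ A ∧ (((α ^ (2 * n)) q : E) : Ω) ∉ Z S := by
      intro n
      induction n with
      | zero => exact ⟨haA, haZ⟩
      | succ n ih =>
        obtain ⟨ih1, ih2⟩ := ih
        have h5 : (α ^ (2 * (n + 1))) q = α (α ((α ^ (2 * n)) q)) := by
          rw [show 2 * (n + 1) = 1 + (1 + 2 * n) by ring, pow_add, pow_one, MulAut.mul_apply,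
            pow_add, pow_one, MulAut.mul_apply]
        rw [h5]
        have h6 := hquot q⁻¹ ((α ^ (2 * n)) q) (A.inv_mem haA)
          (fun h7 => haZ (by simpa using (Z S).inv_mem h7)) ih1 ih2
        have h7 : ((α (α (q⁻¹ * (α ^ (2 * n)) q)) : E) : Ω) ∈ Z S := by
          rw [hcenα, hcenα]; exact h6
        have h8 : α (α ((α ^ (2 * n)) q)) = s * α (α (q⁻¹ * (α ^ (2 * n)) q)) := by
          rw [hs, hr, ← map_mul, ← map_mul, mul_inv_cancel_left]
        rw [h8]
        have hsZ : (s : Ω) ∉ Z S := by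
          rw [hs, hcenα]; exact hrZ
        constructor
        · exact A.mul_mem hsA (h.Z_le_A h7)
        · intro h9
          apply hsZ
          have h10 := (Z S).mul_mem h9 ((Z S).inv_mem h7)
          have h11 : ((s * α (α (q⁻¹ * (α ^ (2 * n)) q)) : E) : Ω) *
              (((α (α (q⁻¹ * (α ^ (2 * n)) q)) : E) : Ω))⁻¹ = s := by
            rw [Subgroup.coe_mul, mul_inv_cancel_right]
          rwa [h11] at h10
    obtain ⟨n, hn⟩ : ∃ n, orderOf α + 1 = 2 * n := by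
      have : Odd (orderOf α) := Nat.not_even_iff_odd.1 (fun h3 => hodd h3.two_dvd)
      obtain ⟨k, hk⟩ := this
      exact ⟨k + 1, by omega⟩
    have h3 := (hstab n).1
    rw [← hn, pow_succ, pow_orderOf_eq_one, one_mul] at h3
    exact hrA h3
  -- `s = r q z`
  obtain ⟨z, hz, hzs⟩ : ∃ z : E, (z : Ω) ∈ Z S ∧ s = r * q * z := by
    have h3 : ((r⁻¹ * s : E) : Ω) ∈ A :=
      inv_mul_mem_of_relIndex_two h.idx (hE r.2) (hE s.2) hrA hsA
    have h4 : ((r⁻¹ * s : E) : Ω) ∉ Z S := by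
      intro h5
      have h6 : ((q⁻¹ * r : E) : Ω) ∈ Z S := by
        rw [← hcenα, map_mul, map_inv]
        exact h5
      apply hrA
      have h7 := A.mul_mem haA (h.Z_le_A h6)
      have h8 : (a : Ω) * ((q⁻¹ * r : E) : Ω) = r := by
        change a * (a⁻¹ * (r : Ω)) = r
        group
      rwa [h8] at h7
    have h5 := hquot q⁻¹ (r⁻¹ * s) (A.inv_mem haA)
      (fun h7 => haZ (by simpa using (Z S).inv_mem h7)) h3 h4
    exact ⟨_, h5, by group⟩
  have hzc : ∀ w : E, w * z = z * w := (hcen z).2 hz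
  have hqqc : ∀ w : E, w * (q * q) = q * q * w := (hcen _).2 hqq
  -- the commutator
  set δ : E := r * q * r⁻¹ * q⁻¹ with hδ
  have hrq : r * q * r⁻¹ = y * a * y⁻¹ := by
    change (r : Ω) * a * (r : Ω)⁻¹ = y * a * y⁻¹
    exact h.conj_eq (hE r.2) hrA haA
  have hδA : (δ : Ω) ∈ A := by
    have h3 : (δ : Ω) = (r : Ω) * a * (r : Ω)⁻¹ * a⁻¹ := rfl
    rw [h3]
    exact A.mul_mem (h.conj_mem (hE r.2) haA) (A.inv_mem haA)
  have hδδ : δ * δ = 1 := by
    have h3 : r * q * r⁻¹ * (r * q * r⁻¹) = q * q := by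
      calc r * q * r⁻¹ * (r * q * r⁻¹) = r * (q * q) * r⁻¹ := by group
        _ = q * q := by rw [hqqc]; group
    have h4 : q⁻¹ * (r * q * r⁻¹) = r * q * r⁻¹ * q⁻¹ := Subtype.ext
      (h.comm _ (A.inv_mem haA) _ (h.conj_mem (hE r.2) haA))
    calc δ * δ = r * q * r⁻¹ * (q⁻¹ * (r * q * r⁻¹)) * q⁻¹ := by rw [hδ]; group
      _ = r * q * r⁻¹ * (r * q * r⁻¹ * q⁻¹) * q⁻¹ := by rw [h4]
      _ = (r * q * r⁻¹ * (r * q * r⁻¹)) * (q⁻¹ * q⁻¹) := by group
      _ = 1 := by rw [h3]; group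
  have hδE : (δ : Ω) ∈ Cfsg.Agent.H617.FusFour.E S := comm_mem (hE r.2) (h.le haA)
  have hδZ : (δ : Ω) ∈ Z S := (h.mem_Z_iff_sq hδE).2 (congrArg Subtype.val hδδ)
  have hδc : ∀ w : E, w * δ = δ * w := (hcen δ).2 hδZ
  have hδ1 : δ ≠ 1 := by
    intro h3
    apply haZ
    refine h.mem_Z_of_comm haA (hE r.2) hrA ?_
    have h4 : r * q = q * r := by
      calc r * q = δ * q * r := by rw [hδ]; group
        _ = q * r := by rw [h3, one_mul]
    exact congrArg Subtype.val h4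
  have hrqδ : r * q = q * r * δ := by
    calc r * q = δ * (q * r) := by rw [hδ]; group
      _ = _ := by rw [hδc]
  have hδinv : δ⁻¹ = δ := inv_eq_of_mul_eq_one_left hδδ
  -- `α δ = δ`
  have hαδ : α δ = δ := by
    have h3 : α δ = s * r * s⁻¹ * r⁻¹ := by
      rw [hδ, map_mul, map_mul, map_mul, map_inv, map_inv]
    rw [h3, hzs]
    calc r * q * z * r * (r * q * z)⁻¹ * r⁻¹ = r * q * (z * r) * z⁻¹ * q⁻¹ * r⁻¹ * r⁻¹ := by group
      _ = r * q * (r * z) * z⁻¹ * q⁻¹ * r⁻¹ * r⁻¹ := by rw [hzc]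
      _ = r * (q * r * δ) * δ⁻¹ * q⁻¹ * r⁻¹ * r⁻¹ := by group
      _ = r * (r * q) * δ⁻¹ * q⁻¹ * r⁻¹ * r⁻¹ := by rw [← hrqδ]
      _ = r * (r * (q * δ)) * q⁻¹ * r⁻¹ * r⁻¹ := by rw [hδinv]; group
      _ = r * (r * (δ * q)) * q⁻¹ * r⁻¹ * r⁻¹ := by rw [hδc]
      _ = r * (r * δ) * r⁻¹ * r⁻¹ := by group
      _ = r * (δ * r) * r⁻¹ * r⁻¹ := by rw [hδc r]
      _ = r * δ * r⁻¹ := by group
      _ = δ := by rw [hδc]; group
  -- `α` fixes `Z(S)`
  have hZfix : ∀ t : E, (t : Ω) ∈ Z S → α t = t := by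
    obtain ⟨b, hbx, hbZ, hgen'⟩ := h.exists_gen_inf (E := Z S) h.eZ
    intro t ht
    refine fix_of_gen' h2 hodd ((Z S).subgroupOf E) (fun w hw => (hcenα w).2 hw)
      (a := ⟨b, hZ hbZ⟩) (e := ⟨e, hZ h.eZ⟩) hbZ h.eZ ?_ ?_ ?_ (d := δ) hδZ hδ1 hαδ t ht
    · exact Subtype.ext ((mem_Z.1 h.eZ).2 b (hE (hZ hbZ)))
    · exact Subtype.ext h.ee
    · intro w hw
      obtain ⟨i, hi | hi⟩ := hgen' w (h.Z_le_A hw) hw
      · exact ⟨i, Or.inl (Subtype.ext (by simpa using hi))⟩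
      · exact ⟨i, Or.inr (Subtype.ext (by simpa using hi))⟩
  have hrr : r * r = q * q := by
    rw [hr, ← map_mul]
    exact hZfix _ hqq
  have hss : s * s = q * q := by
    rw [hs, ← map_mul, hrr]
    exact hZfix _ hqq
  -- `q² z² δ = 1`
  have hmain : q * q * (z * z) * δ = 1 := by
    have h3 : s * s = q * q * (q * q) * (z * z) * δ := by
      calc s * s = r * q * (z * (r * q)) * z := by rw [hzs]; group
        _ = r * q * ((r * q) * z) * z := by rw [hzc (r * q)]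
        _ = r * (q * r * δ) * δ⁻¹ * q * (z * z) := by group
        _ = r * (r * q) * δ⁻¹ * q * (z * z) := by rw [← hrqδ]
        _ = (r * r) * (q * δ) * q * (z * z) := by rw [hδinv]; group
        _ = (q * q) * (δ * q) * q * (z * z) := by rw [hrr, hδc]
        _ = (q * q) * (δ * ((q * q) * (z * z))) := by group
        _ = (q * q) * (((q * q) * (z * z)) * δ) := by rw [← hδc]
        _ = _ := by group
    rw [hss] at h3
    have h4 : q * q * (q * q * (z * z) * δ) = q * q := by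
      calc q * q * (q * q * (z * z) * δ) = q * q * (q * q) * (z * z) * δ := by
            simp only [mul_assoc]
        _ = q * q := h3.symm
    exact mul_left_cancel (h4.trans (mul_one _).symm)
  -- `z²` is an even power of `q²`
  obtain ⟨k, hk⟩ : ∃ k : ℕ, z * z = (q * q) ^ (2 * k) := by
    obtain ⟨i, hi⟩ := hgen z (h.Z_le_A hz) z.2
    have hpow : ∀ i : ℕ, (a * a) ^ i = a ^ i * a ^ i := fun i => (Commute.refl a).mul_pow i
    have hzz : (z : Ω) * z = (a * a) ^ i := by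
      rcases hi with hi | hi
      · rw [hi, hpow]
      · have hc : e * a ^ i = a ^ i * e :=
          h.comm e (h.Z_le_A h.eZ) _ (A.pow_mem haA i)
        rw [hi, show a ^ i * e * (a ^ i * e) = a ^ i * (e * a ^ i) * e by group, hc,
          show a ^ i * (a ^ i * e) * e = a ^ i * a ^ i * (e * e) by group, h.ee, mul_one, hpow]
    -- `i` is even
    have hai : a ^ i ∈ Z S := by
      rcases hi with hi | hi
      · rw [← hi]; exact hz
      · have h3 := (Z S).mul_mem hz ((Z S).inv_mem h.eZ)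
        rwa [hi, mul_inv_cancel_right] at h3
    have hieven : Even i := by
      by_contra hcon
      rw [Nat.not_even_iff_odd] at hcon
      obtain ⟨j, hj⟩ := hcon
      apply haZ
      have h4 : a * a ∈ Z S := hqq
      have h5 : a ^ i * ((a * a) ^ j)⁻¹ = a := by
        rw [hpow, hj, pow_add, pow_one, two_mul, pow_add]
        group
      rw [← h5]
      exact (Z S).mul_mem hai ((Z S).inv_mem ((Z S).pow_mem h4 j))
    obtain ⟨j, hj⟩ := hieven
    refine ⟨j, Subtype.ext ?_⟩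
    rw [Subgroup.coe_mul, hzz, hj, ← two_mul]
    rfl
  have hqq1 : (q * q) ^ (2 * k + 1) * δ = 1 := by
    rw [pow_succ', ← hk]; exact hmain
  -- `q⁴ = 1`
  have hq4 : q * q * (q * q) = 1 := by
    have h3 : ((q * q) ^ (2 * k + 1)) ^ 2 = 1 := by
      have h4 : (q * q) ^ (2 * k + 1) = δ := by
        rw [mul_eq_one_iff_eq_inv, hδinv] at hqq1
        exact hqq1
      rw [h4, pow_two, hδδ]
    rw [← pow_mul, mul_comm, pow_mul] at h3
    have h4 : orderOf ((q * q) ^ 2) ∣ 2 * k + 1 := orderOf_dvd_of_pow_eq_one h3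
    obtain ⟨j, hj⟩ := IsPGroup.iff_orderOf.1 h2 ((q * q) ^ 2)
    rw [hj] at h4
    have hj0 : j = 0 := by
      by_contra hj0
      have h5 : 2 ∣ 2 ^ j := dvd_pow_self 2 hj0
      have h6 := h5.trans h4
      omega
    rw [hj0, pow_zero, orderOf_eq_one_iff, pow_two] at hj
    exact hj
  have hqδ : q * q = δ := by
    have h3 : (q * q) ^ (2 * k + 1) = q * q := by
      rw [pow_succ, pow_mul, pow_two, hq4, one_pow, one_mul]
    rw [h3, mul_eq_one_iff_eq_inv, hδinv] at hqq1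
    exact hqq1
  refine hNQ q hax ?_ hq4 hrr ?_
  · rw [hqδ]; exact hδ1
  · change q * r = r * q * (q * q)
    rw [hqδ, hrqδ, mul_assoc, hδδ, mul_one]

end Grp

end Cfsg.Agent.H645.FT
end
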