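import Mathlib
import Cfsg.Agent.H650.StarDat
import Cfsg.Agent.H619.TameSys_mg
import Cfsg.Agent.H617.FusMain
import Cfsg.Agent.H645.FT.Ess
import Cfsg.Agent.H613.SubFus
import Cfsg.Agent.H651.LocalPair
import Cfsg.Prelude.Def_BlockFusion
import Cfsg.Agent.H645.FT.DeltaB
import Cfsg.Agent.H613.RankPos
import Cfsg.Agent.H624.MajTwoB
import Cfsg.Agent.H613.CycFus_mg
import Cfsg.Agent.H617.RankOneCol
import Cfsg.Agent.S4541
import Cfsg.Agent.S4678
import Cfsg.Agent.S0908
import Cfsg.Agent.S4528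
import Cfsg.Agent.S4529
import Cfsg.Agent.S4530
import Cfsg.Agent.S4677
import Cfsg.Agent.S4686
import Cfsg.Agent.S5212
import Cfsg.Agent.H617.SmallRank
import Cfsg.Agent.H617.AbelRank
import Cfsg.Agent.H617.StarAut
import Cfsg.Agent.H658.Domin
import Cfsg.Agent.H649.DefectPair
import Cfsg.Agent.H644.Maximal
set_option linter.all false

-- part: H645/FT/Star
section
/-!
# The trace of the star action of a linear character
-/

set_option autoImplicit false

open Cfsg
open scoped ComplexConjugate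

namespace Cfsg.Agent.H645.FT

open Cfsg.Agent.Blocks.Blau Cfsg.Agent.Blocks.Local Cfsg.Agent.Characters
open Cfsg.Agent.H613.RegGram Cfsg.Agent.H613.Contrib Cfsg.Agent.H613.SubSys
open Cfsg.Agent.H613.SubFus Cfsg.Agent.H619.Tame
open Cfsg.Agent.H639 Cfsg.Agent.H649 Cfsg.Agent.H651 Cfsg.Agent.H650
open Cfsg.Agent.H617.FusTwo (Z mem_Z)

universe u
variable {G : Type u} [Group G] [Finite G] {M : Ideal AlgInt}
  {B : Set (IrrCharacter G)} {a : BrauerPairIdx G} {F : FusionSystem a.1}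

/-- **Vanishing trace**: a linear character trivial on the focal subgroup, but not on the centre. -/
theorem trace_zero (hM : IsPModular 2 M) (hmax : IsMaximalBrauerPair 2 M B a.1 a.2)
    (hF : IsBlockFusionSystemOn 2 M B a.1 a.2 F) {l : a.1 →* ℂˣ} (hl : l ∈ Lam F) {z : a.1}
    (hz : (z : G) ∈ Z a.1) (hlz : l z ≠ 1) :
    (blockRank 2 B : ℂ) + ∑ i : Cl M a, ((l ⟨rep i, rep_mem i⟩ : ℂˣ) : ℂ) *
      (blockRank 2 (bel 2 M a (rep i)).2 : ℂ) = 0 := by
  classical
  have hp : Fact (Nat.Prime 2) := ⟨Nat.prime_two⟩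
  have := Fintype.ofFinite G
  have := Core.finite_irr (G := G)
  have := Fintype.ofFinite B
  have D := dat_of hM hmax hF
  have hst : IsStable 2 M a (ext0 a.1 l) := isStable_ext0 hF hl
  have hsys := isSys_rep hM hmax
  have hB : IsPBlock M B := hmax.1.2.1
  -- each diagonal inner product vanishes
  have h0 : ∀ χ : B, classInner (star 2 M a (ext0 a.1 l) ((χ : IrrCharacter G) : G → ℂ))
      ((χ : IrrCharacter G) : G → ℂ) = 0 := by
    intro χ
    have h1 := D.isIrr hl χ.2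
    refine Core.classInner_irr_ne h1 (χ : IrrCharacter G).2 ?_
    intro h2
    apply hlz
    refine D.eq_one_of_central hl χ.2 h2 z.2 ?_
    rw [Subgroup.mem_centralizer_iff]
    exact fun g hg => (mem_Z.1 hz).2 g hg
  have h1 : ∀ χ : B, ext0 a.1 l 1 * rg 2 ((χ : IrrCharacter G) : G → ℂ)
      ((χ : IrrCharacter G) : G → ℂ) + ∑ i : Cl M a, ext0 a.1 l (rep i) *
        Cn 2 (rep i) (bel 2 M a (rep i)) ((χ : IrrCharacter G) : G → ℂ)
          ((χ : IrrCharacter G) : G → ℂ) = 0 := by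
    intro χ
    rw [← classInner_star_sys hM hmax (fun i => rep_mem i) hsys hst χ.2 χ.2]
    exact h0 χ
  have h2 := Finset.sum_congr (s₁ := (Finset.univ : Finset B)) rfl (fun χ _ => h1 χ)
  rw [Finset.sum_const_zero, Finset.sum_add_distrib, ← Finset.mul_sum, sum_rg_self hM hB,
    Finset.sum_comm] at h2
  rw [ext0_apply_one, one_mul] at h2
  rw [← h2]
  congr 1
  refine Finset.sum_congr rfl fun i _ => ?_
  rw [← Finset.mul_sum, (hsys.sub i).sum_Cn_self hM, ext0_of_mem l (rep_mem i)]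

end Cfsg.Agent.H645.FT
end

-- part: H755/FTB3
section
/-!
# S4544, lemma B3 (helper755)

* `fus_iff`: fusion of elements of a maximal Brauer pair is conjugacy in the fusion system of the block;
* `nil_bel`: the block of the pair on `u` is nilpotent if no nontrivial automorphism of odd order in the fusion
  system fixes a conjugate of `u`.
-/

set_option autoImplicit false

open Cfsg Cfsg.FusionSystem Cfsg.Agent.H645.FT
open Cfsg.Agent.H613.SubFus Cfsg.Agent.H649

namespace Cfsg.Agent.H755.FTB3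

open Cfsg.Agent.Blocks.Blau Cfsg.Agent.Blocks.Local Cfsg.Agent.Characters
open Cfsg.Agent.H644 Cfsg.Agent.H651 Cfsg.Agent.H639

universe u

theorem fus_iff {G : Type u} [Group G] [Finite G] {M : Ideal AlgInt} (hM : IsPModular 2 M)
    {B : Set (IrrCharacter G)} {a : BrauerPairIdx G}
    (hmax : IsMaximalBrauerPair 2 M B a.1 a.2) {F : FusionSystem a.1}
    (hF : IsBlockFusionSystemOn 2 M B a.1 a.2 F) {u v : G} (hu : u ∈ a.1) (hv : v ∈ a.1) :
    Fus 2 M a u v ↔ F.IsConjElt u v := by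
  have : Fact (Nat.Prime 2) := ⟨Nat.prime_two⟩
  have ha : IsBrauerPair 2 M a.1 a.2 := hmax.1.1
  constructor
  · rintro ⟨x, hx, hxb⟩
    refine ⟨conjHom (Subgroup.zpowers u) x, (hF.2 _ _).2 ⟨by rwa [Subgroup.zpowers_le], x, fun w => rfl, ?_, ?_⟩, hx⟩
    · rintro _ ⟨w, hw, rfl⟩
      obtain ⟨k, rfl⟩ := Subgroup.mem_zpowers_iff.1 hw
      have h1 : x * u ^ k * x⁻¹ = v ^ k := by rw [← hx, conj_zpow]
      show x * u ^ k * x⁻¹ ∈ a.1
      rw [h1]
      exact zpow_mem hv k
    · refine ⟨(bel 2 M a u).2, bel_le hM ha hu, ?_⟩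
      have h1 : LEIdx 2 M (conjIdx x (bel 2 M a u)) a := by
        rw [hxb]
        exact bel_le hM ha hv
      have h2 : conjIdx x (bel 2 M a u) = ⟨(Subgroup.zpowers u).map (MulAut.conj x).toMonoidHom,
          conjBlock (Subgroup.zpowers u) x (bel 2 M a u).2⟩ := conjIdx_mk x _ _
      rw [h2] at h1
      exact h1
  · rintro ⟨φ, hφ, hφu⟩
    obtain ⟨-, g, hg, hle, f, hf, hf'⟩ := (hF.2 _ _).1 hφ
    have h1 : g * u * g⁻¹ = v := by
      rw [← hφu, hg]
    rw [← h1]
    apply Fus.of_le hM ha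
    have h2 : (⟨Subgroup.zpowers u, f⟩ : BrauerPairIdx G) = bel 2 M a u := eq_bel hM ha rfl hf
    rw [← h2, conjIdx_mk]
    exact hf'

theorem nil_bel {G : Type u} [Group G] [Finite G] {M : Ideal AlgInt} (hM : IsPModular 2 M)
    {B : Set (IrrCharacter G)} {a : BrauerPairIdx G}
    (hmax : IsMaximalBrauerPair 2 M B a.1 a.2) {F : FusionSystem a.1}
    (hF : IsBlockFusionSystemOn 2 M B a.1 a.2 F) {u : G} (hu : u ∈ a.1) (h : NilAt F u) :
    IsNilpotentBlock 2 M (bel 2 M a u).2 := by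
  have : Fact (Nat.Prime 2) := ⟨Nat.prime_two⟩
  have hp : M.IsPrime := isPrime_of_isPModular hM
  have := Fintype.ofFinite G
  have hnil := h
  have hQf : IsBrauerPairOf 2 M B (Subgroup.zpowers u) (bel 2 M a u).2 :=
    isBrauerPairOf_bel hM hmax hu
  refine ⟨hQf.1.2, fun R h hRh x hxN hxS hreg => ?_⟩
  have hn : IsNormalSubpair 2 M (Subgroup.zpowers u) (bel 2 M a u).2
      (locSub (Subgroup.zpowers u) R) (locBlk (Subgroup.zpowers u) R h) :=
    (isNormalSubpair_locBlk_iff hQf.1.1 hQf.1.2 hRh.1.1).2 hRh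
  have hB : IsBrauerPairOf 2 M B (locSub (Subgroup.zpowers u) R)
      (locBlk (Subgroup.zpowers u) R h) := isBrauerPairOf_of_isNormalSubpair hM hn hQf
  obtain ⟨y, hy⟩ := exists_conj_subpairLE hM hmax hB
  have hSP : (locSub (Subgroup.zpowers u) R).map (MulAut.conj y).toMonoidHom ≤ a.1 :=
    SubpairLE.le hy
  have huS : y * u * y⁻¹ ∈ (locSub (Subgroup.zpowers u) R).map (MulAut.conj y).toMonoidHom :=
    ⟨u, le_locSub _ R (Subgroup.mem_zpowers u), rfl⟩
  have hfus : Fus 2 M a u (y * u * y⁻¹) := by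
    refine Fus.of_le hM hmax.1.1 ?_
    have h1 : LEIdx 2 M (bel 2 M a u)
        ⟨locSub (Subgroup.zpowers u) R, locBlk (Subgroup.zpowers u) R h⟩ :=
      subpairLE_of_isNormalSubpair hn
    have h2 := (leIdx_conjIdx_iff y).2 h1
    have h3 : LEIdx 2 M (conjIdx y ⟨locSub (Subgroup.zpowers u) R,
        locBlk (Subgroup.zpowers u) R h⟩) a := by
      rw [conjIdx_mk]
      exact hy
    exact Relation.ReflTransGen.trans h2 h3
  have hxu : (x : G) * u = u * x :=
    ((Subgroup.mem_centralizer_iff.1 x.2) u (Subgroup.mem_zpowers u)).symm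
  -- `x` fixes the pair
  have hstab : conjIdx (x : G) ⟨locSub (Subgroup.zpowers u) R, locBlk (Subgroup.zpowers u) R h⟩ =
      ⟨locSub (Subgroup.zpowers u) R, locBlk (Subgroup.zpowers u) R h⟩ :=
    conjIdx_locBlk hRh.1.2 ((conjIdx_eq_iff hRh.1.2 x).2 ⟨hxN, hxS⟩)
  set E : Subgroup G := (locSub (Subgroup.zpowers u) R).map (MulAut.conj y).toMonoidHom with hE
  set f := conjBlock (locSub (Subgroup.zpowers u) R) y (locBlk (Subgroup.zpowers u) R h) with hf
  set g : G := y * x * y⁻¹ with hg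
  have hgE : conjIdx g ⟨E, f⟩ = ⟨E, f⟩ := by
    have h1 : (⟨E, f⟩ : BrauerPairIdx G) = conjIdx y ⟨locSub (Subgroup.zpowers u) R,
        locBlk (Subgroup.zpowers u) R h⟩ := (conjIdx_mk y _ _).symm
    rw [h1, conjIdx_conjIdx]
    have h2 : g * y = y * x := by rw [hg]; group
    rw [h2, ← conjIdx_conjIdx, hstab]
  have hgmap : E.map (MulAut.conj g).toMonoidHom = E := congrArg Sigma.fst hgE
  -- the automorphism of `E`
  have hgm : ∀ e ∈ E, g * e * g⁻¹ ∈ E := fun e he => by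
    have h1 : g * e * g⁻¹ ∈ E.map (MulAut.conj g).toMonoidHom := ⟨e, he, rfl⟩
    rwa [hgmap] at h1
  have hgm' : ∀ e ∈ E, g⁻¹ * e * g ∈ E := fun e he => by
    have h1 : e ∈ E.map (MulAut.conj g).toMonoidHom := by rwa [hgmap]
    obtain ⟨w, hw, rfl⟩ := h1
    have h2 : g⁻¹ * (MulAut.conj g).toMonoidHom w * g = w := by
      show g⁻¹ * (g * w * g⁻¹) * g = w
      group
    rwa [h2]
  let α : MulAut E :=
    { toFun := fun e => ⟨g * e * g⁻¹, hgm e e.2⟩
      invFun := fun e => ⟨g⁻¹ * e * g, hgm' e e.2⟩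
      left_inv := fun e => Subtype.ext (by
        show g⁻¹ * (g * (e : G) * g⁻¹) * g = e
        group)
      right_inv := fun e => Subtype.ext (by
        show g * (g⁻¹ * (e : G) * g) * g⁻¹ = e
        group)
      map_mul' := fun e e' => Subtype.ext (by
        show g * ((e : G) * e') * g⁻¹ = g * (e : G) * g⁻¹ * (g * (e' : G) * g⁻¹)
        group) }
  have hα : ∀ e : E, ((α e : E) : G) = g * e * g⁻¹ := fun _ => rfl
  have hαF : α ∈ F.autGroup E := by
    apply Subgroup.subset_closure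
    refine (hF.2 _ _).2 ⟨hSP, g, fun w => rfl, by rw [hgmap]; exact hSP, f, hy, ?_⟩
    have h1 : (⟨E.map (MulAut.conj g).toMonoidHom, conjBlock E g f⟩ : BrauerPairIdx G) = ⟨E, f⟩ := by
      rw [← conjIdx_mk]
      exact hgE
    show Relation.ReflTransGen (NormalSubpairRel 2 M) ⟨E.map (MulAut.conj g).toMonoidHom, conjBlock E g f⟩ _
    rw [h1]
    exact hy
  have hαpow : ∀ (k : ℕ) (e : E), (((α ^ k) e : E) : G) = g ^ k * e * (g ^ k)⁻¹ := by
    intro k
    induction k with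
    | zero => intro e; simp
    | succ k ih =>
      intro e
      rw [pow_succ, MulAut.mul_apply, ih, hα, pow_succ, mul_inv_rev (g ^ k) g]
      simp only [mul_assoc]
  have hαord : ¬ 2 ∣ orderOf α := by
    intro h2
    have h3 : orderOf α ∣ orderOf g := by
      apply orderOf_dvd_of_pow_eq_one
      ext e
      rw [hαpow, pow_orderOf_eq_one]
      simp
    have h4 : orderOf g = orderOf x := by
      rw [hg, Cfsg.Agent.Blocks.Blau.orderOf_conj_eq, Subgroup.orderOf_coe]
    rw [h4] at h3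
    exact hreg (h2.trans h3)
  have hE1 := hnil E hSP ⟨y * u * y⁻¹, huS⟩ ((fus_iff hM hmax hF hu (hSP huS)).1 hfus) α hαF hαord
    (Subtype.ext (by
      rw [hα]
      show g * (y * u * y⁻¹) * g⁻¹ = y * u * y⁻¹
      rw [hg]
      calc y * x * y⁻¹ * (y * u * y⁻¹) * (y * x * y⁻¹)⁻¹ = y * (x * u) * (x : G)⁻¹ * y⁻¹ := by group
        _ = y * (u * x) * (x : G)⁻¹ * y⁻¹ := by rw [hxu]
        _ = _ := by group))
  rw [Subgroup.mem_centralizer_iff]
  intro r hr
  apply Subtype.ext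
  have h5 : y * (r : G) * y⁻¹ ∈ E := ⟨(r : G), coe_mem_locSub hr, rfl⟩
  have h6 : g * (y * (r : G) * y⁻¹) * g⁻¹ = y * (r : G) * y⁻¹ := by
    have h7 := hα ⟨y * (r : G) * y⁻¹, h5⟩
    rw [hE1] at h7
    exact h7.symm
  rw [hg] at h6
  have h7 : y * ((x : G) * r) * y⁻¹ = y * ((r : G) * x) * y⁻¹ := by
    have h8 : y * (x : G) * y⁻¹ * (y * (r : G) * y⁻¹) = y * (r : G) * y⁻¹ * (y * (x : G) * y⁻¹) :=
      mul_inv_eq_iff_eq_mul.1 h6
    calc y * ((x : G) * r) * y⁻¹ = y * (x : G) * y⁻¹ * (y * (r : G) * y⁻¹) := by group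
      _ = y * (r : G) * y⁻¹ * (y * (x : G) * y⁻¹) := h8
      _ = _ := by group
  exact (mul_left_cancel (mul_right_cancel h7)).symm

end Cfsg.Agent.H755.FTB3
end

-- part: H352/FTG1
section
/-!
# S4544, lemma G1 (helper352, plan of helper645)
-/

set_option autoImplicit false

namespace Cfsg.Agent.H352.FTG1

open Cfsg Cfsg.FusionSystem Cfsg.Agent.H645.FT

theorem aux {V : Type*} [CommGroup V] [Fintype V] (σ : V → ℕ) (z : V)
    (h : ∀ l : V →* ℂˣ, l z ≠ 1 → ∑ v : V, ((l v : ℂˣ) : ℂ) * σ v = 0) : σ z = σ 1 := by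
  classical
  obtain ⟨e⟩ := CommGroup.monoidHom_mulEquiv_of_hasEnoughRootsOfUnity V ℂ
  have hfin : Finite (V →* ℂˣ) := Finite.of_equiv V e.symm.toEquiv
  let fin : Fintype (V →* ℂˣ) := Fintype.ofFinite _
  have h0 : ∀ g : V, g ≠ 1 → ∑ l : V →* ℂˣ, ((l g : ℂˣ) : ℂ) = 0 := by
    intro g hg
    obtain ⟨φ, hφ⟩ := CommGroup.exists_apply_ne_one_of_hasEnoughRootsOfUnity V ℂ hg
    have h1 : ∑ l : V →* ℂˣ, (((φ * l) g : ℂˣ) : ℂ) = ∑ l : V →* ℂˣ, ((l g : ℂˣ) : ℂ) :=
      Equiv.sum_comp (Equiv.mulLeft φ) fun l : V →* ℂˣ => ((l g : ℂˣ) : ℂ)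
    simp only [MonoidHom.mul_apply, Units.val_mul, ← Finset.mul_sum] at h1
    have h2 : (((φ g : ℂˣ) : ℂ) - 1) * ∑ l : V →* ℂˣ, ((l g : ℂˣ) : ℂ) = 0 := by
      rw [sub_mul, h1, one_mul, sub_self]
    rcases mul_eq_zero.1 h2 with h3 | h3
    · exact absurd (Units.ext (sub_eq_zero.1 h3)) hφ
    · exact h3
  have h1 : ∀ y : V, ∑ l : V →* ℂˣ, (((l y)⁻¹ : ℂˣ) : ℂ) * ∑ v : V, ((l v : ℂˣ) : ℂ) * σ v =
      (Fintype.card (V →* ℂˣ) : ℂ) * σ y := by
    intro y
    have h2 : ∀ l : V →* ℂˣ, (((l y)⁻¹ : ℂˣ) : ℂ) * ∑ v : V, ((l v : ℂˣ) : ℂ) * σ v =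
        ∑ v : V, ((l (y⁻¹ * v) : ℂˣ) : ℂ) * σ v := by
      intro l
      rw [Finset.mul_sum]
      refine Finset.sum_congr rfl fun v _ => ?_
      rw [map_mul, map_inv, Units.val_mul, mul_assoc]
    simp only [h2]
    rw [Finset.sum_comm]
    simp only [← Finset.sum_mul]
    rw [Finset.sum_eq_single y]
    · rw [inv_mul_cancel]
      simp
    · intro v _ hv
      rw [h0 _ (fun h3 => hv (inv_mul_eq_one.1 h3).symm), zero_mul]
    · intro h3
      exact absurd (Finset.mem_univ y) h3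
  have h2 : ∑ l : V →* ℂˣ, (((l z)⁻¹ : ℂˣ) : ℂ) * ∑ v : V, ((l v : ℂˣ) : ℂ) * σ v =
      ∑ l : V →* ℂˣ, (((l 1)⁻¹ : ℂˣ) : ℂ) * ∑ v : V, ((l v : ℂˣ) : ℂ) * σ v := by
    refine Finset.sum_congr rfl fun l _ => ?_
    by_cases hl : l z = 1
    · rw [hl, map_one]
    · rw [h l hl, mul_zero, mul_zero]
  rw [h1, h1] at h2
  have h3 : (Fintype.card (V →* ℂˣ) : ℂ) ≠ 0 := Nat.cast_ne_zero.2 Fintype.card_ne_zero
  exact Nat.cast_injective (mul_left_cancel₀ h3 h2)

theorem eq_of_trace {V : Type*} [Group V] [Finite V] (hab : ∀ a b : V, a * b = b * a) [Fintype V]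
    (σ : V → ℕ) (z : V)
    (h : ∀ l : V →* ℂˣ, l z ≠ 1 → ∑ v : V, ((l v : ℂˣ) : ℂ) * σ v = 0) : σ z = σ 1 :=
  @aux V { (inferInstance : Group V) with mul_comm := hab } _ σ z h

end Cfsg.Agent.H352.FTG1
end

-- part: H645/FT/Count
section
/-!
# The number of characters of the block
-/

set_option autoImplicit false

open Cfsg Cfsg.FusionSystem

namespace Cfsg.Agent.H645.FT

open Cfsg.Agent.Blocks.Local Cfsg.Agent.Characters
open Cfsg.Agent.H613.SubSys Cfsg.Agent.H613.SubFus Cfsg.Agent.H619.Tame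
open Cfsg.Agent.H639 Cfsg.Agent.H649 Cfsg.Agent.H650
open Cfsg.Agent.H617.FusTwo (Z mem_Z Z_le)

section Focal

variable {Ω : Type*} [Group Ω] {S A : Subgroup Ω} {y d : Ω} {F : FusionSystem S}
  {Δ : Subgroup S}

theorem isConjElt_of_hom {P : Subgroup Ω} {φ : P →* Ω} (hφ : φ ∈ F.Hom P) (x : P) :
    F.IsConjElt (x : Ω) (φ x) := by
  have h1 : Subgroup.zpowers (x : Ω) ≤ P := Subgroup.zpowers_le.2 x.2
  exact ⟨φ.comp (Subgroup.inclusion h1), Cfsg.Agent.H802.restrict_mem hφ h1, rfl⟩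

theorem FD.normal (fd : FD S A y F d Δ) : Δ.Normal := by
  refine ⟨fun n hn g => ?_⟩
  have h1 : g * n * g⁻¹ = (g * n * g⁻¹ * n⁻¹) * n := by group
  rw [h1]
  exact Δ.mul_mem (fd.comm g n) hn

theorem FD.focal_le (fd : FD S A y F d Δ) : F.focalSubgroup.subgroupOf S ≤ Δ := by
  intro v hv
  have h1 : F.focalSubgroup ≤ Δ.map S.subtype := by
    refine (Subgroup.closure_le _).2 ?_
    rintro _ ⟨P, φ, x, hφ, rfl⟩
    have h2 := fd.foc ⟨x, (F.le_of_mem hφ).1 x.2⟩ ⟨φ x, (F.le_of_mem hφ).2 x⟩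
      (isConjElt_of_hom hφ x)
    exact ⟨_, h2, rfl⟩
  obtain ⟨w, hw, hwv⟩ := h1 hv
  have h2 : w = v := Subtype.ext hwv
  rwa [← h2]

end Focal

universe u
variable {G : Type u} [Group G] [Finite G] {M : Ideal AlgInt}
  {B : Set (IrrCharacter G)} {a : BrauerPairIdx G} {F : FusionSystem a.1}
  {A : Subgroup G} {x e y d : G} {Δ : Subgroup a.1}

open Classical in
/-- The sums of the ranks over the cosets of `Δ`. -/
noncomputable def sg (M : Ideal AlgInt) (B : Set (IrrCharacter G)) {a : BrauerPairIdx G}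
    (Δ : Subgroup a.1) (v : a.1 ⧸ Δ) : ℕ :=
  (if v = ((1 : a.1) : a.1 ⧸ Δ) then blockRank 2 B else 0) +
    ∑ i : Cl M a with (((⟨rep i, rep_mem i⟩ : a.1) : a.1 ⧸ Δ) = v),
      blockRank 2 (bel 2 M a (rep i)).2

/-- The total. -/
theorem sum_sg (hM : IsPModular 2 M) (hmax : IsMaximalBrauerPair 2 M B a.1 a.2)
    [Fintype (a.1 ⧸ Δ)] : ∑ v : a.1 ⧸ Δ, sg M B Δ v = Nat.card B := by
  classical
  have hp : Fact (Nat.Prime 2) := ⟨Nat.prime_two⟩
  have hB : IsPBlock M B := hmax.1.2.1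
  rw [(isSys_rep hM hmax).card_eq hM hB]
  unfold sg
  rw [Finset.sum_add_distrib]
  congr 1
  · rw [Finset.sum_ite_eq' Finset.univ _ _, if_pos (Finset.mem_univ _)]
  · exact Finset.sum_fiberwise _ _ _

/-- The sums over the cosets of central elements. -/
theorem sg_eq (hM : IsPModular 2 M) (hmax : IsMaximalBrauerPair 2 M B a.1 a.2)
    (hF : IsBlockFusionSystemOn 2 M B a.1 a.2 F) (fd : FD a.1 A y F d Δ) {z : a.1}
    (hz : (z : G) ∈ Z a.1) :
    sg M B Δ (z : a.1 ⧸ Δ) = sg M B Δ ((1 : a.1) : a.1 ⧸ Δ) := by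
  classical
  have hn := fd.normal
  have := Fintype.ofFinite (a.1 ⧸ Δ)
  have hab : ∀ v w : a.1 ⧸ Δ, v * w = w * v := by
    intro v w
    obtain ⟨v, rfl⟩ := QuotientGroup.mk_surjective v
    obtain ⟨w, rfl⟩ := QuotientGroup.mk_surjective w
    rw [← QuotientGroup.mk_mul, ← QuotientGroup.mk_mul]
    refine QuotientGroup.eq.2 ?_
    have h1 := fd.comm w⁻¹ v⁻¹
    have h2 : w⁻¹ * v⁻¹ * w⁻¹⁻¹ * v⁻¹⁻¹ = (v * w)⁻¹ * (w * v) := by group
    rwa [h2] at h1
  refine Cfsg.Agent.H352.FTG1.eq_of_trace hab (sg M B Δ) (z : a.1 ⧸ Δ) ?_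
  intro l hl
  set l' : a.1 →* ℂˣ := l.comp (QuotientGroup.mk' Δ) with hl'
  have hL : l' ∈ Lam F := by
    intro v hv
    have h1 := fd.focal_le hv
    rw [hl', MonoidHom.comp_apply]
    have h2 : QuotientGroup.mk' Δ v = 1 := (QuotientGroup.eq_one_iff v).2 h1
    rw [h2, map_one]
  have h0 := trace_zero hM hmax hF hL (z := z) hz hl
  rw [← h0]
  unfold sg
  have h3 : ∀ v : a.1 ⧸ Δ, ((l v : ℂˣ) : ℂ) * (((if v = ((1 : a.1) : a.1 ⧸ Δ) then blockRank 2 B
      else 0) + ∑ i : Cl M a with (((⟨rep i, rep_mem i⟩ : a.1) : a.1 ⧸ Δ) = v),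
      blockRank 2 (bel 2 M a (rep i)).2 : ℕ) : ℂ) =
      (if v = ((1 : a.1) : a.1 ⧸ Δ) then ((l v : ℂˣ) : ℂ) * (blockRank 2 B : ℂ) else 0) +
      ∑ i : Cl M a with (((⟨rep i, rep_mem i⟩ : a.1) : a.1 ⧸ Δ) = v),
        ((l' ⟨rep i, rep_mem i⟩ : ℂˣ) : ℂ) * (blockRank 2 (bel 2 M a (rep i)).2 : ℂ) := by
    intro v
    push_cast
    rw [mul_add, Finset.mul_sum]
    congr 1
    · split_ifs
      · rfl
      · rw [mul_zero]
    · refine Finset.sum_congr rfl fun i hi => ?_
      have h4 := (Finset.mem_filter.1 hi).2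
      have h5 : l' ⟨rep i, rep_mem i⟩ = l v := by
        rw [← h4]; rfl
      rw [h5]
  rw [Finset.sum_congr rfl fun v _ => h3 v, Finset.sum_add_distrib,
    Finset.sum_ite_eq' Finset.univ _ _, if_pos (Finset.mem_univ _), Finset.sum_fiberwise]
  congr 1
  rw [show l ((1 : a.1) : a.1 ⧸ Δ) = 1 from map_one l, Units.val_one, one_mul]

/-- Elements of `A` in the class of `w` lie in `{w, f w}`. -/
theorem exists_partner (hM : IsPModular 2 M) (hmax : IsMaximalBrauerPair 2 M B a.1 a.2)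
    (hF : IsBlockFusionSystemOn 2 M B a.1 a.2 F) (h : Grp a.1 A x e y) (fd : FD a.1 A y F d Δ)
    {w : a.1} (hw : (w : G) ∈ A) : ∃ w' : G, ∀ v : a.1, (v : G) ∈ A →
      Fus 2 M a (w : G) (v : G) → (v : G) = w ∨ (v : G) = w' := by
  have hiff := fun v : a.1 => Cfsg.Agent.H755.FTB3.fus_iff hM hmax hF w.2 v.2
  by_cases hwZ : (w : G) ∈ Z a.1
  · refine ⟨w * d, fun v hv hwv => ?_⟩
    have hc := (hiff v).1 hwv
    have hvZ : (v : G) ∈ Z a.1 := by
      by_contra hvZ
      have hc' := (Cfsg.Agent.H755.FTB3.fus_iff hM hmax hF v.2 w.2).1 hwv.symm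
      rcases fd.cls v hv hvZ w hc' with h1 | h1
      · exact hvZ (h1 ▸ hwZ)
      · exact h.conj_notMem_Z hvZ (h1 ▸ hwZ)
    have h1 := fd.foc w v hc
    have h2 : ((w⁻¹ * v : a.1) : G) ∈ Z a.1 := (Z a.1).mul_mem ((Z a.1).inv_mem hwZ) hvZ
    rcases fd.cen _ h2 h1 with h3 | h3
    · left
      have h4 := inv_mul_eq_one.1 h3
      rw [h4]
    · right
      have h4 : (w : G)⁻¹ * v = d := h3
      rw [← h4]; group
  · refine ⟨y * w * y⁻¹, fun v hv hwv => ?_⟩
    exact fd.cls w hw hwZ v ((hiff v).1 hwv)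

open Classical in
/-- The number of elements of `A` in a coset of `Δ`. -/
noncomputable def na (A : Subgroup G) {S : Subgroup G} (Δ : Subgroup S) (v : S ⧸ Δ) : ℕ :=
  Nat.card {w : S // (w : G) ∈ A ∧ (w : S ⧸ Δ) = v}

/-- The lower bound, without the identity. -/
theorem card_le_two_mul (hM : IsPModular 2 M) (hmax : IsMaximalBrauerPair 2 M B a.1 a.2)
    (hF : IsBlockFusionSystemOn 2 M B a.1 a.2 F) (h : Grp a.1 A x e y) (fd : FD a.1 A y F d Δ)
    [DecidableEq (a.1 ⧸ Δ)] (v : a.1 ⧸ Δ) :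
    Nat.card {w : a.1 // w ≠ 1 ∧ (w : G) ∈ A ∧ (w : a.1 ⧸ Δ) = v} ≤
      2 * ∑ i : Cl M a with (((⟨rep i, rep_mem i⟩ : a.1) : a.1 ⧸ Δ) = v),
        blockRank 2 (bel 2 M a (rep i)).2 := by
  classical
  have hp : Fact (Nat.Prime 2) := ⟨Nat.prime_two⟩
  have := Fintype.ofFinite a.1
  have hmodp := Cfsg.Agent.Blocks.Local.isPrime_of_isPModular hM
  have hne : ∀ w : a.1, w ≠ 1 → (w : G) ≠ 1 := fun w hw h1 => hw (Subtype.ext h1)
  -- the map to classes
  let s : Finset a.1 := Finset.univ.filter fun w => w ≠ 1 ∧ (w : G) ∈ A ∧ (w : a.1 ⧸ Δ) = v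
  have hs : Nat.card {w : a.1 // w ≠ 1 ∧ (w : G) ∈ A ∧ (w : a.1 ⧸ Δ) = v} = s.card := by
    rw [Nat.card_eq_fintype_card, Fintype.card_subtype]
  let c : a.1 → Option (Cl M a) := fun w =>
    if hw : w ≠ 1 then some (mkCl M a w w.2 (hne w hw)) else none
  let t : Finset (Cl M a) := Finset.univ.filter fun i =>
    (((⟨rep i, rep_mem i⟩ : a.1) : a.1 ⧸ Δ) = v)
  have hmaps : ∀ w ∈ s, c w ∈ t.image some := by
    intro w hw
    obtain ⟨-, hw1, hwA, hwv⟩ := Finset.mem_filter.1 hw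
    rw [Finset.mem_image]
    refine ⟨mkCl M a w w.2 (hne w hw1), ?_, ?_⟩
    · refine Finset.mem_filter.2 ⟨Finset.mem_univ _, ?_⟩
      rw [← hwv]
      have h1 := fus_rep_mk (M := M) (a := a) w.2 (hne w hw1)
      have h2 := (Cfsg.Agent.H755.FTB3.fus_iff hM hmax hF (rep_mem _) w.2).1 h1
      exact QuotientGroup.eq.2 (fd.foc ⟨_, rep_mem _⟩ w h2)
    · simp only [c]
      rw [dif_pos hw1]
  have hfib : ∀ i ∈ t.image some, (s.filter fun w => c w = i).card ≤ 2 := by
    intro i _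
    by_cases hex : ∃ w ∈ s, c w = i
    · obtain ⟨w, hw, hwi⟩ := hex
      obtain ⟨-, hw1, hwA, hwv⟩ := Finset.mem_filter.1 hw
      obtain ⟨w', hw'⟩ := exists_partner hM hmax hF h fd hwA
      have hsub : ((s.filter fun w => c w = i).map ⟨Subtype.val, Subtype.val_injective⟩) ⊆
          ({(w : G), w'} : Finset G) := by
        intro g hg
        rw [Finset.mem_map] at hg
        obtain ⟨u, hu, rfl⟩ := hg
        obtain ⟨hus, hui⟩ := Finset.mem_filter.1 hu
        obtain ⟨-, hu1, huA, huv⟩ := Finset.mem_filter.1 hus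
        have h1 : c w = c u := hwi.trans hui.symm
        simp only [c] at h1
        rw [dif_pos hw1, dif_pos hu1] at h1
        have h2 := (mkCl_eq_iff w.2 (hne w hw1) u.2 (hne u hu1)).1 (Option.some_injective _ h1)
        rw [Finset.mem_insert, Finset.mem_singleton]
        exact hw' u huA h2
      have h3 := Finset.card_le_card hsub
      rw [Finset.card_map] at h3
      exact h3.trans Finset.card_le_two
    · push Not at hex
      rw [Finset.filter_eq_empty_iff.2 fun w hw => hex w hw]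
      norm_num
  have h1 := Finset.card_le_mul_card_image_of_maps_to hmaps 2 hfib
  rw [hs]
  refine h1.trans (Nat.mul_le_mul_left 2 ?_)
  rw [Finset.card_image_of_injective _ (Option.some_injective _), Finset.card_eq_sum_ones]
  refine Finset.sum_le_sum fun i _ => ?_
  exact Cfsg.Agent.H613.RankPos.one_le_blockRank
    (Cfsg.Agent.Blocks.Basic.isPBlock_nonempty (isPBlock_bel hM hmax.1.1 (rep_mem i)))

theorem card_na_one (fd : FD a.1 A y F d Δ) (hdA : d ∈ A) (hA : A ≤ a.1) :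
    2 ∣ na A Δ ((1 : a.1) : a.1 ⧸ Δ) ∧ na A Δ ((1 : a.1) : a.1 ⧸ Δ) =
      Nat.card {w : a.1 // w ≠ 1 ∧ (w : G) ∈ A ∧ (w : a.1 ⧸ Δ) = ((1 : a.1) : a.1 ⧸ Δ)} + 1 := by
  classical
  constructor
  · have h1 : na A Δ ((1 : a.1) : a.1 ⧸ Δ) = Nat.card (A.subgroupOf a.1 ⊓ Δ : Subgroup a.1) := by
      refine Nat.card_congr (Equiv.subtypeEquivRight fun w => ?_)
      rw [Subgroup.mem_inf]
      refine and_congr Iff.rfl ?_
      have := fd.normal
      exact QuotientGroup.eq_one_iff w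
    rw [h1]
    have h2 : orderOf (⟨⟨d, hA hdA⟩, hdA, fd.dΔ _ rfl⟩ : (A.subgroupOf a.1 ⊓ Δ : Subgroup a.1))
        = 2 := by
      rw [orderOf_eq_prime_iff]
      constructor
      · apply Subtype.ext
        apply Subtype.ext
        change d ^ 2 = 1
        rw [pow_two, fd.dd]
      · intro h3
        exact fd.d1 (congrArg (fun w => ((w : a.1) : G)) (congrArg Subtype.val h3))
    rw [← h2]
    exact orderOf_dvd_natCard _
  · have := Fintype.ofFinite a.1
    unfold na
    rw [Nat.card_eq_fintype_card, Nat.card_eq_fintype_card, Fintype.card_subtype,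
      Fintype.card_subtype]
    have h1 : (Finset.univ.filter fun w : a.1 => (w : G) ∈ A ∧ (w : a.1 ⧸ Δ) =
        ((1 : a.1) : a.1 ⧸ Δ)) = insert 1 (Finset.univ.filter fun w : a.1 => w ≠ 1 ∧ (w : G) ∈ A ∧
          (w : a.1 ⧸ Δ) = ((1 : a.1) : a.1 ⧸ Δ)) := by
      ext w
      simp only [Finset.mem_filter, Finset.mem_univ, true_and, Finset.mem_insert]
      constructor
      · intro h2
        by_cases hw : w = 1
        · exact Or.inl hw
        · exact Or.inr ⟨hw, h2⟩
      · rintro (rfl | h2)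
        · exact ⟨A.one_mem, rfl⟩
        · exact h2.2
    rw [h1, Finset.card_insert_of_notMem]
    simp

/-- **The main inequality.** -/
theorem card_ge (hM : IsPModular 2 M) (hmax : IsMaximalBrauerPair 2 M B a.1 a.2)
    (hF : IsBlockFusionSystemOn 2 M B a.1 a.2 F) (h : Grp a.1 A x e y) (fd : FD a.1 A y F d Δ) :
    Nat.card (Z a.1) * blockRank 2 B + Nat.card A ≤ 2 * Nat.card B := by
  classical
  have hn := fd.normal
  have := Fintype.ofFinite a.1
  have := Fintype.ofFinite (a.1 ⧸ Δ)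
  have hdA : d ∈ A := h.Z_le_A fd.dZ
  have hfinZ : Finite (Z a.1) := Cfsg.Agent.H802.finite_of_le Z_le
  have := Fintype.ofFinite (Z a.1)
  -- the image of the centre
  let q : Z a.1 → a.1 ⧸ Δ := fun z => ((⟨z, Z_le z.2⟩ : a.1) : a.1 ⧸ Δ)
  let zb : Finset (a.1 ⧸ Δ) := Finset.univ.image q
  have hzb : Nat.card (Z a.1) ≤ 2 * zb.card := by
    rw [Nat.card_eq_fintype_card, ← Finset.card_univ]
    refine Finset.card_le_mul_card_image _ 2 fun v hv => ?_
    obtain ⟨z, -, rfl⟩ := Finset.mem_image.1 hv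
    have hsub : ((Finset.univ.filter fun w => q w = q z).map
        ⟨Subtype.val, Subtype.val_injective⟩) ⊆ ({(z : G), z * d} : Finset G) := by
      intro g hg
      rw [Finset.mem_map] at hg
      obtain ⟨w, hw, rfl⟩ := hg
      have h1 := (Finset.mem_filter.1 hw).2
      have h2 : (⟨z, Z_le z.2⟩ : a.1)⁻¹ * ⟨w, Z_le w.2⟩ ∈ Δ := QuotientGroup.eq.1 h1.symm
      rw [Finset.mem_insert, Finset.mem_singleton]
      rcases fd.cen _ ((Z a.1).mul_mem ((Z a.1).inv_mem z.2) w.2) h2 with h3 | h3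
      · left
        have h4 := congrArg Subtype.val (inv_mul_eq_one.1 h3)
        exact h4.symm
      · right
        have h4 : (z : G)⁻¹ * w = d := h3
        change (w : G) = z * d
        rw [← h4]; group
    have h3 := Finset.card_le_card hsub
    rw [Finset.card_map] at h3
    exact h3.trans Finset.card_le_two
  -- the lower bounds
  have h1 : na A Δ ((1 : a.1) : a.1 ⧸ Δ) + 2 * blockRank 2 B ≤
      2 * sg M B Δ ((1 : a.1) : a.1 ⧸ Δ) := by
    obtain ⟨h2, h3⟩ := card_na_one fd hdA h.le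
    have h4 := card_le_two_mul hM hmax hF h fd ((1 : a.1) : a.1 ⧸ Δ)
    have h5 : sg M B Δ ((1 : a.1) : a.1 ⧸ Δ) = blockRank 2 B + ∑ i : Cl M a with
        (((⟨rep i, rep_mem i⟩ : a.1) : a.1 ⧸ Δ) = ((1 : a.1) : a.1 ⧸ Δ)),
        blockRank 2 (bel 2 M a (rep i)).2 := by
      unfold sg
      rw [if_pos rfl]
    rw [h5]
    omega
  have h2 : ∀ v : a.1 ⧸ Δ, na A Δ v + (if v ∈ zb then 2 * blockRank 2 B else 0) ≤
      2 * sg M B Δ v := by
    intro v
    split_ifs with hv
    · obtain ⟨z, -, rfl⟩ := Finset.mem_image.1 hv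
      have h3 : sg M B Δ (q z) = sg M B Δ ((1 : a.1) : a.1 ⧸ Δ) := sg_eq hM hmax hF fd z.2
      have h4 : na A Δ (q z) = na A Δ ((1 : a.1) : a.1 ⧸ Δ) := by
        refine Nat.card_congr ?_
        refine (Equiv.subtypeEquiv (Equiv.mulLeft (⟨z, Z_le z.2⟩ : a.1)) fun w => ?_).symm
        have hzA : (z : G) ∈ A := h.Z_le_A z.2
        refine and_congr ?_ ?_
        · constructor
          · exact fun h5 => A.mul_mem hzA h5
          · intro h5
            have h6 := A.mul_mem (A.inv_mem hzA) h5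
            have h7 : (z : G)⁻¹ * ((Equiv.mulLeft (⟨z, Z_le z.2⟩ : a.1)) w : a.1) = w := by
              change (z : G)⁻¹ * (z * w) = w
              group
            rwa [h7] at h6
        · change _ ↔ (((⟨z, Z_le z.2⟩ : a.1) * w : a.1) : a.1 ⧸ Δ) = _
          rw [QuotientGroup.mk_mul]
          constructor
          · intro h5
            rw [h5, QuotientGroup.mk_one, mul_one]
          · intro h5
            exact mul_left_cancel (h5.trans (by rw [QuotientGroup.mk_one, mul_one]))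
      rw [h3, h4]
      exact h1
    · rw [add_zero]
      have hv1 : v ≠ ((1 : a.1) : a.1 ⧸ Δ) := by
        rintro rfl
        apply hv
        exact Finset.mem_image.2 ⟨1, Finset.mem_univ _, rfl⟩
      have h3 := card_le_two_mul hM hmax hF h fd v
      have h4 : na A Δ v = Nat.card {w : a.1 // w ≠ 1 ∧ (w : G) ∈ A ∧ (w : a.1 ⧸ Δ) = v} := by
        refine Nat.card_congr (Equiv.subtypeEquivRight fun w => ?_)
        constructor
        · rintro ⟨h5, h6⟩
          exact ⟨fun h7 => hv1 (by rw [← h6, h7]), h5, h6⟩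
        · rintro ⟨-, h5, h6⟩
          exact ⟨h5, h6⟩
      have h5 : sg M B Δ v = ∑ i : Cl M a with
          (((⟨rep i, rep_mem i⟩ : a.1) : a.1 ⧸ Δ) = v),
          blockRank 2 (bel 2 M a (rep i)).2 := by
        unfold sg
        rw [if_neg hv1, zero_add]
      rw [h4, h5]
      exact h3
  have h3 := Finset.sum_le_sum fun v (_ : v ∈ (Finset.univ : Finset (a.1 ⧸ Δ))) => h2 v
  rw [Finset.sum_add_distrib, ← Finset.mul_sum, sum_sg hM hmax, Finset.sum_ite_mem,
    Finset.univ_inter, Finset.sum_const, smul_eq_mul] at h3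
  have h4 : ∑ v : a.1 ⧸ Δ, na A Δ v = Nat.card A := by
    have h5 : Nat.card A = (Finset.univ.filter fun w : a.1 => (w : G) ∈ A).card := by
      rw [← Fintype.card_subtype, ← Nat.card_eq_fintype_card]
      refine Nat.card_congr ⟨fun w => ⟨⟨w, h.le w.2⟩, w.2⟩, fun w => ⟨w.1, w.2⟩, fun w => rfl,
        fun w => rfl⟩
    rw [h5, Finset.card_eq_sum_card_fiberwise (f := fun w : a.1 => (w : a.1 ⧸ Δ))
      (t := Finset.univ) (fun _ _ => Finset.mem_coe.2 (Finset.mem_univ _))]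
    refine Finset.sum_congr rfl fun v _ => ?_
    unfold na
    rw [Nat.card_eq_fintype_card, Fintype.card_subtype, Finset.filter_filter]
  rw [h4] at h3
  have h5 : Nat.card (Z a.1) * blockRank 2 B ≤ zb.card * (2 * blockRank 2 B) := by
    calc Nat.card (Z a.1) * blockRank 2 B ≤ 2 * zb.card * blockRank 2 B :=
          Nat.mul_le_mul_right _ hzb
      _ = _ := by ring
  omega

end Cfsg.Agent.H645.FT
end

-- part: H639/FTN2
section
/-!
# Major subsections of rank one (for S4544)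

`four_mul_card_le`: `4 k(B) ≤ 2 ^ d + 3 k₀(B)`.
-/

set_option autoImplicit false

open Cfsg Cfsg.FusionSystem Cfsg.Agent.H645.FT

namespace Cfsg.Agent.H639.FTN2

theorem four_mul_card_le {G : Type*} [Group G] [Finite G] {M : Ideal AlgInt} (hM : IsPModular 2 M)
    {B : Set (IrrCharacter G)} (hB : IsPBlock M B) {D : Subgroup G} (hD : IsDefectGroup 2 M B D)
    {z : G} (hzD : z ∈ D) (hzc : ∀ d ∈ D, d * z = z * d)
    {H : Subgroup G} (hH : H = Subgroup.centralizer ({z} : Set G))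
    {b : Set (IrrCharacter H)} (hb : IsInducedBlock M H b B)
    (hbD : IsDefectGroup 2 M b (D.subgroupOf H)) (hl : blockRank 2 b = 1) :
    4 * Nat.card B ≤ 2 ^ blockDefect 2 B +
      3 * Nat.card {χ : IrrCharacter G // χ ∈ B ∧ blockHeight 2 B (χ : G → ℂ) = 0} := by
  classical
  have := Cfsg.Agent.Characters.Core.finite_irr (G := G)
  have : Fintype B := Fintype.ofFinite B
  obtain ⟨ζ, k, P, a, hζ, hP⟩ :=
    Cfsg.Agent.H624.MajTwo.exists_proj hM hB hD hzD hzc hH hb hbD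
  obtain ⟨χ₀, hχ₀, hχ₀0⟩ := Cfsg.Agent.Blocks.Blau.exists_blockHeight_eq_zero 2
    (Cfsg.Agent.Blocks.Blau.isPBlock_nonempty hM hB)
  have h0 : ∃ ψ : B, blockHeight 2 B ((ψ : IrrCharacter G) : G → ℂ) = 0 := ⟨⟨χ₀, hχ₀⟩, hχ₀0⟩
  set f : B → ℕ := fun ψ => blockHeight 2 B ((ψ : IrrCharacter G) : G → ℂ) with hf
  have hcard : Nat.card B = ∑ _ψ : B, 1 := by
    rw [Finset.sum_const, Finset.card_univ, Nat.card_eq_fintype_card, smul_eq_mul, mul_one]
  have hcard0 : Nat.card {χ : IrrCharacter G // χ ∈ B ∧ blockHeight 2 B (χ : G → ℂ) = 0} =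
      ∑ ψ : B, if f ψ = 0 then 1 else 0 := by
    rw [Finset.sum_ite, Finset.sum_const_zero, add_zero, Finset.sum_const, smul_eq_mul, mul_one,
      ← Fintype.card_subtype, ← Nat.card_eq_fintype_card]
    refine Nat.card_congr ⟨fun x => ⟨⟨x.1, x.2.1⟩, x.2.2⟩, fun x => ⟨x.1.1, x.1.2, x.2⟩,
      fun x => rfl, fun x => rfl⟩
  -- the key inequality
  have key : ∑ ψ : B, (if f ψ = 0 then 1 else 4 : ℤ) ≤ 2 ^ blockDefect 2 B := by
    by_cases h1 : ∃ χ : B, f χ = 0 ∧ a χ χ 0 = 1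
    · obtain ⟨χ, hχ, hχ1⟩ := h1
      have h2 := hP.row_bound hM hζ hχ
      rw [hχ1, mul_one] at h2
      refine le_trans (Finset.sum_le_sum fun ψ _ => ?_) h2
      split_ifs with hψ
      · exact one_le_pow₀ (by norm_num)
      · calc (4 : ℤ) = 4 ^ 1 := by norm_num
          _ ≤ 4 ^ f ψ := pow_le_pow_right₀ (by norm_num) (by omega)
    · push Not at h1
      have h2 := hP.sum_t hζ
      rw [hl, Nat.cast_one, mul_one] at h2
      rw [← h2]
      refine Finset.sum_le_sum fun ψ _ => ?_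
      have hpos := hP.pos hM hζ h0 ψ
      split_ifs with hψ
      · omega
      · have h3 := Int.le_of_dvd hpos (hP.dvd hM hζ hψ)
        refine le_trans ?_ h3
        calc (4 : ℤ) = 2 ^ 2 := by norm_num
          _ ≤ 2 ^ (f ψ + 1) := pow_le_pow_right₀ (by norm_num) (by omega)
  rw [hcard, hcard0]
  have h2 : (4 : ℤ) * ((∑ _ψ : B, 1 : ℕ) : ℤ) =
      ∑ ψ : B, (if f ψ = 0 then 1 else 4 : ℤ) +
        3 * ((∑ ψ : B, if f ψ = 0 then 1 else 0 : ℕ) : ℤ) := by
    push_cast
    rw [Finset.mul_sum, Finset.mul_sum, ← Finset.sum_add_distrib]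
    refine Finset.sum_congr rfl fun ψ _ => ?_
    split_ifs <;> norm_num
  have h3 : ((4 * (∑ _ψ : B, 1) : ℕ) : ℤ) ≤ ((2 ^ blockDefect 2 B +
      3 * ∑ ψ : B, (if f ψ = 0 then 1 else 0) : ℕ) : ℤ) := by
    rw [Nat.cast_mul, Nat.cast_ofNat, h2]
    push_cast
    push_cast at key
    linarith
  exact_mod_cast h3

end Cfsg.Agent.H639.FTN2
end

-- part: H645/FT/Height
section
/-!
# Characters of height zero, and the bound for the rank
-/

set_option autoImplicit false

open Cfsg Cfsg.FusionSystem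

namespace Cfsg.Agent.H645.FT

open Cfsg.Agent.Blocks.Local Cfsg.Agent.Characters
open Cfsg.Agent.H613.SubSys Cfsg.Agent.H613.SubFus Cfsg.Agent.H619.Tame
open Cfsg.Agent.H639 Cfsg.Agent.H649 Cfsg.Agent.H650
open Cfsg.Agent.H617.FusTwo (C Z mem_Z Z_le mem_C)
open Cfsg.Agent.H617.FusFour (card_C_in)

universe u
variable {G : Type u} [Group G] [Finite G] {M : Ideal AlgInt}
  {B : Set (IrrCharacter G)} {a : BrauerPairIdx G} {F : FusionSystem a.1}
  {A : Subgroup G} {x e y d : G} {Δ : Subgroup a.1}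

/-- The number of characters of height zero. -/
noncomputable abbrev k0 (B : Set (IrrCharacter G)) : ℕ :=
  Nat.card {χ : IrrCharacter G // χ ∈ B ∧ blockHeight 2 B (χ : G → ℂ) = 0}

theorem k0_le_of_subsec (hM : IsPModular 2 M) (hB : IsPBlock M B) {u : G}
    {b : BrauerPairIdx G} (hsub : IsSubsec 2 M B u b) (hl : blockRank 2 b.2 ≤ 3) :
    k0 B ≤ 2 ^ blockDefect 2 b.2 := by
  have key : ∀ (H : Subgroup G) (_ : H = Subgroup.centralizer ({u} : Set G))
      (f : Set (IrrCharacter H)), IsInducedBlock M H f B → blockRank 2 f ≤ 3 →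
      k0 B ≤ 2 ^ blockDefect 2 f := by
    rintro H rfl f hf hl
    exact (Cfsg.Agent.S4541.result M hM B hB u hsub.pelt f hf).2.2 hl
  exact key _ hsub.centralizer_eq b.2 hsub.ind hl

theorem rank_bel_of_nilAt (hM : IsPModular 2 M) (hmax : IsMaximalBrauerPair 2 M B a.1 a.2)
    (hF : IsBlockFusionSystemOn 2 M B a.1 a.2 F) {u : G} (hu : u ∈ a.1) (h : NilAt F u) :
    blockRank 2 (bel 2 M a u).2 = 1 := by
  have hp : Fact (Nat.Prime 2) := ⟨Nat.prime_two⟩
  exact Cfsg.Agent.H613.NilRank.rank_one hM (Cfsg.Agent.H755.FTB3.nil_bel hM hmax hF hu h)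

/-- The first alternative. -/
theorem k0_le_first (hM : IsPModular 2 M) (hmax : IsMaximalBrauerPair 2 M B a.1 a.2)
    (hF : IsBlockFusionSystemOn 2 M B a.1 a.2 F) {u : G} (hu : u ∈ a.1)
    (hnil : NilAt F u) {n : ℕ} (hC : ∀ v, F.IsConjElt u v → Nat.card (C a.1 v) = n) :
    k0 B ≤ n := by
  have hp : Fact (Nat.Prime 2) := ⟨Nat.prime_two⟩
  obtain ⟨v, hv, huv, hcard⟩ := Cfsg.Agent.H613.SubDef.exists_fus_defect hM hmax hu
  have h1 := (Cfsg.Agent.H755.FTB3.fus_iff hM hmax hF hu hv).1 huv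
  have h2 := k0_le_of_subsec hM hmax.1.2.1 (isSubsec_bel hM hmax hu)
    (by rw [rank_bel_of_nilAt hM hmax hF hu hnil]; norm_num)
  refine h2.trans ?_
  rw [hcard]
  exact (hC v h1).le

/-- The second alternative. -/
theorem k0_le_second (hM : IsPModular 2 M) (hmax : IsMaximalBrauerPair 2 M B a.1 a.2)
    (hF : IsBlockFusionSystemOn 2 M B a.1 a.2 F) (h : Grp a.1 A x e y) (fd : FD a.1 A y F d Δ)
    {u : G} (hu : u ∈ A) (huZ : u ∉ Z a.1)
    (hou : orderOf u = 2 * Nat.card (Cfsg.Agent.H617.FusFour.E a.1))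
    (h4 : 4 ≤ Nat.card (Cfsg.Agent.H617.FusFour.E a.1)) {s : G} (hs : s ∈ a.1)
    (hsu : s * u * s⁻¹ = u⁻¹) : k0 B ≤ 2 * Nat.card (Z a.1) := by
  have hp : Fact (Nat.Prime 2) := ⟨Nat.prime_two⟩
  have := Fintype.ofFinite G
  have huS := h.le hu
  have hmodp := Cfsg.Agent.Blocks.Local.isPrime_of_isPModular hM
  -- the order of `u`
  obtain ⟨k, hk⟩ : ∃ k, orderOf u = 2 ^ k := by
    obtain ⟨k, hk⟩ := IsPGroup.iff_orderOf.1 h.pgrp ⟨u, huS⟩
    rw [Subgroup.orderOf_mk] at hk
    exact ⟨k, hk⟩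
  have hk3 : 3 ≤ k := by
    by_contra hcon
    have h1 : 2 ^ k ≤ 2 ^ 2 := Nat.pow_le_pow_right (by norm_num) (by omega)
    omega
  obtain ⟨j, rfl⟩ : ∃ j, k = j + 1 := ⟨k - 1, by omega⟩
  have hj : 2 ^ j = Nat.card (Cfsg.Agent.H617.FusFour.E a.1) := by
    rw [hk, pow_succ] at hou
    omega
  -- `s` is not in `A`
  have hsA : s ∉ A := by
    intro hsA
    have h1 : s * u * s⁻¹ = u := by rw [h.comm s hsA u hu]; group
    rw [h1] at hsu
    have h2 : u ^ 2 = 1 := by
      rw [pow_two]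
      nth_rewrite 1 [hsu]
      exact inv_mul_cancel u
    have h3 := Nat.le_of_dvd (by norm_num) (orderOf_dvd_of_pow_eq_one h2)
    rw [hk, pow_succ] at h3
    omega
  have hyu : y * u * y⁻¹ = u⁻¹ := by rw [← h.conj_eq hs hsA hu, hsu]
  have ht : u⁻¹ = u ^ (2 ^ (j + 1) - 1) := by
    rw [inv_eq_iff_mul_eq_one, ← pow_succ', Nat.sub_add_cancel Nat.one_le_two_pow, ← hk,
      pow_orderOf_eq_one]
  -- the defect
  have hdef : 2 ^ blockDefect 2 (bel 2 M a u).2 = Nat.card A := by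
    obtain ⟨v, hv, huv, hcard⟩ := Cfsg.Agent.H613.SubDef.exists_fus_defect hM hmax huS
    have h1 := (Cfsg.Agent.H755.FTB3.fus_iff hM hmax hF huS hv).1 huv
    have h2 : v ∈ A ∧ v ∉ Z a.1 := by
      rcases fd.cls u hu huZ v h1 with rfl | rfl
      · exact ⟨hu, huZ⟩
      · exact ⟨h.conj_mem h.yS hu, h.conj_notMem_Z huZ⟩
    have h3 : C a.1 v = A := card_C_in h.le h.idx h.comm h2.1 h2.2
    rw [hcard]
    change Nat.card (C a.1 v) = _
    rw [h3]
  have hsub := isSubsec_bel hM hmax huS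
  have hfblk : IsPBlock M (bel 2 M a u).2 := isPBlock_bel hM hmax.1.1 huS
  -- `s` normalizes `⟨u⟩`
  have hnorm : ∀ g w, g * u * g⁻¹ = u ^ w → g ∈ Subgroup.normalizer
      ((Subgroup.zpowers u : Subgroup G) : Set G) := by
    intro g w hg
    have hmap : (Subgroup.zpowers u).map (MulAut.conj g).toMonoidHom ≤ Subgroup.zpowers u := by
      rw [MonoidHom.map_zpowers, Subgroup.zpowers_le]
      change g * u * g⁻¹ ∈ _
      rw [hg]
      exact Subgroup.npow_mem_zpowers u w
    have hcard : Nat.card ((Subgroup.zpowers u).map (MulAut.conj g).toMonoidHom) =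
        Nat.card (Subgroup.zpowers u) :=
      Nat.card_congr ((Subgroup.zpowers u).equivMapOfInjective _
        (MulAut.conj g).injective).symm.toEquiv
    have heq := Subgroup.eq_of_le_of_card_ge hmap (le_of_eq hcard.symm)
    exact (mem_normalizer_iff_map_conj _ g).2 heq
  have := Fintype.ofFinite (Subgroup.centralizer ((Subgroup.zpowers u : Subgroup G) : Set G))
  have hmain := Cfsg.Agent.H617.RankOneCol.card_height_zero_le hM (u := u) (j := j) (by omega) hk
    (H := Subgroup.centralizer ((Subgroup.zpowers u : Subgroup G) : Set G))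
    hsub.centralizer_eq (b := (bel 2 M a u).2) hsub.ind
    (rank_bel_of_nilAt hM hmax hF huS (fd.nilw u hu huZ)) (s := s) (Or.inl rfl)
    (hsu.trans ht) (stabilizes_of_mem hM hmax.1.1 (bel_snd hM hmax.1.1 huS).2 hs
      (hnorm s _ (hsu.trans ht))) ?_
  · have hcA := h.card_A
    have h5 : 2 ^ j * k0 B ≤ 2 ^ j * (2 * Nat.card (Z a.1)) := by
      calc 2 ^ j * k0 B ≤ 2 ^ (blockDefect 2 (bel 2 M a u).2 + 1) := hmain
        _ = Nat.card A * 2 := by rw [pow_succ, hdef]
        _ = 2 ^ j * (2 * Nat.card (Z a.1)) := by rw [hcA, hj]; ring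
    exact Nat.le_of_mul_le_mul_left h5 (by positivity)
  · intro g w hg hst
    have h1 : conjIdx g (bel 2 M a u) = bel 2 M a u :=
      (conjIdx_eq_iff hfblk g).2 ⟨hnorm g w hg, hst⟩
    have huw : u ^ w ∈ a.1 := a.1.pow_mem huS w
    have hz : Subgroup.zpowers (u ^ w) = Subgroup.zpowers u := by
      have h2 : Subgroup.zpowers (u ^ w) ≤ Subgroup.zpowers u :=
        Subgroup.zpowers_le.2 (Subgroup.npow_mem_zpowers u w)
      refine Subgroup.eq_of_le_of_card_ge h2 (le_of_eq ?_)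
      rw [Nat.card_zpowers, Nat.card_zpowers, ← hg, Cfsg.Agent.H617.RankOneCol.orderOf_conj']
    have h2 : bel 2 M a u = bel 2 M a (u ^ w) :=
      eq_bel hM hmax.1.1 (by rw [hz]; rfl) (bel_le hM hmax.1.1 huS)
    have h3 : Fus 2 M a u (u ^ w) := ⟨g, hg, h1.trans h2⟩
    have h4 := (Cfsg.Agent.H755.FTB3.fus_iff hM hmax hF huS huw).1 h3
    rcases fd.cls u hu huZ _ h4 with h5 | h5
    · exact Or.inl h5
    · right
      rw [h5, hyu, ht]

/-- Blocks with defect groups in the class considered have rank at most three. -/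
theorem rank_le_three (hM : IsPModular 2 M) (hmax : IsMaximalBrauerPair 2 M B a.1 a.2)
    (hF : IsBlockFusionSystemOn 2 M B a.1 a.2 F) (hsat : F.IsSaturated 2)
    (hDa : IsDefectGroup 2 M B a.1) (h : Grp a.1 A x e y) (hNQ : NQF x F) :
    blockRank 2 B ≤ 3 := by
  have hp : Fact (Nat.Prime 2) := ⟨Nat.prime_two⟩
  have := Fintype.ofFinite G
  have hB : IsPBlock M B := hmax.1.2.1
  obtain ⟨d, Δ, fd⟩ := h.exists_fd hsat hNQ
  -- characters of height zero
  have h0 : k0 B ≤ 2 * Nat.card (Z a.1) := by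
    rcases fd.alt with ⟨u, hu, -, hnil, hC⟩ | ⟨u, hu, huZ, hou, h4, s, hs, hsu⟩
    · exact k0_le_first hM hmax hF hu hnil hC
    · exact k0_le_second hM hmax hF h fd hu huZ hou h4 hs hsu
  -- the subsection of `d`
  have hdS : d ∈ a.1 := Z_le fd.dZ
  have hsub := isSubsec_bel hM hmax hdS
  have hfblk : IsPBlock M (bel 2 M a d).2 := isPBlock_bel hM hmax.1.1 hdS
  have hdc : ∀ g ∈ a.1, g * d = d * g := (mem_Z.1 fd.dZ).2
  have hQS : Subgroup.zpowers d ≤ a.1 := Subgroup.zpowers_le.2 hdS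
  have hle : a.1 ≤ Subgroup.centralizer ((Subgroup.zpowers d : Subgroup G) : Set G) := by
    intro g hg
    rw [Cfsg.Agent.H613.SubSys.centralizer_zpowers, Subgroup.mem_centralizer_singleton_iff]
    exact hdc g hg
  have hfc : F.IsFullyCentralized (Subgroup.zpowers d) := by
    refine ⟨hQS, fun R _ => ?_⟩
    have h1 : centralizerIn a.1 (Subgroup.zpowers d) = a.1 := inf_eq_left.2 hle
    rw [h1]
    exact Nat.card_le_card_of_injective _ (Subgroup.inclusion_injective
      (inf_le_left : centralizerIn a.1 R ≤ a.1))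
  have hdef := (Cfsg.Agent.S4678.result 2 M hM B a.1 a.2 hmax F hF (Subgroup.zpowers d)
    (bel 2 M a d).2 hQS hfblk (bel_snd hM hmax.1.1 hdS).2).1 hfc
  rw [inf_eq_left.2 hle] at hdef
  have hmain := Cfsg.Agent.H639.FTN2.four_mul_card_le hM hB hDa hdS hdc
    (H := Subgroup.centralizer ((Subgroup.zpowers d : Subgroup G) : Set G))
    (Cfsg.Agent.H613.SubSys.centralizer_zpowers d) hsub.ind hdef
    (rank_bel_of_nilAt hM hmax hF hdS fd.nild)
  rw [← Cfsg.Agent.S0908.result 2 M hM B hB a.1 hDa, h.card_S] at hmain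
  have hcount := card_ge hM hmax hF h fd
  have hfinZ : Finite (Z a.1) := Cfsg.Agent.H802.finite_of_le Z_le
  have hpos : 0 < Nat.card (Z a.1) := Nat.card_pos
  have h0' : Nat.card {χ : IrrCharacter G // χ ∈ B ∧ blockHeight 2 B (χ : G → ℂ) = 0} ≤
    2 * Nat.card (Z a.1) := h0
  have hfin : Nat.card (Z a.1) * blockRank 2 B ≤ Nat.card (Z a.1) * 3 := by omega
  exact Nat.le_of_mul_le_mul_left hfin hpos

end Cfsg.Agent.H645.FT
end

-- part: H645/FT/NQuot
section
/-!
# The quotient by a central involution has no quaternion configuration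
-/

set_option autoImplicit false

namespace Cfsg.Agent.H645.FT

open Cfsg.Agent.H745.MetaTwo (sq_of_cyclic)

variable {H : Type*} [Group H]

theorem mem_zpowers_involution {z w : H} (hzz : z * z = 1) :
    w ∈ Subgroup.zpowers z ↔ w = 1 ∨ w = z := by
  constructor
  · intro h
    obtain ⟨k, rfl⟩ := Subgroup.mem_zpowers_iff.1 h
    rcases Int.even_or_odd' k with ⟨m, rfl | rfl⟩
    · left
      rw [zpow_mul, zpow_two, hzz, one_zpow]
    · right
      rw [zpow_add, zpow_mul, zpow_two, hzz, one_zpow, one_mul, zpow_one]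
  · rintro (rfl | rfl)
    · exact Subgroup.one_mem _
    · exact Subgroup.mem_zpowers _

/-- An automorphism of odd order induced by conjugation in a quotient is induced by an element of
odd order. -/
theorem exists_odd_lift [Finite H] {U : Subgroup H} [U.Normal] {E : Subgroup (H ⧸ U)}
    {α : MulAut E} (hodd : ¬ 2 ∣ orderOf α) {g : H ⧸ U}
    (hg : ∀ v : E, ((α v : E) : H ⧸ U) = g * v * g⁻¹) :
    ∃ k : H, Odd (orderOf k) ∧
      ∀ v : E, ((α v : E) : H ⧸ U) = (QuotientGroup.mk k : H ⧸ U) * v *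
        (QuotientGroup.mk k : H ⧸ U)⁻¹ := by
  obtain ⟨h, rfl⟩ := QuotientGroup.mk_surjective g
  obtain ⟨s, r, hr, hn⟩ := Nat.exists_eq_two_pow_mul_odd (orderOf_pos h).ne'
  have hco : (2 ^ s).Coprime r := Nat.Coprime.pow_left s (Nat.coprime_two_left.2 hr)
  obtain ⟨k, hk0, hk1⟩ := Nat.chineseRemainder hco 0 1
  have hpow : ∀ (n : ℕ) (v : E), (((α ^ n) v : E) : H ⧸ U) =
      (QuotientGroup.mk (h ^ n) : H ⧸ U) * v * (QuotientGroup.mk (h ^ n) : H ⧸ U)⁻¹ := by
    intro n
    induction n with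
    | zero => intro v; simp
    | succ n ih =>
      intro v
      rw [pow_succ', MulAut.mul_apply, hg, ih, pow_succ', QuotientGroup.mk_mul]
      group
  have hαn : α ^ orderOf h = 1 := by
    refine MulEquiv.ext fun v => Subtype.ext ?_
    rw [hpow, pow_orderOf_eq_one, QuotientGroup.mk_one, one_mul, inv_one, mul_one]
    rfl
  have hαr : orderOf α ∣ r := by
    have h1 : orderOf α ∣ 2 ^ s * r := by rw [← hn]; exact orderOf_dvd_of_pow_eq_one hαn
    have h2 : (orderOf α).Coprime (2 ^ s) := (Nat.Coprime.pow_left s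
      ((Nat.Prime.coprime_iff_not_dvd Nat.prime_two).2 hodd)).symm
    exact h2.dvd_of_dvd_mul_left h1
  refine ⟨h ^ k, ?_, fun v => ?_⟩
  · have h1 : (h ^ k) ^ r = 1 := by
      rw [← pow_mul]
      refine orderOf_dvd_iff_pow_eq_one.1 ?_
      rw [hn]
      exact Nat.mul_dvd_mul_right ((Nat.modEq_zero_iff_dvd).1 hk0) r
    exact hr.of_dvd_nat (orderOf_dvd_of_pow_eq_one h1)
  · rw [← hpow]
    have h1 : α ^ k = α := by
      have h2 : α ^ k = α ^ 1 := pow_eq_pow_iff_modEq.2 (hk1.of_dvd hαr)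
      rw [h2, pow_one]
    rw [h1]

theorem nq_of_quot [Finite H] {z : H} (hz : z ∈ Subgroup.center H) (hz1 : z ≠ 1)
    (hzz : z * z = 1) {U : Subgroup H} [U.Normal] (hU : U = Subgroup.zpowers z) {c : H}
    (hc : z ∈ Subgroup.zpowers c) {E : Subgroup (H ⧸ U)} {α : MulAut E}
    (hodd : ¬ 2 ∣ orderOf α) {g : H ⧸ U} (hg : ∀ v : E, ((α v : E) : H ⧸ U) = g * v * g⁻¹) :
    NQ (QuotientGroup.mk c : H ⧸ U) α := by
  obtain ⟨k, hkodd, hk⟩ := exists_odd_lift hodd hg
  have hzc : ∀ w : H, w * z = z * w := Subgroup.mem_center_iff.1 hz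
  have heq : ∀ v w : H, (QuotientGroup.mk v : H ⧸ U) = QuotientGroup.mk w → w = v ∨ w = v * z := by
    intro v w hvw
    have h1 := QuotientGroup.eq.1 hvw
    rw [hU, mem_zpowers_involution hzz] at h1
    rcases h1 with h2 | h2
    · left
      exact (inv_mul_eq_one.1 h2).symm
    · right
      rw [← h2]; group
  intro q hq hqq hq4 hα2 hbad
  obtain ⟨i, hi⟩ := Subgroup.mem_zpowers_iff.1 hq
  set p : H := c ^ i with hp
  have hpq : (QuotientGroup.mk p : H ⧸ U) = q := by
    rw [← hi, hp]; rfl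
  set w : H := p * p with hw
  have hwq : (QuotientGroup.mk w : H ⧸ U) = q * q := by
    rw [hw, QuotientGroup.mk_mul, hpq]
  have hqq' : (q : H ⧸ U) * q ≠ 1 := fun h => hqq (Subtype.ext h)
  have hq4' : (q : H ⧸ U) * q * (q * q) = 1 := congrArg Subtype.val hq4
  have hw1 : w ≠ 1 := by
    intro h1
    apply hqq'
    rw [← hwq, h1]; rfl
  have hwz : w ≠ z := by
    intro h1
    apply hqq'
    rw [← hwq, h1]
    exact (QuotientGroup.eq_one_iff z).2 (by rw [hU]; exact Subgroup.mem_zpowers z)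
  have hwc : w ∈ Subgroup.zpowers c := Subgroup.mul_mem _ (Subgroup.zpow_mem _
    (Subgroup.mem_zpowers c) i) (Subgroup.zpow_mem _ (Subgroup.mem_zpowers c) i)
  have hww : w * w = z := by
    have h1 : (QuotientGroup.mk (w * w) : H ⧸ U) = 1 := by
      rw [QuotientGroup.mk_mul, hwq, hq4']
    have h2 := (QuotientGroup.eq_one_iff (w * w)).1 h1
    rw [hU, mem_zpowers_involution hzz] at h2
    rcases h2 with h3 | h3
    · rcases sq_of_cyclic (Subgroup.zpowers c) hwc hc h3 hzz hz1 with h4 | h4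
      · exact absurd h4 hw1
      · exact absurd h4 hwz
    · exact h3
  -- conjugation by `k`
  obtain ⟨p', hp'⟩ : ∃ p', p' = k * p * k⁻¹ := ⟨_, rfl⟩
  have hp'q : (QuotientGroup.mk p' : H ⧸ U) = (α q : E) := by
    rw [hk, hp', QuotientGroup.mk_mul, QuotientGroup.mk_mul, hpq]; rfl
  have hkw : p' * p' = k * w * k⁻¹ := by rw [hp', hw]; group
  have hp'p' : p' * p' = w := by
    have h1 : (QuotientGroup.mk w : H ⧸ U) = QuotientGroup.mk (p' * p') := by
      rw [hwq, QuotientGroup.mk_mul, hp'q]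
      exact (congrArg Subtype.val hα2).symm
    rcases heq _ _ h1 with h2 | h2
    · exact h2
    · exfalso
      have h3 : ∀ n : ℕ, k ^ n * w * (k ^ n)⁻¹ = w * z ^ n := by
        intro n
        induction n with
        | zero => simp
        | succ n ih =>
          have hzn : k * z ^ n = z ^ n * k := ((Commute.pow_right (show Commute k z from hzc k) n).eq)
          calc k ^ (n + 1) * w * (k ^ (n + 1))⁻¹ = k * (k ^ n * w * (k ^ n)⁻¹) * k⁻¹ := by
                rw [pow_succ']; group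
            _ = k * (w * z ^ n) * k⁻¹ := by rw [ih]
            _ = (k * w * k⁻¹) * (k * z ^ n) * k⁻¹ := by group
            _ = (w * z) * (z ^ n * k) * k⁻¹ := by rw [← hkw, h2, hzn]
            _ = w * (z * z ^ n) := by group
            _ = w * z ^ (n + 1) := by rw [pow_succ']
      have h4 := h3 (orderOf k)
      rw [pow_orderOf_eq_one, one_mul, inv_one, mul_one] at h4
      obtain ⟨m, hm⟩ := hkodd
      rw [hm, pow_succ, pow_mul, pow_two, hzz, one_pow, one_mul] at h4
      exact hz1 (mul_eq_left.1 h4.symm)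
  -- the commutator relation
  obtain ⟨v, hvv, hvp, hpv⟩ : ∃ v, v * v = z ∧ v * p = p * v ∧ p * p' = p' * p * v := by
    have h1 : (QuotientGroup.mk (p' * p * w) : H ⧸ U) = QuotientGroup.mk (p * p') := by
      rw [QuotientGroup.mk_mul U (p' * p) w, QuotientGroup.mk_mul U p' p,
        QuotientGroup.mk_mul U p p', hp'q, hpq, hwq]
      exact (congrArg Subtype.val hbad).symm
    have hwp : w * p = p * w := by rw [hw]; group
    rcases heq _ _ h1 with h2 | h2
    · exact ⟨w, hww, hwp, h2⟩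
    · refine ⟨w * z, ?_, ?_, by rw [h2, mul_assoc (p' * p)]⟩
      · calc w * z * (w * z) = w * (z * w) * z := by group
          _ = w * (w * z) * z := by rw [← hzc w]
          _ = (w * w) * (z * z) := by group
          _ = z := by rw [hzz, mul_one, hww]
      · calc w * z * p = w * (p * z) := by rw [mul_assoc, hzc]
          _ = p * (w * z) := by rw [← mul_assoc, hwp, mul_assoc]
  have h5 : p'⁻¹ * p * p' = p * v := by
    rw [mul_assoc, hpv]; group
  have h6 : p'⁻¹ * w * p' = w * z := by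
    calc p'⁻¹ * w * p' = (p'⁻¹ * p * p') * (p'⁻¹ * p * p') := by rw [hw]; group
      _ = p * (v * p) * v := by rw [h5]; group
      _ = p * (p * v) * v := by rw [hvp]
      _ = (p * p) * (v * v) := by group
      _ = w * z := by rw [hvv]
  have h7 : p'⁻¹ * w * p' = w := by
    rw [← hp'p']; group
  rw [h7] at h6
  exact hz1 (mul_eq_left.1 h6.symm)

end Cfsg.Agent.H645.FT
end

-- part: H639/FTA
section
/-!
# Defect groups with a cyclic subgroup of index at most `2` (for S4544)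

`rank_le_three`: the rank is at most `3`.
-/

set_option autoImplicit false

open Cfsg Cfsg.FusionSystem Cfsg.Agent.H645.FT

namespace Cfsg.Agent.H639.FTA

/-- Cyclic defect groups, `p = 2`. -/
theorem rank_one_of_isCyclic {G : Type*} [Group G] [Finite G] {M : Ideal AlgInt}
    (hM : IsPModular 2 M) {B : Set (IrrCharacter G)} {a : BrauerPairIdx G}
    (hmax : IsMaximalBrauerPair 2 M B a.1 a.2) (hcyc : IsCyclic a.1) : blockRank 2 B = 1 := by
  have hp : Fact (Nat.Prime 2) := ⟨Nat.prime_two⟩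
  have := Cfsg.Agent.Blocks.Local.isPrime_of_isPModular hM
  have := Fintype.ofFinite G
  have hab : ∀ x ∈ a.1, ∀ y ∈ a.1, x * y = y * x := by
    intro x hx y hy
    have h := (IsCyclic.isMulCommutative (α := a.1)).is_comm
    exact congrArg Subtype.val (h.comm (⟨x, hx⟩ : a.1) ⟨y, hy⟩)
  have h1 := H645.TraceForm.not_dvd_relIndex_stab hM hmax hab
  have h2 := H617.StarAut.card_autG hM hmax hab
  have h3 : Nat.card (H617.StarAut.autG a) ∣ Nat.card (MulAut a.1) :=
    Subgroup.card_subgroup_dvd_card _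
  obtain ⟨n, hn⟩ := (IsPGroup.iff_card).1 hmax.1.1.1
  have h4 : ∃ k, Nat.card (MulAut a.1) = 2 ^ k := by
    rw [Nat.card_congr (IsCyclic.mulAutMulEquiv a.1).toEquiv, hn]
    have : NeZero (2 ^ n) := ⟨by positivity⟩
    rw [Nat.card_eq_fintype_card, ZMod.card_units_eq_totient]
    rcases Nat.eq_zero_or_pos n with h0 | h0
    · exact ⟨0, by rw [h0]; rfl⟩
    · exact ⟨n - 1, by rw [Nat.totient_prime_pow Nat.prime_two h0]; simp⟩
  obtain ⟨k, hk⟩ := h4
  rw [h2, hk] at h3
  obtain ⟨j, -, hj⟩ := (Nat.dvd_prime_pow Nat.prime_two).1 h3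
  have h5 : (Subgroup.centralizer (a.1 : Set G)).relIndex (H645.FusCount.stab a) = 1 := by
    rcases Nat.eq_zero_or_pos j with h0 | h0
    · rw [hj, h0, pow_zero]
    · exact absurd (by rw [hj]; exact dvd_pow_self 2 h0.ne') h1
  refine H617.AbelRank.rank_one hM hmax hab fun t ht x hx => ?_
  have h6 := Subgroup.relIndex_eq_one.1 h5 ht
  rw [← Subgroup.mem_centralizer_iff.1 h6 x hx]
  group

theorem isMetacyclic {D : Type*} [Group D] (C : Subgroup D) [Finite D] (hcyc : IsCyclic C)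
    (hidx : C.index ≤ 2) : IsMetacyclic D := by
  have hpos : 0 < C.index := Nat.pos_of_ne_zero Subgroup.index_ne_zero_of_finite
  have hN : C.Normal := by
    rcases Nat.lt_or_ge C.index 2 with h | h
    · have h1 : C = ⊤ := Subgroup.index_eq_one.1 (by omega)
      rw [h1]; infer_instance
    · exact Subgroup.normal_of_index_eq_two (by omega)
  refine ⟨C, hN, hcyc, ?_⟩
  have h1 : Nat.card (D ⧸ C) = C.index := (Subgroup.index_eq_card C).symm
  rcases Nat.lt_or_ge C.index 2 with h | h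
  · have h2 : Nat.card (D ⧸ C) = 1 := by omega
    have := (Nat.card_eq_one_iff_unique.1 h2).1
    exact isCyclic_of_subsingleton
  · have hp : Fact (Nat.Prime 2) := ⟨Nat.prime_two⟩
    exact isCyclic_of_prime_card (p := 2) (by omega)

theorem isCyclic_of_homocyclic {D : Type*} [Group D] [Finite D] {d n k : ℕ} (hd : 3 ≤ d)
    (hcard : Nat.card D = 2 ^ d) (C : Subgroup D) (hcyc : IsCyclic C) (hidx : C.index ≤ 2)
    (e : D ≃* Multiplicative (Fin k → ZMod (2 ^ n))) : IsCyclic D := by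
  have hc1 : Nat.card D = 2 ^ (n * k) := by
    rw [Nat.card_congr e.toEquiv]
    change Nat.card (Fin k → ZMod (2 ^ n)) = _
    rw [Nat.card_fun, Nat.card_zmod, Nat.card_fin, ← pow_mul]
  have hdk : d = n * k := Nat.pow_right_injective le_rfl (hcard.symm.trans hc1)
  -- a generator of `C`
  obtain ⟨⟨c, hc⟩, hgen⟩ := hcyc.exists_generator
  have hord : orderOf c = Nat.card C := by
    rw [← orderOf_eq_card_of_forall_mem_zpowers hgen, Subgroup.orderOf_mk]
  have hexp : c ^ (2 ^ n) = 1 := by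
    apply e.injective
    rw [map_pow, map_one]
    change Multiplicative.ofAdd ((2 ^ n) • (Multiplicative.toAdd (e c))) = 1
    have : (2 ^ n) • (Multiplicative.toAdd (e c)) = 0 := by
      funext i
      rw [Pi.smul_apply, Pi.zero_apply, nsmul_eq_mul]
      rw [Nat.cast_pow, Nat.cast_ofNat]
      have h : ((2 ^ n : ℕ) : ZMod (2 ^ n)) = 0 := ZMod.natCast_self _
      rw [Nat.cast_pow, Nat.cast_ofNat] at h
      rw [h, zero_mul]
    rw [this]
    rfl
  have h1 : orderOf c ≤ 2 ^ n := Nat.le_of_dvd (by positivity) (orderOf_dvd_of_pow_eq_one hexp)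
  have h2 := C.card_mul_index
  have h3 : 2 ^ d ≤ 2 ^ (n + 1) := by
    rw [← hcard, ← h2, ← hord, pow_succ]
    exact Nat.mul_le_mul h1 hidx
  have h4 : d ≤ n + 1 := (Nat.pow_le_pow_iff_right (by norm_num)).1 h3
  have hk : k = 1 := by
    rcases Nat.lt_or_ge k 2 with h | h
    · interval_cases k
      · omega
      · rfl
    · exfalso
      have h5 : n * 2 ≤ n * k := Nat.mul_le_mul_left n h
      omega
  subst hk
  have h5 : IsCyclic (Multiplicative (Fin 1 → ZMod (2 ^ n))) := by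
    have e2 : (Fin 1 → ZMod (2 ^ n)) ≃+ ZMod (2 ^ n) := AddEquiv.funUnique (Fin 1) (ZMod (2 ^ n))
    exact (AddEquiv.toMultiplicative e2).isCyclic.2 inferInstance
  exact e.isCyclic.2 h5

theorem rank_le_three {G : Type*} [Group G] [Finite G] {M : Ideal AlgInt} (hM : IsPModular 2 M)
    {B : Set (IrrCharacter G)} (hB : IsPBlock M B) {D : Subgroup G} (hD : IsDefectGroup 2 M B D)
    (C : Subgroup G) (hCD : C ≤ D) (hcyc : IsCyclic C) (hidx : C.relIndex D ≤ 2) :
    blockRank 2 B ≤ 3 := by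
  have hp : Fact (Nat.Prime 2) := ⟨Nat.prime_two⟩
  have := Cfsg.Agent.Blocks.Local.isPrime_of_isPModular hM
  have := Fintype.ofFinite G
  have hcard : Nat.card D = 2 ^ blockDefect 2 B := S0908.result 2 M hM B hB D hD
  by_cases hsmall : blockDefect 2 B ≤ 2
  · exact H617.SmallRank.blockRank_le_three hM hB hsmall
  push Not at hsmall
  set d := blockDefect 2 B with hd
  obtain ⟨f, hf⟩ := Cfsg.Agent.H649.exists_pair_of_isDefectGroup hM hB hD
  have hmax := Cfsg.Agent.H644.isMaximalBrauerPair_of_isDefectGroup hM hf hD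
  obtain ⟨F, hF, hsat⟩ := S4677.result 2 M hM B D f hmax
  have hP : IsPGroup 2 D := IsPGroup.of_card hcard
  -- the cyclic subgroup inside `D`
  have hcyc' : IsCyclic (C.subgroupOf D) :=
    (Subgroup.subgroupOfEquivOfLe hCD).isCyclic.2 hcyc
  have hidx' : (C.subgroupOf D).index ≤ 2 := hidx
  have hmeta := isMetacyclic (C.subgroupOf D) hcyc' hidx'
  by_cases hdi : ∃ m : ℕ, Nonempty (D ≃* DihedralGroup m)
  · obtain ⟨m, ⟨e⟩⟩ := hdi
    have h2 := Nat.card_congr e.toEquiv
    rw [hcard, DihedralGroup.nat_card] at h2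
    obtain ⟨j, hj⟩ : ∃ j, d = j + 1 := ⟨d - 1, by omega⟩
    have h3 : m = 2 ^ (d - 1) := by
      rw [hj, pow_succ] at h2
      rw [hj, Nat.add_sub_cancel]
      omega
    subst h3
    exact (S4528.result M hM B hB D hD d hsmall ⟨e⟩).2.2.1
  by_cases hq : ∃ m : ℕ, Nonempty (D ≃* QuaternionGroup m)
  · obtain ⟨m, ⟨e⟩⟩ := hq
    have h2 := Nat.card_congr e.toEquiv
    have hm0 : m ≠ 0 := by
      rintro rfl
      have h3 : Finite (QuaternionGroup 0) := Finite.of_equiv D e.toEquiv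
      have h4 : Infinite (QuaternionGroup 0) := by
        refine Infinite.of_injective (fun i : ℤ => (QuaternionGroup.a (i : ZMod (2 * 0)) :
          QuaternionGroup 0)) ?_
        intro i j hij
        have h5 := QuaternionGroup.a.inj hij
        change (Int.cast i : ℤ) = (Int.cast j : ℤ) at h5
        simpa using h5
      exact not_finite (QuaternionGroup 0)
    have : NeZero m := ⟨hm0⟩
    rw [hcard, Nat.card_eq_fintype_card, QuaternionGroup.card] at h2
    obtain ⟨j, hj⟩ : ∃ j, d = j + 2 := ⟨d - 2, by omega⟩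
    have h3 : m = 2 ^ (d - 2) := by
      rw [hj, pow_add] at h2
      rw [hj, Nat.add_sub_cancel]
      omega
    subst h3
    exact (S4530.result M hM B hB D hD d hsmall ⟨e⟩).2.1
  by_cases hsd : IsQuasiDihedral D
  · have h4 : 4 ≤ d := by
      obtain ⟨n, hn, hcn, -⟩ := hsd
      rw [hcard] at hcn
      have := Nat.pow_right_injective le_rfl hcn
      omega
    exact (S4529.result M hM B hB D hD d h4 hcard hsd).2.2.1
  by_cases hh : ∃ n k : ℕ, Nonempty (D ≃* Multiplicative (Fin k → ZMod (2 ^ n)))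
  · obtain ⟨n, k, ⟨e⟩⟩ := hh
    have hc : IsCyclic D := isCyclic_of_homocyclic hsmall hcard _ hcyc' hidx' e
    rw [rank_one_of_isCyclic (a := ⟨D, f⟩) hM hmax hc]
    norm_num
  · have hinner := S5212.result hP F hsat hmeta hh hdi hq hsd
    have hnil := (S4686.result 2 M hM B D f hmax F hF).2 hinner
    rw [H613.NilRank.rank_one hM hnil]
    norm_num

end Cfsg.Agent.H639.FTA
end

-- part: H645/FT/Quot
section
/-!
# Ranks of blocks of groups with a central element
-/

set_option autoImplicit false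

open Cfsg Cfsg.FusionSystem

namespace Cfsg.Agent.H645.FT

open Cfsg.Agent.H644.CentralQuot
open Cfsg.Agent.H617.FusTwo (Z mem_Z)

/-- Elements of the join of two commuting cyclic groups, the second of order at most two. -/
theorem mem_sup_gen {Ω : Type*} [Group Ω] [Finite Ω] {x e : Ω} (hc : x * e = e * x)
    (hee : e * e = 1) {v : Ω} (hv : v ∈ Subgroup.zpowers x ⊔ Subgroup.zpowers e) :
    ∃ i : ℕ, v = x ^ i ∨ v = x ^ i * e := by
  have hcz : ∀ k : ℤ, e * x ^ k = x ^ k * e := fun k =>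
    ((Commute.zpow_left (show Commute x e from hc) k).eq).symm
  have he : e⁻¹ = e := inv_eq_of_mul_eq_one_left hee
  let K : Subgroup Ω :=
    { carrier := {v | ∃ k : ℤ, v = x ^ k ∨ v = x ^ k * e}
      one_mem' := ⟨0, Or.inl (zpow_zero x).symm⟩
      mul_mem' := by
        rintro _ _ ⟨k, rfl | rfl⟩ ⟨l, rfl | rfl⟩
        · exact ⟨k + l, Or.inl (zpow_add x k l).symm⟩
        · exact ⟨k + l, Or.inr (by rw [zpow_add]; group)⟩
        · refine ⟨k + l, Or.inr ?_⟩
          rw [mul_assoc, hcz, zpow_add]; group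
        · refine ⟨k + l, Or.inl ?_⟩
          calc x ^ k * e * (x ^ l * e) = x ^ k * (e * x ^ l) * e := by group
            _ = x ^ k * (x ^ l * e) * e := by rw [hcz]
            _ = x ^ k * x ^ l * (e * e) := by group
            _ = _ := by rw [hee, mul_one, zpow_add]
      inv_mem' := by
        rintro _ ⟨k, rfl | rfl⟩
        · exact ⟨-k, Or.inl (zpow_neg x k).symm⟩
        · refine ⟨-k, Or.inr ?_⟩
          rw [mul_inv_rev, he, ← zpow_neg, hcz] }
  have hle : Subgroup.zpowers x ⊔ Subgroup.zpowers e ≤ K := by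
    rw [sup_le_iff, Subgroup.zpowers_le, Subgroup.zpowers_le]
    exact ⟨⟨1, Or.inl (zpow_one x).symm⟩, ⟨0, Or.inr (by rw [zpow_zero, one_mul])⟩⟩
  obtain ⟨k, hk⟩ := hle hv
  have h1 : x ^ k ∈ Subgroup.zpowers x := Subgroup.zpow_mem _ (Subgroup.mem_zpowers x) k
  rw [← mem_powers_iff_mem_zpowers] at h1
  obtain ⟨i, hi⟩ := h1
  have hi' : x ^ i = x ^ k := hi
  exact ⟨i, by rw [hi']; exact hk⟩

universe u
variable {H : Type u} [Group H] [Finite H] {M : Ideal AlgInt} {b : Set (IrrCharacter H)}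
  {P : Subgroup H}

omit [Finite H] in
theorem zpowers_le_center {z : H} (hz : z ∈ Subgroup.center H) :
    Subgroup.zpowers z ≤ Subgroup.center H := Subgroup.zpowers_le.2 hz

omit [Finite H] in
theorem normal_zpowers {z : H} (hz : z ∈ Subgroup.center H) : (Subgroup.zpowers z).Normal :=
  ⟨fun n hn g => by
    have h1 := Subgroup.mem_center_iff.1 (zpowers_le_center hz hn) g
    rw [h1, mul_inv_cancel_right]
    exact hn⟩

/-- First case: `P / ⟨z⟩` has a cyclic subgroup of index at most two. -/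
theorem rank_le_three_of_cyclic (hM : IsPModular 2 M) (hb : IsPBlock M b)
    (hP : IsDefectGroup 2 M b P) {z x : H} (hz : z ∈ Subgroup.center H)
    (hz2 : IsPGroup 2 (Subgroup.zpowers z)) (hx : x ∈ P)
    (hidx : (Subgroup.zpowers x ⊔ Subgroup.zpowers z).relIndex P ≤ 2) : blockRank 2 b ≤ 3 := by
  have hp : Fact (Nat.Prime 2) := ⟨Nat.prime_two⟩
  have := Fintype.ofFinite H
  have hn := normal_zpowers hz
  obtain ⟨hUP, hT⟩ := Cfsg.Agent.H658.isDefectGroup_defl hM (zpowers_le_center hz) hz2 hb hP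
  have hT' : IsPBlock M (defl (Subgroup.zpowers z) b) :=
    isPBlock_defl hM (zpowers_le_center hz) hz2 hb
  rw [← blockRank_defl hM (zpowers_le_center hz) hz2 hb]
  refine Cfsg.Agent.H639.FTA.rank_le_three hM hT' hT
    ((Subgroup.zpowers x).map (QuotientGroup.mk' (Subgroup.zpowers z)))
    (Subgroup.map_mono (Subgroup.zpowers_le.2 hx)) ?_ ?_
  · rw [MonoidHom.map_zpowers]
    infer_instance
  · rw [Subgroup.relIndex_map_map, QuotientGroup.ker_mk', sup_eq_left.2 hUP]
    exact hidx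

/-- Second case: `|P / ⟨z⟩| ≤ 4`. -/
theorem rank_le_three_of_small (hM : IsPModular 2 M) (hb : IsPBlock M b)
    (hP : IsDefectGroup 2 M b P) {z : H} (hz : z ∈ Subgroup.center H)
    (hz2 : IsPGroup 2 (Subgroup.zpowers z)) 
    (hidx : (Subgroup.zpowers z).relIndex P ≤ 4) : blockRank 2 b ≤ 3 := by
  have hp : Fact (Nat.Prime 2) := ⟨Nat.prime_two⟩
  have := Fintype.ofFinite H
  have hn := normal_zpowers hz
  obtain ⟨hUP, hT⟩ := Cfsg.Agent.H658.isDefectGroup_defl hM (zpowers_le_center hz) hz2 hb hP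
  have hT' : IsPBlock M (defl (Subgroup.zpowers z) b) :=
    isPBlock_defl hM (zpowers_le_center hz) hz2 hb
  rw [← blockRank_defl hM (zpowers_le_center hz) hz2 hb]
  refine Cfsg.Agent.H617.SmallRank.blockRank_le_three hM hT' ?_
  have h1 := Cfsg.Agent.S0908.result 2 M hM _ hT' _ hT
  have h2 : Nat.card (P.map (QuotientGroup.mk' (Subgroup.zpowers z))) ≤ 2 ^ 2 := by
    have h3 := Subgroup.relIndex_map_map (QuotientGroup.mk' (Subgroup.zpowers z)) ⊥ P
    rw [Subgroup.map_bot, Subgroup.relIndex_bot_left, QuotientGroup.ker_mk', bot_sup_eq,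
      sup_eq_left.2 hUP] at h3
    rw [h3]
    exact hidx
  rw [h1] at h2
  exact (Nat.pow_le_pow_iff_right (by norm_num)).1 h2

/-- Third case. -/
theorem rank_le_three_of_config (hM : IsPModular 2 M) (hb : IsPBlock M b)
    (hP : IsDefectGroup 2 M b P) {z c e : H} (hz : z ∈ Subgroup.center H) (hz1 : z ≠ 1)
    (hzz : z * z = 1) (hcP : c ∈ P) (hzc : z ∈ Subgroup.zpowers c) (hoc : 8 ≤ orderOf c)
    (hidx : (Subgroup.zpowers c).relIndex P = 4) (heP : e ∈ P) (hec : e ∉ Subgroup.zpowers c)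
    (hee : e * e = 1) (hnorm : ∀ g ∈ P, g * e * g⁻¹ = e ∨ g * e * g⁻¹ = z * e)
    (hnab : ∃ g ∈ P, ∃ h ∈ P, g * h * g⁻¹ * h⁻¹ ∉ Subgroup.zpowers z) : blockRank 2 b ≤ 3 := by
  have hp : Fact (Nat.Prime 2) := ⟨Nat.prime_two⟩
  have := Fintype.ofFinite H
  have hn := normal_zpowers hz
  have hz2 : IsPGroup 2 (Subgroup.zpowers z) := by
    refine IsPGroup.of_card (n := 1) ?_
    rw [Nat.card_zpowers, pow_one]
    exact orderOf_eq_prime (by rw [pow_two, hzz]) hz1
  obtain ⟨hUP, hT⟩ := Cfsg.Agent.H658.isDefectGroup_defl hM (zpowers_le_center hz) hz2 hb hP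
  have hT' : IsPBlock M (defl (Subgroup.zpowers z) b) :=
    isPBlock_defl hM (zpowers_le_center hz) hz2 hb
  rw [← blockRank_defl hM (zpowers_le_center hz) hz2 hb]
  obtain ⟨T, hTd⟩ : ∃ T, T = P.map (QuotientGroup.mk' (Subgroup.zpowers z)) := ⟨_, rfl⟩
  rw [← hTd] at hT
  have hmk : ∀ v : H, QuotientGroup.mk' (Subgroup.zpowers z) v = QuotientGroup.mk v := fun v => rfl
  have hmem : ∀ v ∈ P, (QuotientGroup.mk v : H ⧸ Subgroup.zpowers z) ∈ T := by
    intro v hv
    rw [hTd]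
    exact ⟨v, hv, rfl⟩
  have heq : ∀ v w : H, v⁻¹ * w = 1 ∨ v⁻¹ * w = z →
      (QuotientGroup.mk v : H ⧸ Subgroup.zpowers z) = QuotientGroup.mk w := by
    intro v w h
    refine QuotientGroup.eq.2 ?_
    rwa [mem_zpowers_involution hzz]
  have hTp : IsPGroup 2 T := Cfsg.Agent.Blocks.Basic.isPGroup_of_isDefectGroup hT
  -- `e` becomes central
  have hecen : ∀ s ∈ T, s * (QuotientGroup.mk e : H ⧸ Subgroup.zpowers z) =
      QuotientGroup.mk e * s := by
    intro s hs
    rw [hTd] at hs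
    obtain ⟨g, hg, rfl⟩ := hs
    rw [hmk, ← QuotientGroup.mk_mul, ← QuotientGroup.mk_mul]
    apply heq
    have hzcen : ∀ w : H, w * z = z * w := Subgroup.mem_center_iff.1 hz
    rcases hnorm g⁻¹ (P.inv_mem hg) with h1 | h1
    · left
      have h2 : g⁻¹ * e * g⁻¹⁻¹ = e := h1
      have h3 : g⁻¹ * e * g = e := by simpa using h2
      calc (g * e)⁻¹ * (e * g) = e⁻¹ * (g⁻¹ * e * g) := by group
        _ = 1 := by rw [h3]; group
    · right
      have h3 : g⁻¹ * e * g = z * e := by simpa using h1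
      calc (g * e)⁻¹ * (e * g) = e⁻¹ * (g⁻¹ * e * g) := by group
        _ = e⁻¹ * (z * e) := by rw [h3]
        _ = e⁻¹ * (e * z) := by rw [← hzcen e]
        _ = z := by group
  have hxe : (QuotientGroup.mk c : H ⧸ Subgroup.zpowers z) * QuotientGroup.mk e =
      QuotientGroup.mk e * QuotientGroup.mk c := hecen _ (hmem c hcP)
  have hee' : (QuotientGroup.mk e : H ⧸ Subgroup.zpowers z) * QuotientGroup.mk e = 1 := by
    rw [← QuotientGroup.mk_mul, hee]; rfl
  -- the abelian subgroup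
  obtain ⟨A, hAd⟩ : ∃ A, A = Subgroup.zpowers (QuotientGroup.mk c : H ⧸ Subgroup.zpowers z) ⊔
      Subgroup.zpowers (QuotientGroup.mk e) := ⟨_, rfl⟩
  have hgen : ∀ v ∈ A, ∃ i : ℕ, v = (QuotientGroup.mk c : H ⧸ Subgroup.zpowers z) ^ i ∨
      v = (QuotientGroup.mk c : H ⧸ Subgroup.zpowers z) ^ i * QuotientGroup.mk e := by
    intro v hv
    rw [hAd] at hv
    exact mem_sup_gen hxe hee' hv
  have hAT : A ≤ T := by
    rw [hAd, sup_le_iff, Subgroup.zpowers_le, Subgroup.zpowers_le]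
    exact ⟨hmem c hcP, hmem e heP⟩
  have hcomm : ∀ v ∈ A, ∀ w ∈ A, v * w = w * v := by
    intro v hv w hw
    have hxw : (QuotientGroup.mk c : H ⧸ Subgroup.zpowers z) * w = w * QuotientGroup.mk c := by
      obtain ⟨j, rfl | rfl⟩ := hgen w hw
      · exact ((Commute.refl _).pow_right j).eq
      · rw [← mul_assoc, ← pow_succ', mul_assoc, ← hxe, ← mul_assoc, ← pow_succ]
    have hew := hecen w (hAT hw)
    obtain ⟨i, rfl | rfl⟩ := hgen v hv
    · exact ((Commute.pow_left (show Commute _ w from hxw)) i).eq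
    · have h1 := ((Commute.pow_left (show Commute _ w from hxw)) i).eq
      rw [mul_assoc, ← hew, ← mul_assoc, h1, mul_assoc]
  -- `T` is not abelian
  have hnabT : ∃ g ∈ T, ∃ h ∈ T, g * h ≠ h * g := by
    obtain ⟨g, hg, h, hh, hgh⟩ := hnab
    refine ⟨_, hmem g hg, _, hmem h hh, fun h1 => hgh ?_⟩
    have h2 : (QuotientGroup.mk (g * h * g⁻¹ * h⁻¹) : H ⧸ Subgroup.zpowers z) = 1 := by
      change (QuotientGroup.mk g : H ⧸ Subgroup.zpowers z) * QuotientGroup.mk h *
        (QuotientGroup.mk g)⁻¹ * (QuotientGroup.mk h)⁻¹ = 1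
      rw [h1]; group
    exact (QuotientGroup.eq_one_iff _).1 h2
  -- the index of `A`
  obtain ⟨K, hK⟩ : ∃ K, K = Subgroup.zpowers c ⊔ Subgroup.zpowers e := ⟨_, rfl⟩
  have hKP : K ≤ P := by
    rw [hK, sup_le_iff, Subgroup.zpowers_le, Subgroup.zpowers_le]
    exact ⟨hcP, heP⟩
  have hAmap : K.map (QuotientGroup.mk' (Subgroup.zpowers z)) = A := by
    rw [hK, hAd, Subgroup.map_sup, MonoidHom.map_zpowers, MonoidHom.map_zpowers]
    rfl
  have hUK : Subgroup.zpowers z ≤ K := by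
    rw [hK]
    exact (Subgroup.zpowers_le.2 hzc).trans le_sup_left
  have hAidx : A.relIndex T = K.relIndex P := by
    rw [← hAmap, hTd, Subgroup.relIndex_map_map, QuotientGroup.ker_mk', sup_eq_left.2 hUP,
      sup_eq_left.2 hUK]
  have hmul : (Subgroup.zpowers c).relIndex K * K.relIndex P = 4 := by
    rw [← hidx]
    exact Subgroup.relIndex_mul_relIndex _ _ _ (by rw [hK]; exact le_sup_left) hKP
  have hne1 : (Subgroup.zpowers c).relIndex K ≠ 1 := by
    intro h1
    rw [Subgroup.relIndex_eq_one] at h1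
    apply hec
    apply h1
    rw [hK]
    exact Subgroup.mem_sup_right (Subgroup.mem_zpowers e)
  have hAne : A.relIndex T ≠ 1 := by
    intro h1
    rw [Subgroup.relIndex_eq_one] at h1
    obtain ⟨g, hg, h, hh, hgh⟩ := hnabT
    exact hgh (hcomm g (h1 hg) h (h1 hh))
  have hAidx2 : A.relIndex T = 2 := by
    rw [hAidx] at hAne ⊢
    have h1 : K.relIndex P ∣ 4 := ⟨_, by rw [← hmul, mul_comm]⟩
    have h2 : K.relIndex P ≤ 4 := Nat.le_of_dvd (by norm_num) h1
    have h3 : K.relIndex P ≠ 0 := by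
      intro h4
      rw [h4] at h1
      omega
    have h4 : K.relIndex P ≠ 3 := by
      intro h4
      rw [h4] at h1
      omega
    have h5 : K.relIndex P ≠ 4 := by
      intro h5
      rw [h5] at hmul
      omega
    omega
  -- an element outside `A`
  obtain ⟨y, hyT, hyA⟩ : ∃ y ∈ T, y ∉ A := by
    by_contra hcon
    push Not at hcon
    exact hAne (Subgroup.relIndex_eq_one.2 hcon)
  have hx4 : (QuotientGroup.mk c : H ⧸ Subgroup.zpowers z) * QuotientGroup.mk c ≠ 1 := by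
    intro h1
    have h2 : (QuotientGroup.mk (c * c) : H ⧸ Subgroup.zpowers z) = 1 := h1
    have h3 := (QuotientGroup.eq_one_iff _).1 h2
    have h4 : c ^ 4 = 1 := by
      rw [show (4 : ℕ) = 2 * 2 from rfl, pow_mul, pow_two, pow_two]
      rcases (mem_zpowers_involution hzz).1 h3 with h5 | h5
      · rw [h5, mul_one]
      · rw [h5, hzz]
    have h5 := Nat.le_of_dvd (by norm_num) (orderOf_dvd_of_pow_eq_one h4)
    omega
  have hnc : y * (QuotientGroup.mk c : H ⧸ Subgroup.zpowers z) ≠ QuotientGroup.mk c * y := by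
    intro h1
    have hyA' : ∀ v ∈ A, y * v = v * y := by
      intro v hv
      have hew := hecen y hyT
      obtain ⟨i, rfl | rfl⟩ := hgen v hv
      · exact (Commute.pow_right (show Commute y _ from h1) i).eq
      · have h2 := (Commute.pow_right (show Commute y _ from h1) i).eq
        rw [← mul_assoc, h2, mul_assoc, hew, ← mul_assoc]
    have hcen : ∀ g ∈ T, ∃ v ∈ A, g = v ∨ g = y * v := by
      intro g hg
      by_cases hgA : g ∈ A
      · exact ⟨g, hgA, Or.inl rfl⟩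
      · refine ⟨y⁻¹ * g, Cfsg.Agent.H617.FusTwo.inv_mul_mem_of_relIndex_two hAidx2 hyT hg hyA hgA,
          Or.inr (by group)⟩
    obtain ⟨g, hg, h, hh, hgh⟩ := hnabT
    apply hgh
    obtain ⟨v, hv, hgv⟩ := hcen g hg
    obtain ⟨w, hw, hhw⟩ := hcen h hh
    have h2 := hcomm v hv w hw
    have h3 := hyA' v hv
    have h4 := hyA' w hw
    rcases hgv with rfl | rfl <;> rcases hhw with rfl | rfl
    · exact h2
    · calc g * (y * w) = (g * y) * w := by group
        _ = y * (g * w) := by rw [← h3]; group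
        _ = y * w * g := by rw [h2]; group
    · calc y * v * h = y * (v * h) := by group
        _ = (y * h) * v := by rw [h2]; group
        _ = h * (y * v) := by rw [h4]; group
    · calc y * v * (y * w) = y * (v * y) * w := by group
        _ = y * (y * v) * w := by rw [h3]
        _ = y * y * (v * w) := by group
        _ = y * y * (w * v) := by rw [h2]
        _ = y * (y * w) * v := by group
        _ = y * (w * y) * v := by rw [h4]
        _ = y * w * (y * v) := by group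
  have hgrp : Grp T A (QuotientGroup.mk c : H ⧸ Subgroup.zpowers z) (QuotientGroup.mk e) y :=
    { pgrp := hTp
      le := hAT
      idx := hAidx2
      comm := hcomm
      xA := by rw [hAd]; exact Subgroup.mem_sup_left (Subgroup.mem_zpowers _)
      eZ := mem_Z.2 ⟨hmem e heP, hecen⟩
      ee := hee'
      gen := hgen
      x4 := hx4
      yS := hyT
      yA := hyA
      nc := hnc }
  -- the fusion system
  have hMprime := Cfsg.Agent.Blocks.Local.isPrime_of_isPModular hM
  obtain ⟨f, hf⟩ := Cfsg.Agent.H649.exists_pair_of_isDefectGroup hM hT' hT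
  have hmax := Cfsg.Agent.H644.isMaximalBrauerPair_of_isDefectGroup hM hf hT
  obtain ⟨F, hF, hsat⟩ := Cfsg.Agent.S4677.result 2 M hM _ T f hmax
  refine rank_le_three (a := ⟨T, f⟩) hM hmax hF hsat hT hgrp ?_
  intro E hE α hα hodd
  have h1 := (Cfsg.Agent.H802.mem_autGroup_iff F hE α).1 hα
  obtain ⟨-, g, hg, -⟩ := (hF.2 E _).1 h1
  exact nq_of_quot hz hz1 hzz rfl hzc hodd (g := g) (fun v => hg v)

end Cfsg.Agent.H645.FT
end
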